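import Cfsg.Agent.Lib.Helper5.Fi22Cov.Data

/-! # The sixfold cover of `Fi22`: the table of the generator 0 gives a monomial permutation that is an involution
(kernel checks by ranges of blocks) -/

set_option autoImplicit false
set_option maxRecDepth 1000000

namespace Cfsg.Agent.Lib.Helper5.Fi22Cov

open Cfsg.Agent.PG (allB allB_iff)

theorem mkr0_0 : allB 7722 (fun i => mokb mt0 0 (Nat.add 0 i)) = true := by decide +kernel
theorem mkr0_1 : allB 7722 (fun i => mokb mt0 0 (Nat.add 7722 i)) = true := by decide +kernel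
theorem mkr0_2 : allB 7722 (fun i => mokb mt0 0 (Nat.add 15444 i)) = true := by decide +kernel
theorem mkr0_3 : allB 7722 (fun i => mokb mt0 0 (Nat.add 23166 i)) = true := by decide +kernel
theorem mkr0_4 : allB 7722 (fun i => mokb mt0 0 (Nat.add 30888 i)) = true := by decide +kernel
theorem mkr0_5 : allB 7722 (fun i => mokb mt0 0 (Nat.add 38610 i)) = true := by decide +kernel
theorem mkr0_6 : allB 7722 (fun i => mokb mt0 0 (Nat.add 46332 i)) = true := by decide +kernel
theorem mkr0_7 : allB 7722 (fun i => mokb mt0 0 (Nat.add 54054 i)) = true := by decide +kernel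

theorem chk_mok0 : MOKb mt0 0 = true := by
  show (Nat.blt 0 6 && allB NB (mokb mt0 0)) = true
  rw [Bool.and_eq_true]
  refine ⟨by decide, ?_⟩
  apply allB_iff.2
  intro a ha
  have ha' : a < 61776 := ha
  rcases Nat.lt_or_ge a 7722 with h0 | h0
  · exact allB_range (f := (mokb mt0 0)) (lo := 0) (len := 7722) mkr0_0 (by omega) (by omega)
  rcases Nat.lt_or_ge a 15444 with h1 | h1
  · exact allB_range (f := (mokb mt0 0)) (lo := 7722) (len := 7722) mkr0_1 (by omega) (by omega)
  rcases Nat.lt_or_ge a 23166 with h2 | h2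
  · exact allB_range (f := (mokb mt0 0)) (lo := 15444) (len := 7722) mkr0_2 (by omega) (by omega)
  rcases Nat.lt_or_ge a 30888 with h3 | h3
  · exact allB_range (f := (mokb mt0 0)) (lo := 23166) (len := 7722) mkr0_3 (by omega) (by omega)
  rcases Nat.lt_or_ge a 38610 with h4 | h4
  · exact allB_range (f := (mokb mt0 0)) (lo := 30888) (len := 7722) mkr0_4 (by omega) (by omega)
  rcases Nat.lt_or_ge a 46332 with h5 | h5
  · exact allB_range (f := (mokb mt0 0)) (lo := 38610) (len := 7722) mkr0_5 (by omega) (by omega)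
  rcases Nat.lt_or_ge a 54054 with h6 | h6
  · exact allB_range (f := (mokb mt0 0)) (lo := 46332) (len := 7722) mkr0_6 (by omega) (by omega)
  exact allB_range (f := (mokb mt0 0)) (lo := 54054) (len := 7722) mkr0_7 (by omega) (by omega)

end Cfsg.Agent.Lib.Helper5.Fi22Cov
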