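import Cfsg.Agent.Lib.Helper5.Fi22Cov.Frl

/-! # The sixfold cover of `Fi22`: relators traced on the first rows of the blocks (kernel checks by ranges of blocks, part 1) -/

set_option autoImplicit false
set_option maxRecDepth 1000000

namespace Cfsg.Agent.Lib.Helper5.Fi22Cov

open Cfsg.Agent.PG (allB allB_iff)

theorem trc_r4_4 : allB 7500 (fun i => frl_r4 (Nat.add 30000 i)) = true := by decide +kernel
theorem trc_r4_5 : allB 7500 (fun i => frl_r4 (Nat.add 37500 i)) = true := by decide +kernel
theorem trc_r4_6 : allB 7500 (fun i => frl_r4 (Nat.add 45000 i)) = true := by decide +kernel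
theorem trc_r4_7 : allB 7500 (fun i => frl_r4 (Nat.add 52500 i)) = true := by decide +kernel
theorem trc_r4_8 : allB 1776 (fun i => frl_r4 (Nat.add 60000 i)) = true := by decide +kernel
theorem trc_r5_0 : allB 7500 (fun i => frl_r5 (Nat.add 0 i)) = true := by decide +kernel
theorem trc_r5_1 : allB 7500 (fun i => frl_r5 (Nat.add 7500 i)) = true := by decide +kernel
theorem trc_r5_2 : allB 7500 (fun i => frl_r5 (Nat.add 15000 i)) = true := by decide +kernel
theorem trc_r5_3 : allB 7500 (fun i => frl_r5 (Nat.add 22500 i)) = true := by decide +kernel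
theorem trc_r5_4 : allB 7500 (fun i => frl_r5 (Nat.add 30000 i)) = true := by decide +kernel
theorem trc_r5_5 : allB 7500 (fun i => frl_r5 (Nat.add 37500 i)) = true := by decide +kernel
theorem trc_r5_6 : allB 7500 (fun i => frl_r5 (Nat.add 45000 i)) = true := by decide +kernel
theorem trc_r5_7 : allB 7500 (fun i => frl_r5 (Nat.add 52500 i)) = true := by decide +kernel
theorem trc_r5_8 : allB 1776 (fun i => frl_r5 (Nat.add 60000 i)) = true := by decide +kernel
theorem trc_r6_0 : allB 7500 (fun i => frl_r6 (Nat.add 0 i)) = true := by decide +kernel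
theorem trc_r6_1 : allB 7500 (fun i => frl_r6 (Nat.add 7500 i)) = true := by decide +kernel
theorem trc_r6_2 : allB 7500 (fun i => frl_r6 (Nat.add 15000 i)) = true := by decide +kernel
theorem trc_r6_3 : allB 7500 (fun i => frl_r6 (Nat.add 22500 i)) = true := by decide +kernel
theorem trc_r6_4 : allB 7500 (fun i => frl_r6 (Nat.add 30000 i)) = true := by decide +kernel
theorem trc_r6_5 : allB 7500 (fun i => frl_r6 (Nat.add 37500 i)) = true := by decide +kernel
theorem trc_r6_6 : allB 7500 (fun i => frl_r6 (Nat.add 45000 i)) = true := by decide +kernel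
theorem trc_r6_7 : allB 7500 (fun i => frl_r6 (Nat.add 52500 i)) = true := by decide +kernel
theorem trc_r6_8 : allB 1776 (fun i => frl_r6 (Nat.add 60000 i)) = true := by decide +kernel
theorem trc_r7_0 : allB 7500 (fun i => frl_r7 (Nat.add 0 i)) = true := by decide +kernel
theorem trc_r7_1 : allB 7500 (fun i => frl_r7 (Nat.add 7500 i)) = true := by decide +kernel
theorem trc_r7_2 : allB 7500 (fun i => frl_r7 (Nat.add 15000 i)) = true := by decide +kernel
theorem trc_r7_3 : allB 7500 (fun i => frl_r7 (Nat.add 22500 i)) = true := by decide +kernel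
theorem trc_r7_4 : allB 7500 (fun i => frl_r7 (Nat.add 30000 i)) = true := by decide +kernel
theorem trc_r7_5 : allB 7500 (fun i => frl_r7 (Nat.add 37500 i)) = true := by decide +kernel
theorem trc_r7_6 : allB 7500 (fun i => frl_r7 (Nat.add 45000 i)) = true := by decide +kernel
theorem trc_r7_7 : allB 7500 (fun i => frl_r7 (Nat.add 52500 i)) = true := by decide +kernel
theorem trc_r7_8 : allB 1776 (fun i => frl_r7 (Nat.add 60000 i)) = true := by decide +kernel
theorem trc_r8_0 : allB 7500 (fun i => frl_r8 (Nat.add 0 i)) = true := by decide +kernel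
theorem trc_r8_1 : allB 7500 (fun i => frl_r8 (Nat.add 7500 i)) = true := by decide +kernel
theorem trc_r8_2 : allB 7500 (fun i => frl_r8 (Nat.add 15000 i)) = true := by decide +kernel
theorem trc_r8_3 : allB 7500 (fun i => frl_r8 (Nat.add 22500 i)) = true := by decide +kernel
theorem trc_r8_4 : allB 7500 (fun i => frl_r8 (Nat.add 30000 i)) = true := by decide +kernel
theorem trc_r8_5 : allB 7500 (fun i => frl_r8 (Nat.add 37500 i)) = true := by decide +kernel
theorem trc_r8_6 : allB 7500 (fun i => frl_r8 (Nat.add 45000 i)) = true := by decide +kernel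
theorem trc_r8_7 : allB 7500 (fun i => frl_r8 (Nat.add 52500 i)) = true := by decide +kernel

end Cfsg.Agent.Lib.Helper5.Fi22Cov
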