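import Cfsg.Agent.Lib.Helper5.Fi22Cov.Frl

/-! # The sixfold cover of `Fi22`: relators traced on the first rows of the blocks (kernel checks by ranges of blocks, part 10) -/

set_option autoImplicit false
set_option maxRecDepth 1000000

namespace Cfsg.Agent.Lib.Helper5.Fi22Cov

open Cfsg.Agent.PG (allB allB_iff)

theorem trc_r42_2 : allB 7500 (fun i => frl_r42 (Nat.add 15000 i)) = true := by decide +kernel
theorem trc_r42_3 : allB 7500 (fun i => frl_r42 (Nat.add 22500 i)) = true := by decide +kernel
theorem trc_r42_4 : allB 7500 (fun i => frl_r42 (Nat.add 30000 i)) = true := by decide +kernel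
theorem trc_r42_5 : allB 7500 (fun i => frl_r42 (Nat.add 37500 i)) = true := by decide +kernel
theorem trc_r42_6 : allB 7500 (fun i => frl_r42 (Nat.add 45000 i)) = true := by decide +kernel
theorem trc_r42_7 : allB 7500 (fun i => frl_r42 (Nat.add 52500 i)) = true := by decide +kernel
theorem trc_r42_8 : allB 1776 (fun i => frl_r42 (Nat.add 60000 i)) = true := by decide +kernel
theorem trc_r43_0 : allB 7500 (fun i => frl_r43 (Nat.add 0 i)) = true := by decide +kernel
theorem trc_r43_1 : allB 7500 (fun i => frl_r43 (Nat.add 7500 i)) = true := by decide +kernel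
theorem trc_r43_2 : allB 7500 (fun i => frl_r43 (Nat.add 15000 i)) = true := by decide +kernel
theorem trc_r43_3 : allB 7500 (fun i => frl_r43 (Nat.add 22500 i)) = true := by decide +kernel
theorem trc_r43_4 : allB 7500 (fun i => frl_r43 (Nat.add 30000 i)) = true := by decide +kernel
theorem trc_r43_5 : allB 7500 (fun i => frl_r43 (Nat.add 37500 i)) = true := by decide +kernel
theorem trc_r43_6 : allB 7500 (fun i => frl_r43 (Nat.add 45000 i)) = true := by decide +kernel
theorem trc_r43_7 : allB 7500 (fun i => frl_r43 (Nat.add 52500 i)) = true := by decide +kernel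
theorem trc_r43_8 : allB 1776 (fun i => frl_r43 (Nat.add 60000 i)) = true := by decide +kernel
theorem trc_r44_0 : allB 7500 (fun i => frl_r44 (Nat.add 0 i)) = true := by decide +kernel
theorem trc_r44_1 : allB 7500 (fun i => frl_r44 (Nat.add 7500 i)) = true := by decide +kernel
theorem trc_r44_2 : allB 7500 (fun i => frl_r44 (Nat.add 15000 i)) = true := by decide +kernel
theorem trc_r44_3 : allB 7500 (fun i => frl_r44 (Nat.add 22500 i)) = true := by decide +kernel
theorem trc_r44_4 : allB 7500 (fun i => frl_r44 (Nat.add 30000 i)) = true := by decide +kernel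
theorem trc_r44_5 : allB 7500 (fun i => frl_r44 (Nat.add 37500 i)) = true := by decide +kernel
theorem trc_r44_6 : allB 7500 (fun i => frl_r44 (Nat.add 45000 i)) = true := by decide +kernel
theorem trc_r44_7 : allB 7500 (fun i => frl_r44 (Nat.add 52500 i)) = true := by decide +kernel
theorem trc_r44_8 : allB 1776 (fun i => frl_r44 (Nat.add 60000 i)) = true := by decide +kernel
theorem trc_r45_0 : allB 7500 (fun i => frl_r45 (Nat.add 0 i)) = true := by decide +kernel
theorem trc_r45_1 : allB 7500 (fun i => frl_r45 (Nat.add 7500 i)) = true := by decide +kernel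
theorem trc_r45_2 : allB 7500 (fun i => frl_r45 (Nat.add 15000 i)) = true := by decide +kernel
theorem trc_r45_3 : allB 7500 (fun i => frl_r45 (Nat.add 22500 i)) = true := by decide +kernel
theorem trc_r45_4 : allB 7500 (fun i => frl_r45 (Nat.add 30000 i)) = true := by decide +kernel
theorem trc_r45_5 : allB 7500 (fun i => frl_r45 (Nat.add 37500 i)) = true := by decide +kernel
theorem trc_r45_6 : allB 7500 (fun i => frl_r45 (Nat.add 45000 i)) = true := by decide +kernel
theorem trc_r45_7 : allB 7500 (fun i => frl_r45 (Nat.add 52500 i)) = true := by decide +kernel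
theorem trc_r45_8 : allB 1776 (fun i => frl_r45 (Nat.add 60000 i)) = true := by decide +kernel
theorem trc_r46_0 : allB 7500 (fun i => frl_r46 (Nat.add 0 i)) = true := by decide +kernel
theorem trc_r46_1 : allB 7500 (fun i => frl_r46 (Nat.add 7500 i)) = true := by decide +kernel
theorem trc_r46_2 : allB 7500 (fun i => frl_r46 (Nat.add 15000 i)) = true := by decide +kernel
theorem trc_r46_3 : allB 7500 (fun i => frl_r46 (Nat.add 22500 i)) = true := by decide +kernel
theorem trc_r46_4 : allB 7500 (fun i => frl_r46 (Nat.add 30000 i)) = true := by decide +kernel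
theorem trc_r46_5 : allB 7500 (fun i => frl_r46 (Nat.add 37500 i)) = true := by decide +kernel

end Cfsg.Agent.Lib.Helper5.Fi22Cov
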