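import Cfsg.Agent.Lib.Helper5.Fi22Cov.Frl

/-! # The sixfold cover of `Fi22`: relators traced on the first rows of the blocks (kernel checks by ranges of blocks, part 11) -/

set_option autoImplicit false
set_option maxRecDepth 1000000

namespace Cfsg.Agent.Lib.Helper5.Fi22Cov

open Cfsg.Agent.PG (allB allB_iff)

theorem trc_r46_6 : allB 7500 (fun i => frl_r46 (Nat.add 45000 i)) = true := by decide +kernel
theorem trc_r46_7 : allB 7500 (fun i => frl_r46 (Nat.add 52500 i)) = true := by decide +kernel
theorem trc_r46_8 : allB 1776 (fun i => frl_r46 (Nat.add 60000 i)) = true := by decide +kernel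
theorem trc_r47_0 : allB 7500 (fun i => frl_r47 (Nat.add 0 i)) = true := by decide +kernel
theorem trc_r47_1 : allB 7500 (fun i => frl_r47 (Nat.add 7500 i)) = true := by decide +kernel
theorem trc_r47_2 : allB 7500 (fun i => frl_r47 (Nat.add 15000 i)) = true := by decide +kernel
theorem trc_r47_3 : allB 7500 (fun i => frl_r47 (Nat.add 22500 i)) = true := by decide +kernel
theorem trc_r47_4 : allB 7500 (fun i => frl_r47 (Nat.add 30000 i)) = true := by decide +kernel
theorem trc_r47_5 : allB 7500 (fun i => frl_r47 (Nat.add 37500 i)) = true := by decide +kernel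
theorem trc_r47_6 : allB 7500 (fun i => frl_r47 (Nat.add 45000 i)) = true := by decide +kernel
theorem trc_r47_7 : allB 7500 (fun i => frl_r47 (Nat.add 52500 i)) = true := by decide +kernel
theorem trc_r47_8 : allB 1776 (fun i => frl_r47 (Nat.add 60000 i)) = true := by decide +kernel
theorem trc_r48_0 : allB 7500 (fun i => frl_r48 (Nat.add 0 i)) = true := by decide +kernel
theorem trc_r48_1 : allB 7500 (fun i => frl_r48 (Nat.add 7500 i)) = true := by decide +kernel
theorem trc_r48_2 : allB 7500 (fun i => frl_r48 (Nat.add 15000 i)) = true := by decide +kernel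
theorem trc_r48_3 : allB 7500 (fun i => frl_r48 (Nat.add 22500 i)) = true := by decide +kernel
theorem trc_r48_4 : allB 7500 (fun i => frl_r48 (Nat.add 30000 i)) = true := by decide +kernel
theorem trc_r48_5 : allB 7500 (fun i => frl_r48 (Nat.add 37500 i)) = true := by decide +kernel
theorem trc_r48_6 : allB 7500 (fun i => frl_r48 (Nat.add 45000 i)) = true := by decide +kernel
theorem trc_r48_7 : allB 7500 (fun i => frl_r48 (Nat.add 52500 i)) = true := by decide +kernel
theorem trc_r48_8 : allB 1776 (fun i => frl_r48 (Nat.add 60000 i)) = true := by decide +kernel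
theorem trc_r49_0 : allB 5000 (fun i => frl_r49 (Nat.add 0 i)) = true := by decide +kernel
theorem trc_r49_1 : allB 5000 (fun i => frl_r49 (Nat.add 5000 i)) = true := by decide +kernel
theorem trc_r49_2 : allB 5000 (fun i => frl_r49 (Nat.add 10000 i)) = true := by decide +kernel
theorem trc_r49_3 : allB 5000 (fun i => frl_r49 (Nat.add 15000 i)) = true := by decide +kernel
theorem trc_r49_4 : allB 5000 (fun i => frl_r49 (Nat.add 20000 i)) = true := by decide +kernel
theorem trc_r49_5 : allB 5000 (fun i => frl_r49 (Nat.add 25000 i)) = true := by decide +kernel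
theorem trc_r49_6 : allB 5000 (fun i => frl_r49 (Nat.add 30000 i)) = true := by decide +kernel
theorem trc_r49_7 : allB 5000 (fun i => frl_r49 (Nat.add 35000 i)) = true := by decide +kernel
theorem trc_r49_8 : allB 5000 (fun i => frl_r49 (Nat.add 40000 i)) = true := by decide +kernel
theorem trc_r49_9 : allB 5000 (fun i => frl_r49 (Nat.add 45000 i)) = true := by decide +kernel
theorem trc_r49_10 : allB 5000 (fun i => frl_r49 (Nat.add 50000 i)) = true := by decide +kernel
theorem trc_r49_11 : allB 5000 (fun i => frl_r49 (Nat.add 55000 i)) = true := by decide +kernel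
theorem trc_r49_12 : allB 1776 (fun i => frl_r49 (Nat.add 60000 i)) = true := by decide +kernel
theorem trc_r50_0 : allB 15000 (fun i => frl_r50 (Nat.add 0 i)) = true := by decide +kernel
theorem trc_r50_1 : allB 15000 (fun i => frl_r50 (Nat.add 15000 i)) = true := by decide +kernel
theorem trc_r50_2 : allB 15000 (fun i => frl_r50 (Nat.add 30000 i)) = true := by decide +kernel
theorem trc_r50_3 : allB 15000 (fun i => frl_r50 (Nat.add 45000 i)) = true := by decide +kernel
theorem trc_r50_4 : allB 1776 (fun i => frl_r50 (Nat.add 60000 i)) = true := by decide +kernel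
theorem trc_r51_0 : allB 5000 (fun i => frl_r51 (Nat.add 0 i)) = true := by decide +kernel

end Cfsg.Agent.Lib.Helper5.Fi22Cov
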