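import Cfsg.Agent.Lib.Helper5.Fi22Cov.Frl

/-! # The sixfold cover of `Fi22`: relators traced on the first rows of the blocks (kernel checks by ranges of blocks, part 12) -/

set_option autoImplicit false
set_option maxRecDepth 1000000

namespace Cfsg.Agent.Lib.Helper5.Fi22Cov

open Cfsg.Agent.PG (allB allB_iff)

theorem trc_r51_1 : allB 5000 (fun i => frl_r51 (Nat.add 5000 i)) = true := by decide +kernel
theorem trc_r51_2 : allB 5000 (fun i => frl_r51 (Nat.add 10000 i)) = true := by decide +kernel
theorem trc_r51_3 : allB 5000 (fun i => frl_r51 (Nat.add 15000 i)) = true := by decide +kernel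
theorem trc_r51_4 : allB 5000 (fun i => frl_r51 (Nat.add 20000 i)) = true := by decide +kernel
theorem trc_r51_5 : allB 5000 (fun i => frl_r51 (Nat.add 25000 i)) = true := by decide +kernel
theorem trc_r51_6 : allB 5000 (fun i => frl_r51 (Nat.add 30000 i)) = true := by decide +kernel
theorem trc_r51_7 : allB 5000 (fun i => frl_r51 (Nat.add 35000 i)) = true := by decide +kernel
theorem trc_r51_8 : allB 5000 (fun i => frl_r51 (Nat.add 40000 i)) = true := by decide +kernel
theorem trc_r51_9 : allB 5000 (fun i => frl_r51 (Nat.add 45000 i)) = true := by decide +kernel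
theorem trc_r51_10 : allB 5000 (fun i => frl_r51 (Nat.add 50000 i)) = true := by decide +kernel
theorem trc_r51_11 : allB 5000 (fun i => frl_r51 (Nat.add 55000 i)) = true := by decide +kernel
theorem trc_r51_12 : allB 1776 (fun i => frl_r51 (Nat.add 60000 i)) = true := by decide +kernel
theorem trc_r52_0 : allB 7500 (fun i => frl_r52 (Nat.add 0 i)) = true := by decide +kernel
theorem trc_r52_1 : allB 7500 (fun i => frl_r52 (Nat.add 7500 i)) = true := by decide +kernel
theorem trc_r52_2 : allB 7500 (fun i => frl_r52 (Nat.add 15000 i)) = true := by decide +kernel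
theorem trc_r52_3 : allB 7500 (fun i => frl_r52 (Nat.add 22500 i)) = true := by decide +kernel
theorem trc_r52_4 : allB 7500 (fun i => frl_r52 (Nat.add 30000 i)) = true := by decide +kernel
theorem trc_r52_5 : allB 7500 (fun i => frl_r52 (Nat.add 37500 i)) = true := by decide +kernel
theorem trc_r52_6 : allB 7500 (fun i => frl_r52 (Nat.add 45000 i)) = true := by decide +kernel
theorem trc_r52_7 : allB 7500 (fun i => frl_r52 (Nat.add 52500 i)) = true := by decide +kernel
theorem trc_r52_8 : allB 1776 (fun i => frl_r52 (Nat.add 60000 i)) = true := by decide +kernel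
theorem trc_r53_0 : allB 7500 (fun i => frl_r53 (Nat.add 0 i)) = true := by decide +kernel
theorem trc_r53_1 : allB 7500 (fun i => frl_r53 (Nat.add 7500 i)) = true := by decide +kernel
theorem trc_r53_2 : allB 7500 (fun i => frl_r53 (Nat.add 15000 i)) = true := by decide +kernel
theorem trc_r53_3 : allB 7500 (fun i => frl_r53 (Nat.add 22500 i)) = true := by decide +kernel
theorem trc_r53_4 : allB 7500 (fun i => frl_r53 (Nat.add 30000 i)) = true := by decide +kernel
theorem trc_r53_5 : allB 7500 (fun i => frl_r53 (Nat.add 37500 i)) = true := by decide +kernel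
theorem trc_r53_6 : allB 7500 (fun i => frl_r53 (Nat.add 45000 i)) = true := by decide +kernel
theorem trc_r53_7 : allB 7500 (fun i => frl_r53 (Nat.add 52500 i)) = true := by decide +kernel
theorem trc_r53_8 : allB 1776 (fun i => frl_r53 (Nat.add 60000 i)) = true := by decide +kernel
theorem trc_r54_0 : allB 7500 (fun i => frl_r54 (Nat.add 0 i)) = true := by decide +kernel
theorem trc_r54_1 : allB 7500 (fun i => frl_r54 (Nat.add 7500 i)) = true := by decide +kernel
theorem trc_r54_2 : allB 7500 (fun i => frl_r54 (Nat.add 15000 i)) = true := by decide +kernel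
theorem trc_r54_3 : allB 7500 (fun i => frl_r54 (Nat.add 22500 i)) = true := by decide +kernel
theorem trc_r54_4 : allB 7500 (fun i => frl_r54 (Nat.add 30000 i)) = true := by decide +kernel
theorem trc_r54_5 : allB 7500 (fun i => frl_r54 (Nat.add 37500 i)) = true := by decide +kernel
theorem trc_r54_6 : allB 7500 (fun i => frl_r54 (Nat.add 45000 i)) = true := by decide +kernel
theorem trc_r54_7 : allB 7500 (fun i => frl_r54 (Nat.add 52500 i)) = true := by decide +kernel
theorem trc_r54_8 : allB 1776 (fun i => frl_r54 (Nat.add 60000 i)) = true := by decide +kernel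
theorem trc_r55_0 : allB 7500 (fun i => frl_r55 (Nat.add 0 i)) = true := by decide +kernel

end Cfsg.Agent.Lib.Helper5.Fi22Cov
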