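import Cfsg.Agent.Lib.Helper5.Fi22Cov.Frl

/-! # The sixfold cover of `Fi22`: relators traced on the first rows of the blocks (kernel checks by ranges of blocks, part 13) -/

set_option autoImplicit false
set_option maxRecDepth 1000000

namespace Cfsg.Agent.Lib.Helper5.Fi22Cov

open Cfsg.Agent.PG (allB allB_iff)

theorem trc_r55_1 : allB 7500 (fun i => frl_r55 (Nat.add 7500 i)) = true := by decide +kernel
theorem trc_r55_2 : allB 7500 (fun i => frl_r55 (Nat.add 15000 i)) = true := by decide +kernel
theorem trc_r55_3 : allB 7500 (fun i => frl_r55 (Nat.add 22500 i)) = true := by decide +kernel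
theorem trc_r55_4 : allB 7500 (fun i => frl_r55 (Nat.add 30000 i)) = true := by decide +kernel
theorem trc_r55_5 : allB 7500 (fun i => frl_r55 (Nat.add 37500 i)) = true := by decide +kernel
theorem trc_r55_6 : allB 7500 (fun i => frl_r55 (Nat.add 45000 i)) = true := by decide +kernel
theorem trc_r55_7 : allB 7500 (fun i => frl_r55 (Nat.add 52500 i)) = true := by decide +kernel
theorem trc_r55_8 : allB 1776 (fun i => frl_r55 (Nat.add 60000 i)) = true := by decide +kernel
theorem trc_r56_0 : allB 7500 (fun i => frl_r56 (Nat.add 0 i)) = true := by decide +kernel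
theorem trc_r56_1 : allB 7500 (fun i => frl_r56 (Nat.add 7500 i)) = true := by decide +kernel
theorem trc_r56_2 : allB 7500 (fun i => frl_r56 (Nat.add 15000 i)) = true := by decide +kernel
theorem trc_r56_3 : allB 7500 (fun i => frl_r56 (Nat.add 22500 i)) = true := by decide +kernel
theorem trc_r56_4 : allB 7500 (fun i => frl_r56 (Nat.add 30000 i)) = true := by decide +kernel
theorem trc_r56_5 : allB 7500 (fun i => frl_r56 (Nat.add 37500 i)) = true := by decide +kernel
theorem trc_r56_6 : allB 7500 (fun i => frl_r56 (Nat.add 45000 i)) = true := by decide +kernel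
theorem trc_r56_7 : allB 7500 (fun i => frl_r56 (Nat.add 52500 i)) = true := by decide +kernel
theorem trc_r56_8 : allB 1776 (fun i => frl_r56 (Nat.add 60000 i)) = true := by decide +kernel
theorem trc_r57_0 : allB 7500 (fun i => frl_r57 (Nat.add 0 i)) = true := by decide +kernel
theorem trc_r57_1 : allB 7500 (fun i => frl_r57 (Nat.add 7500 i)) = true := by decide +kernel
theorem trc_r57_2 : allB 7500 (fun i => frl_r57 (Nat.add 15000 i)) = true := by decide +kernel
theorem trc_r57_3 : allB 7500 (fun i => frl_r57 (Nat.add 22500 i)) = true := by decide +kernel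
theorem trc_r57_4 : allB 7500 (fun i => frl_r57 (Nat.add 30000 i)) = true := by decide +kernel
theorem trc_r57_5 : allB 7500 (fun i => frl_r57 (Nat.add 37500 i)) = true := by decide +kernel
theorem trc_r57_6 : allB 7500 (fun i => frl_r57 (Nat.add 45000 i)) = true := by decide +kernel
theorem trc_r57_7 : allB 7500 (fun i => frl_r57 (Nat.add 52500 i)) = true := by decide +kernel
theorem trc_r57_8 : allB 1776 (fun i => frl_r57 (Nat.add 60000 i)) = true := by decide +kernel
theorem trc_r58_0 : allB 7500 (fun i => frl_r58 (Nat.add 0 i)) = true := by decide +kernel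
theorem trc_r58_1 : allB 7500 (fun i => frl_r58 (Nat.add 7500 i)) = true := by decide +kernel
theorem trc_r58_2 : allB 7500 (fun i => frl_r58 (Nat.add 15000 i)) = true := by decide +kernel
theorem trc_r58_3 : allB 7500 (fun i => frl_r58 (Nat.add 22500 i)) = true := by decide +kernel
theorem trc_r58_4 : allB 7500 (fun i => frl_r58 (Nat.add 30000 i)) = true := by decide +kernel
theorem trc_r58_5 : allB 7500 (fun i => frl_r58 (Nat.add 37500 i)) = true := by decide +kernel
theorem trc_r58_6 : allB 7500 (fun i => frl_r58 (Nat.add 45000 i)) = true := by decide +kernel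
theorem trc_r58_7 : allB 7500 (fun i => frl_r58 (Nat.add 52500 i)) = true := by decide +kernel
theorem trc_r58_8 : allB 1776 (fun i => frl_r58 (Nat.add 60000 i)) = true := by decide +kernel
theorem trc_r59_0 : allB 5000 (fun i => frl_r59 (Nat.add 0 i)) = true := by decide +kernel
theorem trc_r59_1 : allB 5000 (fun i => frl_r59 (Nat.add 5000 i)) = true := by decide +kernel
theorem trc_r59_2 : allB 5000 (fun i => frl_r59 (Nat.add 10000 i)) = true := by decide +kernel
theorem trc_r59_3 : allB 5000 (fun i => frl_r59 (Nat.add 15000 i)) = true := by decide +kernel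
theorem trc_r59_4 : allB 5000 (fun i => frl_r59 (Nat.add 20000 i)) = true := by decide +kernel

end Cfsg.Agent.Lib.Helper5.Fi22Cov
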