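import Cfsg.Agent.Lib.Helper5.Fi22Cov.Frl

/-! # The sixfold cover of `Fi22`: relators traced on the first rows of the blocks (kernel checks by ranges of blocks, part 14) -/

set_option autoImplicit false
set_option maxRecDepth 1000000

namespace Cfsg.Agent.Lib.Helper5.Fi22Cov

open Cfsg.Agent.PG (allB allB_iff)

theorem trc_r59_5 : allB 5000 (fun i => frl_r59 (Nat.add 25000 i)) = true := by decide +kernel
theorem trc_r59_6 : allB 5000 (fun i => frl_r59 (Nat.add 30000 i)) = true := by decide +kernel
theorem trc_r59_7 : allB 5000 (fun i => frl_r59 (Nat.add 35000 i)) = true := by decide +kernel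
theorem trc_r59_8 : allB 5000 (fun i => frl_r59 (Nat.add 40000 i)) = true := by decide +kernel
theorem trc_r59_9 : allB 5000 (fun i => frl_r59 (Nat.add 45000 i)) = true := by decide +kernel
theorem trc_r59_10 : allB 5000 (fun i => frl_r59 (Nat.add 50000 i)) = true := by decide +kernel
theorem trc_r59_11 : allB 5000 (fun i => frl_r59 (Nat.add 55000 i)) = true := by decide +kernel
theorem trc_r59_12 : allB 1776 (fun i => frl_r59 (Nat.add 60000 i)) = true := by decide +kernel
theorem trc_r60_0 : allB 15000 (fun i => frl_r60 (Nat.add 0 i)) = true := by decide +kernel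
theorem trc_r60_1 : allB 15000 (fun i => frl_r60 (Nat.add 15000 i)) = true := by decide +kernel
theorem trc_r60_2 : allB 15000 (fun i => frl_r60 (Nat.add 30000 i)) = true := by decide +kernel
theorem trc_r60_3 : allB 15000 (fun i => frl_r60 (Nat.add 45000 i)) = true := by decide +kernel
theorem trc_r60_4 : allB 1776 (fun i => frl_r60 (Nat.add 60000 i)) = true := by decide +kernel
theorem trc_r61_0 : allB 7500 (fun i => frl_r61 (Nat.add 0 i)) = true := by decide +kernel
theorem trc_r61_1 : allB 7500 (fun i => frl_r61 (Nat.add 7500 i)) = true := by decide +kernel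
theorem trc_r61_2 : allB 7500 (fun i => frl_r61 (Nat.add 15000 i)) = true := by decide +kernel
theorem trc_r61_3 : allB 7500 (fun i => frl_r61 (Nat.add 22500 i)) = true := by decide +kernel
theorem trc_r61_4 : allB 7500 (fun i => frl_r61 (Nat.add 30000 i)) = true := by decide +kernel
theorem trc_r61_5 : allB 7500 (fun i => frl_r61 (Nat.add 37500 i)) = true := by decide +kernel
theorem trc_r61_6 : allB 7500 (fun i => frl_r61 (Nat.add 45000 i)) = true := by decide +kernel
theorem trc_r61_7 : allB 7500 (fun i => frl_r61 (Nat.add 52500 i)) = true := by decide +kernel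
theorem trc_r61_8 : allB 1776 (fun i => frl_r61 (Nat.add 60000 i)) = true := by decide +kernel
theorem trc_r62_0 : allB 7500 (fun i => frl_r62 (Nat.add 0 i)) = true := by decide +kernel
theorem trc_r62_1 : allB 7500 (fun i => frl_r62 (Nat.add 7500 i)) = true := by decide +kernel
theorem trc_r62_2 : allB 7500 (fun i => frl_r62 (Nat.add 15000 i)) = true := by decide +kernel
theorem trc_r62_3 : allB 7500 (fun i => frl_r62 (Nat.add 22500 i)) = true := by decide +kernel
theorem trc_r62_4 : allB 7500 (fun i => frl_r62 (Nat.add 30000 i)) = true := by decide +kernel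
theorem trc_r62_5 : allB 7500 (fun i => frl_r62 (Nat.add 37500 i)) = true := by decide +kernel
theorem trc_r62_6 : allB 7500 (fun i => frl_r62 (Nat.add 45000 i)) = true := by decide +kernel
theorem trc_r62_7 : allB 7500 (fun i => frl_r62 (Nat.add 52500 i)) = true := by decide +kernel
theorem trc_r62_8 : allB 1776 (fun i => frl_r62 (Nat.add 60000 i)) = true := by decide +kernel
theorem trc_r63_0 : allB 7500 (fun i => frl_r63 (Nat.add 0 i)) = true := by decide +kernel
theorem trc_r63_1 : allB 7500 (fun i => frl_r63 (Nat.add 7500 i)) = true := by decide +kernel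
theorem trc_r63_2 : allB 7500 (fun i => frl_r63 (Nat.add 15000 i)) = true := by decide +kernel
theorem trc_r63_3 : allB 7500 (fun i => frl_r63 (Nat.add 22500 i)) = true := by decide +kernel
theorem trc_r63_4 : allB 7500 (fun i => frl_r63 (Nat.add 30000 i)) = true := by decide +kernel
theorem trc_r63_5 : allB 7500 (fun i => frl_r63 (Nat.add 37500 i)) = true := by decide +kernel
theorem trc_r63_6 : allB 7500 (fun i => frl_r63 (Nat.add 45000 i)) = true := by decide +kernel
theorem trc_r63_7 : allB 7500 (fun i => frl_r63 (Nat.add 52500 i)) = true := by decide +kernel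
theorem trc_r63_8 : allB 1776 (fun i => frl_r63 (Nat.add 60000 i)) = true := by decide +kernel

end Cfsg.Agent.Lib.Helper5.Fi22Cov
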