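import Cfsg.Agent.Lib.Helper5.Fi22Cov.Frl

/-! # The sixfold cover of `Fi22`: relators traced on the first rows of the blocks (kernel checks by ranges of blocks, part 15) -/

set_option autoImplicit false
set_option maxRecDepth 1000000

namespace Cfsg.Agent.Lib.Helper5.Fi22Cov

open Cfsg.Agent.PG (allB allB_iff)

theorem trc_r64_0 : allB 7500 (fun i => frl_r64 (Nat.add 0 i)) = true := by decide +kernel
theorem trc_r64_1 : allB 7500 (fun i => frl_r64 (Nat.add 7500 i)) = true := by decide +kernel
theorem trc_r64_2 : allB 7500 (fun i => frl_r64 (Nat.add 15000 i)) = true := by decide +kernel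
theorem trc_r64_3 : allB 7500 (fun i => frl_r64 (Nat.add 22500 i)) = true := by decide +kernel
theorem trc_r64_4 : allB 7500 (fun i => frl_r64 (Nat.add 30000 i)) = true := by decide +kernel
theorem trc_r64_5 : allB 7500 (fun i => frl_r64 (Nat.add 37500 i)) = true := by decide +kernel
theorem trc_r64_6 : allB 7500 (fun i => frl_r64 (Nat.add 45000 i)) = true := by decide +kernel
theorem trc_r64_7 : allB 7500 (fun i => frl_r64 (Nat.add 52500 i)) = true := by decide +kernel
theorem trc_r64_8 : allB 1776 (fun i => frl_r64 (Nat.add 60000 i)) = true := by decide +kernel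
theorem trc_r65_0 : allB 7500 (fun i => frl_r65 (Nat.add 0 i)) = true := by decide +kernel
theorem trc_r65_1 : allB 7500 (fun i => frl_r65 (Nat.add 7500 i)) = true := by decide +kernel
theorem trc_r65_2 : allB 7500 (fun i => frl_r65 (Nat.add 15000 i)) = true := by decide +kernel
theorem trc_r65_3 : allB 7500 (fun i => frl_r65 (Nat.add 22500 i)) = true := by decide +kernel
theorem trc_r65_4 : allB 7500 (fun i => frl_r65 (Nat.add 30000 i)) = true := by decide +kernel
theorem trc_r65_5 : allB 7500 (fun i => frl_r65 (Nat.add 37500 i)) = true := by decide +kernel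
theorem trc_r65_6 : allB 7500 (fun i => frl_r65 (Nat.add 45000 i)) = true := by decide +kernel
theorem trc_r65_7 : allB 7500 (fun i => frl_r65 (Nat.add 52500 i)) = true := by decide +kernel
theorem trc_r65_8 : allB 1776 (fun i => frl_r65 (Nat.add 60000 i)) = true := by decide +kernel
theorem trc_r66_0 : allB 5000 (fun i => frl_r66 (Nat.add 0 i)) = true := by decide +kernel
theorem trc_r66_1 : allB 5000 (fun i => frl_r66 (Nat.add 5000 i)) = true := by decide +kernel
theorem trc_r66_2 : allB 5000 (fun i => frl_r66 (Nat.add 10000 i)) = true := by decide +kernel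
theorem trc_r66_3 : allB 5000 (fun i => frl_r66 (Nat.add 15000 i)) = true := by decide +kernel
theorem trc_r66_4 : allB 5000 (fun i => frl_r66 (Nat.add 20000 i)) = true := by decide +kernel
theorem trc_r66_5 : allB 5000 (fun i => frl_r66 (Nat.add 25000 i)) = true := by decide +kernel
theorem trc_r66_6 : allB 5000 (fun i => frl_r66 (Nat.add 30000 i)) = true := by decide +kernel
theorem trc_r66_7 : allB 5000 (fun i => frl_r66 (Nat.add 35000 i)) = true := by decide +kernel
theorem trc_r66_8 : allB 5000 (fun i => frl_r66 (Nat.add 40000 i)) = true := by decide +kernel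
theorem trc_r66_9 : allB 5000 (fun i => frl_r66 (Nat.add 45000 i)) = true := by decide +kernel
theorem trc_r66_10 : allB 5000 (fun i => frl_r66 (Nat.add 50000 i)) = true := by decide +kernel
theorem trc_r66_11 : allB 5000 (fun i => frl_r66 (Nat.add 55000 i)) = true := by decide +kernel
theorem trc_r66_12 : allB 1776 (fun i => frl_r66 (Nat.add 60000 i)) = true := by decide +kernel
theorem trc_r67_0 : allB 7500 (fun i => frl_r67 (Nat.add 0 i)) = true := by decide +kernel
theorem trc_r67_1 : allB 7500 (fun i => frl_r67 (Nat.add 7500 i)) = true := by decide +kernel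
theorem trc_r67_2 : allB 7500 (fun i => frl_r67 (Nat.add 15000 i)) = true := by decide +kernel
theorem trc_r67_3 : allB 7500 (fun i => frl_r67 (Nat.add 22500 i)) = true := by decide +kernel
theorem trc_r67_4 : allB 7500 (fun i => frl_r67 (Nat.add 30000 i)) = true := by decide +kernel
theorem trc_r67_5 : allB 7500 (fun i => frl_r67 (Nat.add 37500 i)) = true := by decide +kernel
theorem trc_r67_6 : allB 7500 (fun i => frl_r67 (Nat.add 45000 i)) = true := by decide +kernel
theorem trc_r67_7 : allB 7500 (fun i => frl_r67 (Nat.add 52500 i)) = true := by decide +kernel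
theorem trc_r67_8 : allB 1776 (fun i => frl_r67 (Nat.add 60000 i)) = true := by decide +kernel

end Cfsg.Agent.Lib.Helper5.Fi22Cov
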