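import Cfsg.Agent.Lib.Helper5.Fi22Cov.Frl

/-! # The sixfold cover of `Fi22`: relators traced on the first rows of the blocks (kernel checks by ranges of blocks, part 16) -/

set_option autoImplicit false
set_option maxRecDepth 1000000

namespace Cfsg.Agent.Lib.Helper5.Fi22Cov

open Cfsg.Agent.PG (allB allB_iff)

theorem trc_r68_0 : allB 7500 (fun i => frl_r68 (Nat.add 0 i)) = true := by decide +kernel
theorem trc_r68_1 : allB 7500 (fun i => frl_r68 (Nat.add 7500 i)) = true := by decide +kernel
theorem trc_r68_2 : allB 7500 (fun i => frl_r68 (Nat.add 15000 i)) = true := by decide +kernel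
theorem trc_r68_3 : allB 7500 (fun i => frl_r68 (Nat.add 22500 i)) = true := by decide +kernel
theorem trc_r68_4 : allB 7500 (fun i => frl_r68 (Nat.add 30000 i)) = true := by decide +kernel
theorem trc_r68_5 : allB 7500 (fun i => frl_r68 (Nat.add 37500 i)) = true := by decide +kernel
theorem trc_r68_6 : allB 7500 (fun i => frl_r68 (Nat.add 45000 i)) = true := by decide +kernel
theorem trc_r68_7 : allB 7500 (fun i => frl_r68 (Nat.add 52500 i)) = true := by decide +kernel
theorem trc_r68_8 : allB 1776 (fun i => frl_r68 (Nat.add 60000 i)) = true := by decide +kernel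
theorem trc_r69_0 : allB 7500 (fun i => frl_r69 (Nat.add 0 i)) = true := by decide +kernel
theorem trc_r69_1 : allB 7500 (fun i => frl_r69 (Nat.add 7500 i)) = true := by decide +kernel
theorem trc_r69_2 : allB 7500 (fun i => frl_r69 (Nat.add 15000 i)) = true := by decide +kernel
theorem trc_r69_3 : allB 7500 (fun i => frl_r69 (Nat.add 22500 i)) = true := by decide +kernel
theorem trc_r69_4 : allB 7500 (fun i => frl_r69 (Nat.add 30000 i)) = true := by decide +kernel
theorem trc_r69_5 : allB 7500 (fun i => frl_r69 (Nat.add 37500 i)) = true := by decide +kernel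
theorem trc_r69_6 : allB 7500 (fun i => frl_r69 (Nat.add 45000 i)) = true := by decide +kernel
theorem trc_r69_7 : allB 7500 (fun i => frl_r69 (Nat.add 52500 i)) = true := by decide +kernel
theorem trc_r69_8 : allB 1776 (fun i => frl_r69 (Nat.add 60000 i)) = true := by decide +kernel
theorem trc_r70_0 : allB 15000 (fun i => frl_r70 (Nat.add 0 i)) = true := by decide +kernel
theorem trc_r70_1 : allB 15000 (fun i => frl_r70 (Nat.add 15000 i)) = true := by decide +kernel
theorem trc_r70_2 : allB 15000 (fun i => frl_r70 (Nat.add 30000 i)) = true := by decide +kernel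
theorem trc_r70_3 : allB 15000 (fun i => frl_r70 (Nat.add 45000 i)) = true := by decide +kernel
theorem trc_r70_4 : allB 1776 (fun i => frl_r70 (Nat.add 60000 i)) = true := by decide +kernel
theorem trc_r71_0 : allB 5000 (fun i => frl_r71 (Nat.add 0 i)) = true := by decide +kernel
theorem trc_r71_1 : allB 5000 (fun i => frl_r71 (Nat.add 5000 i)) = true := by decide +kernel
theorem trc_r71_2 : allB 5000 (fun i => frl_r71 (Nat.add 10000 i)) = true := by decide +kernel
theorem trc_r71_3 : allB 5000 (fun i => frl_r71 (Nat.add 15000 i)) = true := by decide +kernel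
theorem trc_r71_4 : allB 5000 (fun i => frl_r71 (Nat.add 20000 i)) = true := by decide +kernel
theorem trc_r71_5 : allB 5000 (fun i => frl_r71 (Nat.add 25000 i)) = true := by decide +kernel
theorem trc_r71_6 : allB 5000 (fun i => frl_r71 (Nat.add 30000 i)) = true := by decide +kernel
theorem trc_r71_7 : allB 5000 (fun i => frl_r71 (Nat.add 35000 i)) = true := by decide +kernel
theorem trc_r71_8 : allB 5000 (fun i => frl_r71 (Nat.add 40000 i)) = true := by decide +kernel
theorem trc_r71_9 : allB 5000 (fun i => frl_r71 (Nat.add 45000 i)) = true := by decide +kernel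
theorem trc_r71_10 : allB 5000 (fun i => frl_r71 (Nat.add 50000 i)) = true := by decide +kernel
theorem trc_r71_11 : allB 5000 (fun i => frl_r71 (Nat.add 55000 i)) = true := by decide +kernel
theorem trc_r71_12 : allB 1776 (fun i => frl_r71 (Nat.add 60000 i)) = true := by decide +kernel
theorem trc_r72_0 : allB 7500 (fun i => frl_r72 (Nat.add 0 i)) = true := by decide +kernel
theorem trc_r72_1 : allB 7500 (fun i => frl_r72 (Nat.add 7500 i)) = true := by decide +kernel
theorem trc_r72_2 : allB 7500 (fun i => frl_r72 (Nat.add 15000 i)) = true := by decide +kernel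
theorem trc_r72_3 : allB 7500 (fun i => frl_r72 (Nat.add 22500 i)) = true := by decide +kernel

end Cfsg.Agent.Lib.Helper5.Fi22Cov
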