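import Cfsg.Agent.Lib.Helper5.Fi22Cov.Frl

/-! # The sixfold cover of `Fi22`: relators traced on the first rows of the blocks (kernel checks by ranges of blocks, part 17) -/

set_option autoImplicit false
set_option maxRecDepth 1000000

namespace Cfsg.Agent.Lib.Helper5.Fi22Cov

open Cfsg.Agent.PG (allB allB_iff)

theorem trc_r72_4 : allB 7500 (fun i => frl_r72 (Nat.add 30000 i)) = true := by decide +kernel
theorem trc_r72_5 : allB 7500 (fun i => frl_r72 (Nat.add 37500 i)) = true := by decide +kernel
theorem trc_r72_6 : allB 7500 (fun i => frl_r72 (Nat.add 45000 i)) = true := by decide +kernel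
theorem trc_r72_7 : allB 7500 (fun i => frl_r72 (Nat.add 52500 i)) = true := by decide +kernel
theorem trc_r72_8 : allB 1776 (fun i => frl_r72 (Nat.add 60000 i)) = true := by decide +kernel
theorem trc_r73_0 : allB 7500 (fun i => frl_r73 (Nat.add 0 i)) = true := by decide +kernel
theorem trc_r73_1 : allB 7500 (fun i => frl_r73 (Nat.add 7500 i)) = true := by decide +kernel
theorem trc_r73_2 : allB 7500 (fun i => frl_r73 (Nat.add 15000 i)) = true := by decide +kernel
theorem trc_r73_3 : allB 7500 (fun i => frl_r73 (Nat.add 22500 i)) = true := by decide +kernel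
theorem trc_r73_4 : allB 7500 (fun i => frl_r73 (Nat.add 30000 i)) = true := by decide +kernel
theorem trc_r73_5 : allB 7500 (fun i => frl_r73 (Nat.add 37500 i)) = true := by decide +kernel
theorem trc_r73_6 : allB 7500 (fun i => frl_r73 (Nat.add 45000 i)) = true := by decide +kernel
theorem trc_r73_7 : allB 7500 (fun i => frl_r73 (Nat.add 52500 i)) = true := by decide +kernel
theorem trc_r73_8 : allB 1776 (fun i => frl_r73 (Nat.add 60000 i)) = true := by decide +kernel
theorem trc_r74_0 : allB 7500 (fun i => frl_r74 (Nat.add 0 i)) = true := by decide +kernel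
theorem trc_r74_1 : allB 7500 (fun i => frl_r74 (Nat.add 7500 i)) = true := by decide +kernel
theorem trc_r74_2 : allB 7500 (fun i => frl_r74 (Nat.add 15000 i)) = true := by decide +kernel
theorem trc_r74_3 : allB 7500 (fun i => frl_r74 (Nat.add 22500 i)) = true := by decide +kernel
theorem trc_r74_4 : allB 7500 (fun i => frl_r74 (Nat.add 30000 i)) = true := by decide +kernel
theorem trc_r74_5 : allB 7500 (fun i => frl_r74 (Nat.add 37500 i)) = true := by decide +kernel
theorem trc_r74_6 : allB 7500 (fun i => frl_r74 (Nat.add 45000 i)) = true := by decide +kernel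
theorem trc_r74_7 : allB 7500 (fun i => frl_r74 (Nat.add 52500 i)) = true := by decide +kernel
theorem trc_r74_8 : allB 1776 (fun i => frl_r74 (Nat.add 60000 i)) = true := by decide +kernel
theorem trc_r75_0 : allB 7500 (fun i => frl_r75 (Nat.add 0 i)) = true := by decide +kernel
theorem trc_r75_1 : allB 7500 (fun i => frl_r75 (Nat.add 7500 i)) = true := by decide +kernel
theorem trc_r75_2 : allB 7500 (fun i => frl_r75 (Nat.add 15000 i)) = true := by decide +kernel
theorem trc_r75_3 : allB 7500 (fun i => frl_r75 (Nat.add 22500 i)) = true := by decide +kernel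
theorem trc_r75_4 : allB 7500 (fun i => frl_r75 (Nat.add 30000 i)) = true := by decide +kernel
theorem trc_r75_5 : allB 7500 (fun i => frl_r75 (Nat.add 37500 i)) = true := by decide +kernel
theorem trc_r75_6 : allB 7500 (fun i => frl_r75 (Nat.add 45000 i)) = true := by decide +kernel
theorem trc_r75_7 : allB 7500 (fun i => frl_r75 (Nat.add 52500 i)) = true := by decide +kernel
theorem trc_r75_8 : allB 1776 (fun i => frl_r75 (Nat.add 60000 i)) = true := by decide +kernel
theorem trc_r76_0 : allB 7500 (fun i => frl_r76 (Nat.add 0 i)) = true := by decide +kernel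
theorem trc_r76_1 : allB 7500 (fun i => frl_r76 (Nat.add 7500 i)) = true := by decide +kernel
theorem trc_r76_2 : allB 7500 (fun i => frl_r76 (Nat.add 15000 i)) = true := by decide +kernel
theorem trc_r76_3 : allB 7500 (fun i => frl_r76 (Nat.add 22500 i)) = true := by decide +kernel
theorem trc_r76_4 : allB 7500 (fun i => frl_r76 (Nat.add 30000 i)) = true := by decide +kernel
theorem trc_r76_5 : allB 7500 (fun i => frl_r76 (Nat.add 37500 i)) = true := by decide +kernel
theorem trc_r76_6 : allB 7500 (fun i => frl_r76 (Nat.add 45000 i)) = true := by decide +kernel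
theorem trc_r76_7 : allB 7500 (fun i => frl_r76 (Nat.add 52500 i)) = true := by decide +kernel

end Cfsg.Agent.Lib.Helper5.Fi22Cov
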