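import Cfsg.Agent.Lib.Helper5.Fi22Cov.Frl

/-! # The sixfold cover of `Fi22`: relators traced on the first rows of the blocks (kernel checks by ranges of blocks, part 18) -/

set_option autoImplicit false
set_option maxRecDepth 1000000

namespace Cfsg.Agent.Lib.Helper5.Fi22Cov

open Cfsg.Agent.PG (allB allB_iff)

theorem trc_r76_8 : allB 1776 (fun i => frl_r76 (Nat.add 60000 i)) = true := by decide +kernel
theorem trc_r77_0 : allB 7500 (fun i => frl_r77 (Nat.add 0 i)) = true := by decide +kernel
theorem trc_r77_1 : allB 7500 (fun i => frl_r77 (Nat.add 7500 i)) = true := by decide +kernel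
theorem trc_r77_2 : allB 7500 (fun i => frl_r77 (Nat.add 15000 i)) = true := by decide +kernel
theorem trc_r77_3 : allB 7500 (fun i => frl_r77 (Nat.add 22500 i)) = true := by decide +kernel
theorem trc_r77_4 : allB 7500 (fun i => frl_r77 (Nat.add 30000 i)) = true := by decide +kernel
theorem trc_r77_5 : allB 7500 (fun i => frl_r77 (Nat.add 37500 i)) = true := by decide +kernel
theorem trc_r77_6 : allB 7500 (fun i => frl_r77 (Nat.add 45000 i)) = true := by decide +kernel
theorem trc_r77_7 : allB 7500 (fun i => frl_r77 (Nat.add 52500 i)) = true := by decide +kernel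
theorem trc_r77_8 : allB 1776 (fun i => frl_r77 (Nat.add 60000 i)) = true := by decide +kernel
theorem trc_r78_0 : allB 7500 (fun i => frl_r78 (Nat.add 0 i)) = true := by decide +kernel
theorem trc_r78_1 : allB 7500 (fun i => frl_r78 (Nat.add 7500 i)) = true := by decide +kernel
theorem trc_r78_2 : allB 7500 (fun i => frl_r78 (Nat.add 15000 i)) = true := by decide +kernel
theorem trc_r78_3 : allB 7500 (fun i => frl_r78 (Nat.add 22500 i)) = true := by decide +kernel
theorem trc_r78_4 : allB 7500 (fun i => frl_r78 (Nat.add 30000 i)) = true := by decide +kernel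
theorem trc_r78_5 : allB 7500 (fun i => frl_r78 (Nat.add 37500 i)) = true := by decide +kernel
theorem trc_r78_6 : allB 7500 (fun i => frl_r78 (Nat.add 45000 i)) = true := by decide +kernel
theorem trc_r78_7 : allB 7500 (fun i => frl_r78 (Nat.add 52500 i)) = true := by decide +kernel
theorem trc_r78_8 : allB 1776 (fun i => frl_r78 (Nat.add 60000 i)) = true := by decide +kernel
theorem trc_r79_0 : allB 5000 (fun i => frl_r79 (Nat.add 0 i)) = true := by decide +kernel
theorem trc_r79_1 : allB 5000 (fun i => frl_r79 (Nat.add 5000 i)) = true := by decide +kernel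
theorem trc_r79_2 : allB 5000 (fun i => frl_r79 (Nat.add 10000 i)) = true := by decide +kernel
theorem trc_r79_3 : allB 5000 (fun i => frl_r79 (Nat.add 15000 i)) = true := by decide +kernel
theorem trc_r79_4 : allB 5000 (fun i => frl_r79 (Nat.add 20000 i)) = true := by decide +kernel
theorem trc_r79_5 : allB 5000 (fun i => frl_r79 (Nat.add 25000 i)) = true := by decide +kernel
theorem trc_r79_6 : allB 5000 (fun i => frl_r79 (Nat.add 30000 i)) = true := by decide +kernel
theorem trc_r79_7 : allB 5000 (fun i => frl_r79 (Nat.add 35000 i)) = true := by decide +kernel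
theorem trc_r79_8 : allB 5000 (fun i => frl_r79 (Nat.add 40000 i)) = true := by decide +kernel
theorem trc_r79_9 : allB 5000 (fun i => frl_r79 (Nat.add 45000 i)) = true := by decide +kernel
theorem trc_r79_10 : allB 5000 (fun i => frl_r79 (Nat.add 50000 i)) = true := by decide +kernel
theorem trc_r79_11 : allB 5000 (fun i => frl_r79 (Nat.add 55000 i)) = true := by decide +kernel
theorem trc_r79_12 : allB 1776 (fun i => frl_r79 (Nat.add 60000 i)) = true := by decide +kernel
theorem trc_r80_0 : allB 15000 (fun i => frl_r80 (Nat.add 0 i)) = true := by decide +kernel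
theorem trc_r80_1 : allB 15000 (fun i => frl_r80 (Nat.add 15000 i)) = true := by decide +kernel
theorem trc_r80_2 : allB 15000 (fun i => frl_r80 (Nat.add 30000 i)) = true := by decide +kernel
theorem trc_r80_3 : allB 15000 (fun i => frl_r80 (Nat.add 45000 i)) = true := by decide +kernel
theorem trc_r80_4 : allB 1776 (fun i => frl_r80 (Nat.add 60000 i)) = true := by decide +kernel
theorem trc_r81_0 : allB 333 (fun i => frl_r81 (Nat.add 0 i)) = true := by decide +kernel
theorem trc_r81_1 : allB 333 (fun i => frl_r81 (Nat.add 333 i)) = true := by decide +kernel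
theorem trc_r81_2 : allB 333 (fun i => frl_r81 (Nat.add 666 i)) = true := by decide +kernel

end Cfsg.Agent.Lib.Helper5.Fi22Cov
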