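import Cfsg.Agent.Lib.Helper5.Fi22Cov.Frl

/-! # The sixfold cover of `Fi22`: relators traced on the first rows of the blocks (kernel checks by ranges of blocks, part 19) -/

set_option autoImplicit false
set_option maxRecDepth 1000000

namespace Cfsg.Agent.Lib.Helper5.Fi22Cov

open Cfsg.Agent.PG (allB allB_iff)

theorem trc_r81_3 : allB 333 (fun i => frl_r81 (Nat.add 999 i)) = true := by decide +kernel
theorem trc_r81_4 : allB 333 (fun i => frl_r81 (Nat.add 1332 i)) = true := by decide +kernel
theorem trc_r81_5 : allB 333 (fun i => frl_r81 (Nat.add 1665 i)) = true := by decide +kernel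
theorem trc_r81_6 : allB 333 (fun i => frl_r81 (Nat.add 1998 i)) = true := by decide +kernel
theorem trc_r81_7 : allB 333 (fun i => frl_r81 (Nat.add 2331 i)) = true := by decide +kernel
theorem trc_r81_8 : allB 333 (fun i => frl_r81 (Nat.add 2664 i)) = true := by decide +kernel
theorem trc_r81_9 : allB 333 (fun i => frl_r81 (Nat.add 2997 i)) = true := by decide +kernel
theorem trc_r81_10 : allB 333 (fun i => frl_r81 (Nat.add 3330 i)) = true := by decide +kernel
theorem trc_r81_11 : allB 333 (fun i => frl_r81 (Nat.add 3663 i)) = true := by decide +kernel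
theorem trc_r81_12 : allB 333 (fun i => frl_r81 (Nat.add 3996 i)) = true := by decide +kernel
theorem trc_r81_13 : allB 333 (fun i => frl_r81 (Nat.add 4329 i)) = true := by decide +kernel
theorem trc_r81_14 : allB 333 (fun i => frl_r81 (Nat.add 4662 i)) = true := by decide +kernel
theorem trc_r81_15 : allB 333 (fun i => frl_r81 (Nat.add 4995 i)) = true := by decide +kernel
theorem trc_r81_16 : allB 333 (fun i => frl_r81 (Nat.add 5328 i)) = true := by decide +kernel
theorem trc_r81_17 : allB 333 (fun i => frl_r81 (Nat.add 5661 i)) = true := by decide +kernel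
theorem trc_r81_18 : allB 333 (fun i => frl_r81 (Nat.add 5994 i)) = true := by decide +kernel
theorem trc_r81_19 : allB 333 (fun i => frl_r81 (Nat.add 6327 i)) = true := by decide +kernel
theorem trc_r81_20 : allB 333 (fun i => frl_r81 (Nat.add 6660 i)) = true := by decide +kernel
theorem trc_r81_21 : allB 333 (fun i => frl_r81 (Nat.add 6993 i)) = true := by decide +kernel
theorem trc_r81_22 : allB 333 (fun i => frl_r81 (Nat.add 7326 i)) = true := by decide +kernel
theorem trc_r81_23 : allB 333 (fun i => frl_r81 (Nat.add 7659 i)) = true := by decide +kernel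
theorem trc_r81_24 : allB 333 (fun i => frl_r81 (Nat.add 7992 i)) = true := by decide +kernel
theorem trc_r81_25 : allB 333 (fun i => frl_r81 (Nat.add 8325 i)) = true := by decide +kernel
theorem trc_r81_26 : allB 333 (fun i => frl_r81 (Nat.add 8658 i)) = true := by decide +kernel
theorem trc_r81_27 : allB 333 (fun i => frl_r81 (Nat.add 8991 i)) = true := by decide +kernel
theorem trc_r81_28 : allB 333 (fun i => frl_r81 (Nat.add 9324 i)) = true := by decide +kernel
theorem trc_r81_29 : allB 333 (fun i => frl_r81 (Nat.add 9657 i)) = true := by decide +kernel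
theorem trc_r81_30 : allB 333 (fun i => frl_r81 (Nat.add 9990 i)) = true := by decide +kernel
theorem trc_r81_31 : allB 333 (fun i => frl_r81 (Nat.add 10323 i)) = true := by decide +kernel
theorem trc_r81_32 : allB 333 (fun i => frl_r81 (Nat.add 10656 i)) = true := by decide +kernel
theorem trc_r81_33 : allB 333 (fun i => frl_r81 (Nat.add 10989 i)) = true := by decide +kernel
theorem trc_r81_34 : allB 333 (fun i => frl_r81 (Nat.add 11322 i)) = true := by decide +kernel
theorem trc_r81_35 : allB 333 (fun i => frl_r81 (Nat.add 11655 i)) = true := by decide +kernel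
theorem trc_r81_36 : allB 333 (fun i => frl_r81 (Nat.add 11988 i)) = true := by decide +kernel
theorem trc_r81_37 : allB 333 (fun i => frl_r81 (Nat.add 12321 i)) = true := by decide +kernel
theorem trc_r81_38 : allB 333 (fun i => frl_r81 (Nat.add 12654 i)) = true := by decide +kernel
theorem trc_r81_39 : allB 333 (fun i => frl_r81 (Nat.add 12987 i)) = true := by decide +kernel
theorem trc_r81_40 : allB 333 (fun i => frl_r81 (Nat.add 13320 i)) = true := by decide +kernel
theorem trc_r81_41 : allB 333 (fun i => frl_r81 (Nat.add 13653 i)) = true := by decide +kernel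
theorem trc_r81_42 : allB 333 (fun i => frl_r81 (Nat.add 13986 i)) = true := by decide +kernel

end Cfsg.Agent.Lib.Helper5.Fi22Cov
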