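import Cfsg.Agent.Lib.Helper5.Fi22Cov.Frl

/-! # The sixfold cover of `Fi22`: relators traced on the first rows of the blocks (kernel checks by ranges of blocks, part 20) -/

set_option autoImplicit false
set_option maxRecDepth 1000000

namespace Cfsg.Agent.Lib.Helper5.Fi22Cov

open Cfsg.Agent.PG (allB allB_iff)

theorem trc_r81_43 : allB 333 (fun i => frl_r81 (Nat.add 14319 i)) = true := by decide +kernel
theorem trc_r81_44 : allB 333 (fun i => frl_r81 (Nat.add 14652 i)) = true := by decide +kernel
theorem trc_r81_45 : allB 333 (fun i => frl_r81 (Nat.add 14985 i)) = true := by decide +kernel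
theorem trc_r81_46 : allB 333 (fun i => frl_r81 (Nat.add 15318 i)) = true := by decide +kernel
theorem trc_r81_47 : allB 333 (fun i => frl_r81 (Nat.add 15651 i)) = true := by decide +kernel
theorem trc_r81_48 : allB 333 (fun i => frl_r81 (Nat.add 15984 i)) = true := by decide +kernel
theorem trc_r81_49 : allB 333 (fun i => frl_r81 (Nat.add 16317 i)) = true := by decide +kernel
theorem trc_r81_50 : allB 333 (fun i => frl_r81 (Nat.add 16650 i)) = true := by decide +kernel
theorem trc_r81_51 : allB 333 (fun i => frl_r81 (Nat.add 16983 i)) = true := by decide +kernel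
theorem trc_r81_52 : allB 333 (fun i => frl_r81 (Nat.add 17316 i)) = true := by decide +kernel
theorem trc_r81_53 : allB 333 (fun i => frl_r81 (Nat.add 17649 i)) = true := by decide +kernel
theorem trc_r81_54 : allB 333 (fun i => frl_r81 (Nat.add 17982 i)) = true := by decide +kernel
theorem trc_r81_55 : allB 333 (fun i => frl_r81 (Nat.add 18315 i)) = true := by decide +kernel
theorem trc_r81_56 : allB 333 (fun i => frl_r81 (Nat.add 18648 i)) = true := by decide +kernel
theorem trc_r81_57 : allB 333 (fun i => frl_r81 (Nat.add 18981 i)) = true := by decide +kernel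
theorem trc_r81_58 : allB 333 (fun i => frl_r81 (Nat.add 19314 i)) = true := by decide +kernel
theorem trc_r81_59 : allB 333 (fun i => frl_r81 (Nat.add 19647 i)) = true := by decide +kernel
theorem trc_r81_60 : allB 333 (fun i => frl_r81 (Nat.add 19980 i)) = true := by decide +kernel
theorem trc_r81_61 : allB 333 (fun i => frl_r81 (Nat.add 20313 i)) = true := by decide +kernel
theorem trc_r81_62 : allB 333 (fun i => frl_r81 (Nat.add 20646 i)) = true := by decide +kernel
theorem trc_r81_63 : allB 333 (fun i => frl_r81 (Nat.add 20979 i)) = true := by decide +kernel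
theorem trc_r81_64 : allB 333 (fun i => frl_r81 (Nat.add 21312 i)) = true := by decide +kernel
theorem trc_r81_65 : allB 333 (fun i => frl_r81 (Nat.add 21645 i)) = true := by decide +kernel
theorem trc_r81_66 : allB 333 (fun i => frl_r81 (Nat.add 21978 i)) = true := by decide +kernel
theorem trc_r81_67 : allB 333 (fun i => frl_r81 (Nat.add 22311 i)) = true := by decide +kernel
theorem trc_r81_68 : allB 333 (fun i => frl_r81 (Nat.add 22644 i)) = true := by decide +kernel
theorem trc_r81_69 : allB 333 (fun i => frl_r81 (Nat.add 22977 i)) = true := by decide +kernel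
theorem trc_r81_70 : allB 333 (fun i => frl_r81 (Nat.add 23310 i)) = true := by decide +kernel
theorem trc_r81_71 : allB 333 (fun i => frl_r81 (Nat.add 23643 i)) = true := by decide +kernel
theorem trc_r81_72 : allB 333 (fun i => frl_r81 (Nat.add 23976 i)) = true := by decide +kernel
theorem trc_r81_73 : allB 333 (fun i => frl_r81 (Nat.add 24309 i)) = true := by decide +kernel
theorem trc_r81_74 : allB 333 (fun i => frl_r81 (Nat.add 24642 i)) = true := by decide +kernel
theorem trc_r81_75 : allB 333 (fun i => frl_r81 (Nat.add 24975 i)) = true := by decide +kernel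
theorem trc_r81_76 : allB 333 (fun i => frl_r81 (Nat.add 25308 i)) = true := by decide +kernel
theorem trc_r81_77 : allB 333 (fun i => frl_r81 (Nat.add 25641 i)) = true := by decide +kernel
theorem trc_r81_78 : allB 333 (fun i => frl_r81 (Nat.add 25974 i)) = true := by decide +kernel
theorem trc_r81_79 : allB 333 (fun i => frl_r81 (Nat.add 26307 i)) = true := by decide +kernel
theorem trc_r81_80 : allB 333 (fun i => frl_r81 (Nat.add 26640 i)) = true := by decide +kernel
theorem trc_r81_81 : allB 333 (fun i => frl_r81 (Nat.add 26973 i)) = true := by decide +kernel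
theorem trc_r81_82 : allB 333 (fun i => frl_r81 (Nat.add 27306 i)) = true := by decide +kernel

end Cfsg.Agent.Lib.Helper5.Fi22Cov
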