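import Cfsg.Agent.Lib.Helper5.Fi22Cov.Frl

/-! # The sixfold cover of `Fi22`: relators traced on the first rows of the blocks (kernel checks by ranges of blocks, part 21) -/

set_option autoImplicit false
set_option maxRecDepth 1000000

namespace Cfsg.Agent.Lib.Helper5.Fi22Cov

open Cfsg.Agent.PG (allB allB_iff)

theorem trc_r81_83 : allB 333 (fun i => frl_r81 (Nat.add 27639 i)) = true := by decide +kernel
theorem trc_r81_84 : allB 333 (fun i => frl_r81 (Nat.add 27972 i)) = true := by decide +kernel
theorem trc_r81_85 : allB 333 (fun i => frl_r81 (Nat.add 28305 i)) = true := by decide +kernel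
theorem trc_r81_86 : allB 333 (fun i => frl_r81 (Nat.add 28638 i)) = true := by decide +kernel
theorem trc_r81_87 : allB 333 (fun i => frl_r81 (Nat.add 28971 i)) = true := by decide +kernel
theorem trc_r81_88 : allB 333 (fun i => frl_r81 (Nat.add 29304 i)) = true := by decide +kernel
theorem trc_r81_89 : allB 333 (fun i => frl_r81 (Nat.add 29637 i)) = true := by decide +kernel
theorem trc_r81_90 : allB 333 (fun i => frl_r81 (Nat.add 29970 i)) = true := by decide +kernel
theorem trc_r81_91 : allB 333 (fun i => frl_r81 (Nat.add 30303 i)) = true := by decide +kernel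
theorem trc_r81_92 : allB 333 (fun i => frl_r81 (Nat.add 30636 i)) = true := by decide +kernel
theorem trc_r81_93 : allB 333 (fun i => frl_r81 (Nat.add 30969 i)) = true := by decide +kernel
theorem trc_r81_94 : allB 333 (fun i => frl_r81 (Nat.add 31302 i)) = true := by decide +kernel
theorem trc_r81_95 : allB 333 (fun i => frl_r81 (Nat.add 31635 i)) = true := by decide +kernel
theorem trc_r81_96 : allB 333 (fun i => frl_r81 (Nat.add 31968 i)) = true := by decide +kernel
theorem trc_r81_97 : allB 333 (fun i => frl_r81 (Nat.add 32301 i)) = true := by decide +kernel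
theorem trc_r81_98 : allB 333 (fun i => frl_r81 (Nat.add 32634 i)) = true := by decide +kernel
theorem trc_r81_99 : allB 333 (fun i => frl_r81 (Nat.add 32967 i)) = true := by decide +kernel
theorem trc_r81_100 : allB 333 (fun i => frl_r81 (Nat.add 33300 i)) = true := by decide +kernel
theorem trc_r81_101 : allB 333 (fun i => frl_r81 (Nat.add 33633 i)) = true := by decide +kernel
theorem trc_r81_102 : allB 333 (fun i => frl_r81 (Nat.add 33966 i)) = true := by decide +kernel
theorem trc_r81_103 : allB 333 (fun i => frl_r81 (Nat.add 34299 i)) = true := by decide +kernel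
theorem trc_r81_104 : allB 333 (fun i => frl_r81 (Nat.add 34632 i)) = true := by decide +kernel
theorem trc_r81_105 : allB 333 (fun i => frl_r81 (Nat.add 34965 i)) = true := by decide +kernel
theorem trc_r81_106 : allB 333 (fun i => frl_r81 (Nat.add 35298 i)) = true := by decide +kernel
theorem trc_r81_107 : allB 333 (fun i => frl_r81 (Nat.add 35631 i)) = true := by decide +kernel
theorem trc_r81_108 : allB 333 (fun i => frl_r81 (Nat.add 35964 i)) = true := by decide +kernel
theorem trc_r81_109 : allB 333 (fun i => frl_r81 (Nat.add 36297 i)) = true := by decide +kernel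
theorem trc_r81_110 : allB 333 (fun i => frl_r81 (Nat.add 36630 i)) = true := by decide +kernel
theorem trc_r81_111 : allB 333 (fun i => frl_r81 (Nat.add 36963 i)) = true := by decide +kernel
theorem trc_r81_112 : allB 333 (fun i => frl_r81 (Nat.add 37296 i)) = true := by decide +kernel
theorem trc_r81_113 : allB 333 (fun i => frl_r81 (Nat.add 37629 i)) = true := by decide +kernel
theorem trc_r81_114 : allB 333 (fun i => frl_r81 (Nat.add 37962 i)) = true := by decide +kernel
theorem trc_r81_115 : allB 333 (fun i => frl_r81 (Nat.add 38295 i)) = true := by decide +kernel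
theorem trc_r81_116 : allB 333 (fun i => frl_r81 (Nat.add 38628 i)) = true := by decide +kernel
theorem trc_r81_117 : allB 333 (fun i => frl_r81 (Nat.add 38961 i)) = true := by decide +kernel
theorem trc_r81_118 : allB 333 (fun i => frl_r81 (Nat.add 39294 i)) = true := by decide +kernel
theorem trc_r81_119 : allB 333 (fun i => frl_r81 (Nat.add 39627 i)) = true := by decide +kernel
theorem trc_r81_120 : allB 333 (fun i => frl_r81 (Nat.add 39960 i)) = true := by decide +kernel
theorem trc_r81_121 : allB 333 (fun i => frl_r81 (Nat.add 40293 i)) = true := by decide +kernel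
theorem trc_r81_122 : allB 333 (fun i => frl_r81 (Nat.add 40626 i)) = true := by decide +kernel

end Cfsg.Agent.Lib.Helper5.Fi22Cov
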