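import Cfsg.Agent.Lib.Helper5.Fi22Cov.Frl

/-! # The sixfold cover of `Fi22`: relators traced on the first rows of the blocks (kernel checks by ranges of blocks, part 22) -/

set_option autoImplicit false
set_option maxRecDepth 1000000

namespace Cfsg.Agent.Lib.Helper5.Fi22Cov

open Cfsg.Agent.PG (allB allB_iff)

theorem trc_r81_123 : allB 333 (fun i => frl_r81 (Nat.add 40959 i)) = true := by decide +kernel
theorem trc_r81_124 : allB 333 (fun i => frl_r81 (Nat.add 41292 i)) = true := by decide +kernel
theorem trc_r81_125 : allB 333 (fun i => frl_r81 (Nat.add 41625 i)) = true := by decide +kernel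
theorem trc_r81_126 : allB 333 (fun i => frl_r81 (Nat.add 41958 i)) = true := by decide +kernel
theorem trc_r81_127 : allB 333 (fun i => frl_r81 (Nat.add 42291 i)) = true := by decide +kernel
theorem trc_r81_128 : allB 333 (fun i => frl_r81 (Nat.add 42624 i)) = true := by decide +kernel
theorem trc_r81_129 : allB 333 (fun i => frl_r81 (Nat.add 42957 i)) = true := by decide +kernel
theorem trc_r81_130 : allB 333 (fun i => frl_r81 (Nat.add 43290 i)) = true := by decide +kernel
theorem trc_r81_131 : allB 333 (fun i => frl_r81 (Nat.add 43623 i)) = true := by decide +kernel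
theorem trc_r81_132 : allB 333 (fun i => frl_r81 (Nat.add 43956 i)) = true := by decide +kernel
theorem trc_r81_133 : allB 333 (fun i => frl_r81 (Nat.add 44289 i)) = true := by decide +kernel
theorem trc_r81_134 : allB 333 (fun i => frl_r81 (Nat.add 44622 i)) = true := by decide +kernel
theorem trc_r81_135 : allB 333 (fun i => frl_r81 (Nat.add 44955 i)) = true := by decide +kernel
theorem trc_r81_136 : allB 333 (fun i => frl_r81 (Nat.add 45288 i)) = true := by decide +kernel
theorem trc_r81_137 : allB 333 (fun i => frl_r81 (Nat.add 45621 i)) = true := by decide +kernel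
theorem trc_r81_138 : allB 333 (fun i => frl_r81 (Nat.add 45954 i)) = true := by decide +kernel
theorem trc_r81_139 : allB 333 (fun i => frl_r81 (Nat.add 46287 i)) = true := by decide +kernel
theorem trc_r81_140 : allB 333 (fun i => frl_r81 (Nat.add 46620 i)) = true := by decide +kernel
theorem trc_r81_141 : allB 333 (fun i => frl_r81 (Nat.add 46953 i)) = true := by decide +kernel
theorem trc_r81_142 : allB 333 (fun i => frl_r81 (Nat.add 47286 i)) = true := by decide +kernel
theorem trc_r81_143 : allB 333 (fun i => frl_r81 (Nat.add 47619 i)) = true := by decide +kernel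
theorem trc_r81_144 : allB 333 (fun i => frl_r81 (Nat.add 47952 i)) = true := by decide +kernel
theorem trc_r81_145 : allB 333 (fun i => frl_r81 (Nat.add 48285 i)) = true := by decide +kernel
theorem trc_r81_146 : allB 333 (fun i => frl_r81 (Nat.add 48618 i)) = true := by decide +kernel
theorem trc_r81_147 : allB 333 (fun i => frl_r81 (Nat.add 48951 i)) = true := by decide +kernel
theorem trc_r81_148 : allB 333 (fun i => frl_r81 (Nat.add 49284 i)) = true := by decide +kernel
theorem trc_r81_149 : allB 333 (fun i => frl_r81 (Nat.add 49617 i)) = true := by decide +kernel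
theorem trc_r81_150 : allB 333 (fun i => frl_r81 (Nat.add 49950 i)) = true := by decide +kernel
theorem trc_r81_151 : allB 333 (fun i => frl_r81 (Nat.add 50283 i)) = true := by decide +kernel
theorem trc_r81_152 : allB 333 (fun i => frl_r81 (Nat.add 50616 i)) = true := by decide +kernel
theorem trc_r81_153 : allB 333 (fun i => frl_r81 (Nat.add 50949 i)) = true := by decide +kernel
theorem trc_r81_154 : allB 333 (fun i => frl_r81 (Nat.add 51282 i)) = true := by decide +kernel
theorem trc_r81_155 : allB 333 (fun i => frl_r81 (Nat.add 51615 i)) = true := by decide +kernel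
theorem trc_r81_156 : allB 333 (fun i => frl_r81 (Nat.add 51948 i)) = true := by decide +kernel
theorem trc_r81_157 : allB 333 (fun i => frl_r81 (Nat.add 52281 i)) = true := by decide +kernel
theorem trc_r81_158 : allB 333 (fun i => frl_r81 (Nat.add 52614 i)) = true := by decide +kernel
theorem trc_r81_159 : allB 333 (fun i => frl_r81 (Nat.add 52947 i)) = true := by decide +kernel
theorem trc_r81_160 : allB 333 (fun i => frl_r81 (Nat.add 53280 i)) = true := by decide +kernel
theorem trc_r81_161 : allB 333 (fun i => frl_r81 (Nat.add 53613 i)) = true := by decide +kernel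
theorem trc_r81_162 : allB 333 (fun i => frl_r81 (Nat.add 53946 i)) = true := by decide +kernel

end Cfsg.Agent.Lib.Helper5.Fi22Cov
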