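import Cfsg.Agent.Lib.Helper5.Fi22Cov.Frl

/-! # The sixfold cover of `Fi22`: relators traced on the first rows of the blocks (kernel checks by ranges of blocks, part 23) -/

set_option autoImplicit false
set_option maxRecDepth 1000000

namespace Cfsg.Agent.Lib.Helper5.Fi22Cov

open Cfsg.Agent.PG (allB allB_iff)

theorem trc_r81_163 : allB 333 (fun i => frl_r81 (Nat.add 54279 i)) = true := by decide +kernel
theorem trc_r81_164 : allB 333 (fun i => frl_r81 (Nat.add 54612 i)) = true := by decide +kernel
theorem trc_r81_165 : allB 333 (fun i => frl_r81 (Nat.add 54945 i)) = true := by decide +kernel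
theorem trc_r81_166 : allB 333 (fun i => frl_r81 (Nat.add 55278 i)) = true := by decide +kernel
theorem trc_r81_167 : allB 333 (fun i => frl_r81 (Nat.add 55611 i)) = true := by decide +kernel
theorem trc_r81_168 : allB 333 (fun i => frl_r81 (Nat.add 55944 i)) = true := by decide +kernel
theorem trc_r81_169 : allB 333 (fun i => frl_r81 (Nat.add 56277 i)) = true := by decide +kernel
theorem trc_r81_170 : allB 333 (fun i => frl_r81 (Nat.add 56610 i)) = true := by decide +kernel
theorem trc_r81_171 : allB 333 (fun i => frl_r81 (Nat.add 56943 i)) = true := by decide +kernel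
theorem trc_r81_172 : allB 333 (fun i => frl_r81 (Nat.add 57276 i)) = true := by decide +kernel
theorem trc_r81_173 : allB 333 (fun i => frl_r81 (Nat.add 57609 i)) = true := by decide +kernel
theorem trc_r81_174 : allB 333 (fun i => frl_r81 (Nat.add 57942 i)) = true := by decide +kernel
theorem trc_r81_175 : allB 333 (fun i => frl_r81 (Nat.add 58275 i)) = true := by decide +kernel
theorem trc_r81_176 : allB 333 (fun i => frl_r81 (Nat.add 58608 i)) = true := by decide +kernel
theorem trc_r81_177 : allB 333 (fun i => frl_r81 (Nat.add 58941 i)) = true := by decide +kernel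
theorem trc_r81_178 : allB 333 (fun i => frl_r81 (Nat.add 59274 i)) = true := by decide +kernel
theorem trc_r81_179 : allB 333 (fun i => frl_r81 (Nat.add 59607 i)) = true := by decide +kernel
theorem trc_r81_180 : allB 333 (fun i => frl_r81 (Nat.add 59940 i)) = true := by decide +kernel
theorem trc_r81_181 : allB 333 (fun i => frl_r81 (Nat.add 60273 i)) = true := by decide +kernel
theorem trc_r81_182 : allB 333 (fun i => frl_r81 (Nat.add 60606 i)) = true := by decide +kernel
theorem trc_r81_183 : allB 333 (fun i => frl_r81 (Nat.add 60939 i)) = true := by decide +kernel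
theorem trc_r81_184 : allB 333 (fun i => frl_r81 (Nat.add 61272 i)) = true := by decide +kernel
theorem trc_r81_185 : allB 171 (fun i => frl_r81 (Nat.add 61605 i)) = true := by decide +kernel
theorem trc_r82_0 : allB 476 (fun i => frl_r82 (Nat.add 0 i)) = true := by decide +kernel
theorem trc_r82_1 : allB 476 (fun i => frl_r82 (Nat.add 476 i)) = true := by decide +kernel
theorem trc_r82_2 : allB 476 (fun i => frl_r82 (Nat.add 952 i)) = true := by decide +kernel
theorem trc_r82_3 : allB 476 (fun i => frl_r82 (Nat.add 1428 i)) = true := by decide +kernel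
theorem trc_r82_4 : allB 476 (fun i => frl_r82 (Nat.add 1904 i)) = true := by decide +kernel
theorem trc_r82_5 : allB 476 (fun i => frl_r82 (Nat.add 2380 i)) = true := by decide +kernel
theorem trc_r82_6 : allB 476 (fun i => frl_r82 (Nat.add 2856 i)) = true := by decide +kernel
theorem trc_r82_7 : allB 476 (fun i => frl_r82 (Nat.add 3332 i)) = true := by decide +kernel
theorem trc_r82_8 : allB 476 (fun i => frl_r82 (Nat.add 3808 i)) = true := by decide +kernel
theorem trc_r82_9 : allB 476 (fun i => frl_r82 (Nat.add 4284 i)) = true := by decide +kernel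
theorem trc_r82_10 : allB 476 (fun i => frl_r82 (Nat.add 4760 i)) = true := by decide +kernel
theorem trc_r82_11 : allB 476 (fun i => frl_r82 (Nat.add 5236 i)) = true := by decide +kernel
theorem trc_r82_12 : allB 476 (fun i => frl_r82 (Nat.add 5712 i)) = true := by decide +kernel
theorem trc_r82_13 : allB 476 (fun i => frl_r82 (Nat.add 6188 i)) = true := by decide +kernel
theorem trc_r82_14 : allB 476 (fun i => frl_r82 (Nat.add 6664 i)) = true := by decide +kernel
theorem trc_r82_15 : allB 476 (fun i => frl_r82 (Nat.add 7140 i)) = true := by decide +kernel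
theorem trc_r82_16 : allB 476 (fun i => frl_r82 (Nat.add 7616 i)) = true := by decide +kernel

end Cfsg.Agent.Lib.Helper5.Fi22Cov
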