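import Cfsg.Agent.Lib.Helper5.Fi22Cov.Frl

/-! # The sixfold cover of `Fi22`: relators traced on the first rows of the blocks (kernel checks by ranges of blocks, part 24) -/

set_option autoImplicit false
set_option maxRecDepth 1000000

namespace Cfsg.Agent.Lib.Helper5.Fi22Cov

open Cfsg.Agent.PG (allB allB_iff)

theorem trc_r82_17 : allB 476 (fun i => frl_r82 (Nat.add 8092 i)) = true := by decide +kernel
theorem trc_r82_18 : allB 476 (fun i => frl_r82 (Nat.add 8568 i)) = true := by decide +kernel
theorem trc_r82_19 : allB 476 (fun i => frl_r82 (Nat.add 9044 i)) = true := by decide +kernel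
theorem trc_r82_20 : allB 476 (fun i => frl_r82 (Nat.add 9520 i)) = true := by decide +kernel
theorem trc_r82_21 : allB 476 (fun i => frl_r82 (Nat.add 9996 i)) = true := by decide +kernel
theorem trc_r82_22 : allB 476 (fun i => frl_r82 (Nat.add 10472 i)) = true := by decide +kernel
theorem trc_r82_23 : allB 476 (fun i => frl_r82 (Nat.add 10948 i)) = true := by decide +kernel
theorem trc_r82_24 : allB 476 (fun i => frl_r82 (Nat.add 11424 i)) = true := by decide +kernel
theorem trc_r82_25 : allB 476 (fun i => frl_r82 (Nat.add 11900 i)) = true := by decide +kernel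
theorem trc_r82_26 : allB 476 (fun i => frl_r82 (Nat.add 12376 i)) = true := by decide +kernel
theorem trc_r82_27 : allB 476 (fun i => frl_r82 (Nat.add 12852 i)) = true := by decide +kernel
theorem trc_r82_28 : allB 476 (fun i => frl_r82 (Nat.add 13328 i)) = true := by decide +kernel
theorem trc_r82_29 : allB 476 (fun i => frl_r82 (Nat.add 13804 i)) = true := by decide +kernel
theorem trc_r82_30 : allB 476 (fun i => frl_r82 (Nat.add 14280 i)) = true := by decide +kernel
theorem trc_r82_31 : allB 476 (fun i => frl_r82 (Nat.add 14756 i)) = true := by decide +kernel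
theorem trc_r82_32 : allB 476 (fun i => frl_r82 (Nat.add 15232 i)) = true := by decide +kernel
theorem trc_r82_33 : allB 476 (fun i => frl_r82 (Nat.add 15708 i)) = true := by decide +kernel
theorem trc_r82_34 : allB 476 (fun i => frl_r82 (Nat.add 16184 i)) = true := by decide +kernel
theorem trc_r82_35 : allB 476 (fun i => frl_r82 (Nat.add 16660 i)) = true := by decide +kernel
theorem trc_r82_36 : allB 476 (fun i => frl_r82 (Nat.add 17136 i)) = true := by decide +kernel
theorem trc_r82_37 : allB 476 (fun i => frl_r82 (Nat.add 17612 i)) = true := by decide +kernel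
theorem trc_r82_38 : allB 476 (fun i => frl_r82 (Nat.add 18088 i)) = true := by decide +kernel
theorem trc_r82_39 : allB 476 (fun i => frl_r82 (Nat.add 18564 i)) = true := by decide +kernel
theorem trc_r82_40 : allB 476 (fun i => frl_r82 (Nat.add 19040 i)) = true := by decide +kernel
theorem trc_r82_41 : allB 476 (fun i => frl_r82 (Nat.add 19516 i)) = true := by decide +kernel
theorem trc_r82_42 : allB 476 (fun i => frl_r82 (Nat.add 19992 i)) = true := by decide +kernel
theorem trc_r82_43 : allB 476 (fun i => frl_r82 (Nat.add 20468 i)) = true := by decide +kernel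
theorem trc_r82_44 : allB 476 (fun i => frl_r82 (Nat.add 20944 i)) = true := by decide +kernel
theorem trc_r82_45 : allB 476 (fun i => frl_r82 (Nat.add 21420 i)) = true := by decide +kernel
theorem trc_r82_46 : allB 476 (fun i => frl_r82 (Nat.add 21896 i)) = true := by decide +kernel
theorem trc_r82_47 : allB 476 (fun i => frl_r82 (Nat.add 22372 i)) = true := by decide +kernel
theorem trc_r82_48 : allB 476 (fun i => frl_r82 (Nat.add 22848 i)) = true := by decide +kernel
theorem trc_r82_49 : allB 476 (fun i => frl_r82 (Nat.add 23324 i)) = true := by decide +kernel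
theorem trc_r82_50 : allB 476 (fun i => frl_r82 (Nat.add 23800 i)) = true := by decide +kernel
theorem trc_r82_51 : allB 476 (fun i => frl_r82 (Nat.add 24276 i)) = true := by decide +kernel
theorem trc_r82_52 : allB 476 (fun i => frl_r82 (Nat.add 24752 i)) = true := by decide +kernel
theorem trc_r82_53 : allB 476 (fun i => frl_r82 (Nat.add 25228 i)) = true := by decide +kernel
theorem trc_r82_54 : allB 476 (fun i => frl_r82 (Nat.add 25704 i)) = true := by decide +kernel
theorem trc_r82_55 : allB 476 (fun i => frl_r82 (Nat.add 26180 i)) = true := by decide +kernel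
theorem trc_r82_56 : allB 476 (fun i => frl_r82 (Nat.add 26656 i)) = true := by decide +kernel

end Cfsg.Agent.Lib.Helper5.Fi22Cov
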