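import Cfsg.Agent.Lib.Helper5.Fi22Cov.Frl

/-! # The sixfold cover of `Fi22`: relators traced on the first rows of the blocks (kernel checks by ranges of blocks, part 25) -/

set_option autoImplicit false
set_option maxRecDepth 1000000

namespace Cfsg.Agent.Lib.Helper5.Fi22Cov

open Cfsg.Agent.PG (allB allB_iff)

theorem trc_r82_57 : allB 476 (fun i => frl_r82 (Nat.add 27132 i)) = true := by decide +kernel
theorem trc_r82_58 : allB 476 (fun i => frl_r82 (Nat.add 27608 i)) = true := by decide +kernel
theorem trc_r82_59 : allB 476 (fun i => frl_r82 (Nat.add 28084 i)) = true := by decide +kernel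
theorem trc_r82_60 : allB 476 (fun i => frl_r82 (Nat.add 28560 i)) = true := by decide +kernel
theorem trc_r82_61 : allB 476 (fun i => frl_r82 (Nat.add 29036 i)) = true := by decide +kernel
theorem trc_r82_62 : allB 476 (fun i => frl_r82 (Nat.add 29512 i)) = true := by decide +kernel
theorem trc_r82_63 : allB 476 (fun i => frl_r82 (Nat.add 29988 i)) = true := by decide +kernel
theorem trc_r82_64 : allB 476 (fun i => frl_r82 (Nat.add 30464 i)) = true := by decide +kernel
theorem trc_r82_65 : allB 476 (fun i => frl_r82 (Nat.add 30940 i)) = true := by decide +kernel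
theorem trc_r82_66 : allB 476 (fun i => frl_r82 (Nat.add 31416 i)) = true := by decide +kernel
theorem trc_r82_67 : allB 476 (fun i => frl_r82 (Nat.add 31892 i)) = true := by decide +kernel
theorem trc_r82_68 : allB 476 (fun i => frl_r82 (Nat.add 32368 i)) = true := by decide +kernel
theorem trc_r82_69 : allB 476 (fun i => frl_r82 (Nat.add 32844 i)) = true := by decide +kernel
theorem trc_r82_70 : allB 476 (fun i => frl_r82 (Nat.add 33320 i)) = true := by decide +kernel
theorem trc_r82_71 : allB 476 (fun i => frl_r82 (Nat.add 33796 i)) = true := by decide +kernel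
theorem trc_r82_72 : allB 476 (fun i => frl_r82 (Nat.add 34272 i)) = true := by decide +kernel
theorem trc_r82_73 : allB 476 (fun i => frl_r82 (Nat.add 34748 i)) = true := by decide +kernel
theorem trc_r82_74 : allB 476 (fun i => frl_r82 (Nat.add 35224 i)) = true := by decide +kernel
theorem trc_r82_75 : allB 476 (fun i => frl_r82 (Nat.add 35700 i)) = true := by decide +kernel
theorem trc_r82_76 : allB 476 (fun i => frl_r82 (Nat.add 36176 i)) = true := by decide +kernel
theorem trc_r82_77 : allB 476 (fun i => frl_r82 (Nat.add 36652 i)) = true := by decide +kernel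
theorem trc_r82_78 : allB 476 (fun i => frl_r82 (Nat.add 37128 i)) = true := by decide +kernel
theorem trc_r82_79 : allB 476 (fun i => frl_r82 (Nat.add 37604 i)) = true := by decide +kernel
theorem trc_r82_80 : allB 476 (fun i => frl_r82 (Nat.add 38080 i)) = true := by decide +kernel
theorem trc_r82_81 : allB 476 (fun i => frl_r82 (Nat.add 38556 i)) = true := by decide +kernel
theorem trc_r82_82 : allB 476 (fun i => frl_r82 (Nat.add 39032 i)) = true := by decide +kernel
theorem trc_r82_83 : allB 476 (fun i => frl_r82 (Nat.add 39508 i)) = true := by decide +kernel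
theorem trc_r82_84 : allB 476 (fun i => frl_r82 (Nat.add 39984 i)) = true := by decide +kernel
theorem trc_r82_85 : allB 476 (fun i => frl_r82 (Nat.add 40460 i)) = true := by decide +kernel
theorem trc_r82_86 : allB 476 (fun i => frl_r82 (Nat.add 40936 i)) = true := by decide +kernel
theorem trc_r82_87 : allB 476 (fun i => frl_r82 (Nat.add 41412 i)) = true := by decide +kernel
theorem trc_r82_88 : allB 476 (fun i => frl_r82 (Nat.add 41888 i)) = true := by decide +kernel
theorem trc_r82_89 : allB 476 (fun i => frl_r82 (Nat.add 42364 i)) = true := by decide +kernel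
theorem trc_r82_90 : allB 476 (fun i => frl_r82 (Nat.add 42840 i)) = true := by decide +kernel
theorem trc_r82_91 : allB 476 (fun i => frl_r82 (Nat.add 43316 i)) = true := by decide +kernel
theorem trc_r82_92 : allB 476 (fun i => frl_r82 (Nat.add 43792 i)) = true := by decide +kernel
theorem trc_r82_93 : allB 476 (fun i => frl_r82 (Nat.add 44268 i)) = true := by decide +kernel
theorem trc_r82_94 : allB 476 (fun i => frl_r82 (Nat.add 44744 i)) = true := by decide +kernel
theorem trc_r82_95 : allB 476 (fun i => frl_r82 (Nat.add 45220 i)) = true := by decide +kernel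
theorem trc_r82_96 : allB 476 (fun i => frl_r82 (Nat.add 45696 i)) = true := by decide +kernel

end Cfsg.Agent.Lib.Helper5.Fi22Cov
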