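import Cfsg.Agent.Lib.Helper5.Fi22Cov.Frl

/-! # The sixfold cover of `Fi22`: relators traced on the first rows of the blocks (kernel checks by ranges of blocks, part 26) -/

set_option autoImplicit false
set_option maxRecDepth 1000000

namespace Cfsg.Agent.Lib.Helper5.Fi22Cov

open Cfsg.Agent.PG (allB allB_iff)

theorem trc_r82_97 : allB 476 (fun i => frl_r82 (Nat.add 46172 i)) = true := by decide +kernel
theorem trc_r82_98 : allB 476 (fun i => frl_r82 (Nat.add 46648 i)) = true := by decide +kernel
theorem trc_r82_99 : allB 476 (fun i => frl_r82 (Nat.add 47124 i)) = true := by decide +kernel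
theorem trc_r82_100 : allB 476 (fun i => frl_r82 (Nat.add 47600 i)) = true := by decide +kernel
theorem trc_r82_101 : allB 476 (fun i => frl_r82 (Nat.add 48076 i)) = true := by decide +kernel
theorem trc_r82_102 : allB 476 (fun i => frl_r82 (Nat.add 48552 i)) = true := by decide +kernel
theorem trc_r82_103 : allB 476 (fun i => frl_r82 (Nat.add 49028 i)) = true := by decide +kernel
theorem trc_r82_104 : allB 476 (fun i => frl_r82 (Nat.add 49504 i)) = true := by decide +kernel
theorem trc_r82_105 : allB 476 (fun i => frl_r82 (Nat.add 49980 i)) = true := by decide +kernel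
theorem trc_r82_106 : allB 476 (fun i => frl_r82 (Nat.add 50456 i)) = true := by decide +kernel
theorem trc_r82_107 : allB 476 (fun i => frl_r82 (Nat.add 50932 i)) = true := by decide +kernel
theorem trc_r82_108 : allB 476 (fun i => frl_r82 (Nat.add 51408 i)) = true := by decide +kernel
theorem trc_r82_109 : allB 476 (fun i => frl_r82 (Nat.add 51884 i)) = true := by decide +kernel
theorem trc_r82_110 : allB 476 (fun i => frl_r82 (Nat.add 52360 i)) = true := by decide +kernel
theorem trc_r82_111 : allB 476 (fun i => frl_r82 (Nat.add 52836 i)) = true := by decide +kernel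
theorem trc_r82_112 : allB 476 (fun i => frl_r82 (Nat.add 53312 i)) = true := by decide +kernel
theorem trc_r82_113 : allB 476 (fun i => frl_r82 (Nat.add 53788 i)) = true := by decide +kernel
theorem trc_r82_114 : allB 476 (fun i => frl_r82 (Nat.add 54264 i)) = true := by decide +kernel
theorem trc_r82_115 : allB 476 (fun i => frl_r82 (Nat.add 54740 i)) = true := by decide +kernel
theorem trc_r82_116 : allB 476 (fun i => frl_r82 (Nat.add 55216 i)) = true := by decide +kernel
theorem trc_r82_117 : allB 476 (fun i => frl_r82 (Nat.add 55692 i)) = true := by decide +kernel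
theorem trc_r82_118 : allB 476 (fun i => frl_r82 (Nat.add 56168 i)) = true := by decide +kernel
theorem trc_r82_119 : allB 476 (fun i => frl_r82 (Nat.add 56644 i)) = true := by decide +kernel
theorem trc_r82_120 : allB 476 (fun i => frl_r82 (Nat.add 57120 i)) = true := by decide +kernel
theorem trc_r82_121 : allB 476 (fun i => frl_r82 (Nat.add 57596 i)) = true := by decide +kernel
theorem trc_r82_122 : allB 476 (fun i => frl_r82 (Nat.add 58072 i)) = true := by decide +kernel
theorem trc_r82_123 : allB 476 (fun i => frl_r82 (Nat.add 58548 i)) = true := by decide +kernel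
theorem trc_r82_124 : allB 476 (fun i => frl_r82 (Nat.add 59024 i)) = true := by decide +kernel
theorem trc_r82_125 : allB 476 (fun i => frl_r82 (Nat.add 59500 i)) = true := by decide +kernel
theorem trc_r82_126 : allB 476 (fun i => frl_r82 (Nat.add 59976 i)) = true := by decide +kernel
theorem trc_r82_127 : allB 476 (fun i => frl_r82 (Nat.add 60452 i)) = true := by decide +kernel
theorem trc_r82_128 : allB 476 (fun i => frl_r82 (Nat.add 60928 i)) = true := by decide +kernel
theorem trc_r82_129 : allB 372 (fun i => frl_r82 (Nat.add 61404 i)) = true := by decide +kernel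
theorem trc_r83_0 : allB 476 (fun i => frl_r83 (Nat.add 0 i)) = true := by decide +kernel
theorem trc_r83_1 : allB 476 (fun i => frl_r83 (Nat.add 476 i)) = true := by decide +kernel
theorem trc_r83_2 : allB 476 (fun i => frl_r83 (Nat.add 952 i)) = true := by decide +kernel
theorem trc_r83_3 : allB 476 (fun i => frl_r83 (Nat.add 1428 i)) = true := by decide +kernel
theorem trc_r83_4 : allB 476 (fun i => frl_r83 (Nat.add 1904 i)) = true := by decide +kernel
theorem trc_r83_5 : allB 476 (fun i => frl_r83 (Nat.add 2380 i)) = true := by decide +kernel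
theorem trc_r83_6 : allB 476 (fun i => frl_r83 (Nat.add 2856 i)) = true := by decide +kernel

end Cfsg.Agent.Lib.Helper5.Fi22Cov
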