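import Cfsg.Agent.Lib.Helper5.Fi22Cov.Frl

/-! # The sixfold cover of `Fi22`: relators traced on the first rows of the blocks (kernel checks by ranges of blocks, part 27) -/

set_option autoImplicit false
set_option maxRecDepth 1000000

namespace Cfsg.Agent.Lib.Helper5.Fi22Cov

open Cfsg.Agent.PG (allB allB_iff)

theorem trc_r83_7 : allB 476 (fun i => frl_r83 (Nat.add 3332 i)) = true := by decide +kernel
theorem trc_r83_8 : allB 476 (fun i => frl_r83 (Nat.add 3808 i)) = true := by decide +kernel
theorem trc_r83_9 : allB 476 (fun i => frl_r83 (Nat.add 4284 i)) = true := by decide +kernel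
theorem trc_r83_10 : allB 476 (fun i => frl_r83 (Nat.add 4760 i)) = true := by decide +kernel
theorem trc_r83_11 : allB 476 (fun i => frl_r83 (Nat.add 5236 i)) = true := by decide +kernel
theorem trc_r83_12 : allB 476 (fun i => frl_r83 (Nat.add 5712 i)) = true := by decide +kernel
theorem trc_r83_13 : allB 476 (fun i => frl_r83 (Nat.add 6188 i)) = true := by decide +kernel
theorem trc_r83_14 : allB 476 (fun i => frl_r83 (Nat.add 6664 i)) = true := by decide +kernel
theorem trc_r83_15 : allB 476 (fun i => frl_r83 (Nat.add 7140 i)) = true := by decide +kernel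
theorem trc_r83_16 : allB 476 (fun i => frl_r83 (Nat.add 7616 i)) = true := by decide +kernel
theorem trc_r83_17 : allB 476 (fun i => frl_r83 (Nat.add 8092 i)) = true := by decide +kernel
theorem trc_r83_18 : allB 476 (fun i => frl_r83 (Nat.add 8568 i)) = true := by decide +kernel
theorem trc_r83_19 : allB 476 (fun i => frl_r83 (Nat.add 9044 i)) = true := by decide +kernel
theorem trc_r83_20 : allB 476 (fun i => frl_r83 (Nat.add 9520 i)) = true := by decide +kernel
theorem trc_r83_21 : allB 476 (fun i => frl_r83 (Nat.add 9996 i)) = true := by decide +kernel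
theorem trc_r83_22 : allB 476 (fun i => frl_r83 (Nat.add 10472 i)) = true := by decide +kernel
theorem trc_r83_23 : allB 476 (fun i => frl_r83 (Nat.add 10948 i)) = true := by decide +kernel
theorem trc_r83_24 : allB 476 (fun i => frl_r83 (Nat.add 11424 i)) = true := by decide +kernel
theorem trc_r83_25 : allB 476 (fun i => frl_r83 (Nat.add 11900 i)) = true := by decide +kernel
theorem trc_r83_26 : allB 476 (fun i => frl_r83 (Nat.add 12376 i)) = true := by decide +kernel
theorem trc_r83_27 : allB 476 (fun i => frl_r83 (Nat.add 12852 i)) = true := by decide +kernel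
theorem trc_r83_28 : allB 476 (fun i => frl_r83 (Nat.add 13328 i)) = true := by decide +kernel
theorem trc_r83_29 : allB 476 (fun i => frl_r83 (Nat.add 13804 i)) = true := by decide +kernel
theorem trc_r83_30 : allB 476 (fun i => frl_r83 (Nat.add 14280 i)) = true := by decide +kernel
theorem trc_r83_31 : allB 476 (fun i => frl_r83 (Nat.add 14756 i)) = true := by decide +kernel
theorem trc_r83_32 : allB 476 (fun i => frl_r83 (Nat.add 15232 i)) = true := by decide +kernel
theorem trc_r83_33 : allB 476 (fun i => frl_r83 (Nat.add 15708 i)) = true := by decide +kernel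
theorem trc_r83_34 : allB 476 (fun i => frl_r83 (Nat.add 16184 i)) = true := by decide +kernel
theorem trc_r83_35 : allB 476 (fun i => frl_r83 (Nat.add 16660 i)) = true := by decide +kernel
theorem trc_r83_36 : allB 476 (fun i => frl_r83 (Nat.add 17136 i)) = true := by decide +kernel
theorem trc_r83_37 : allB 476 (fun i => frl_r83 (Nat.add 17612 i)) = true := by decide +kernel
theorem trc_r83_38 : allB 476 (fun i => frl_r83 (Nat.add 18088 i)) = true := by decide +kernel
theorem trc_r83_39 : allB 476 (fun i => frl_r83 (Nat.add 18564 i)) = true := by decide +kernel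
theorem trc_r83_40 : allB 476 (fun i => frl_r83 (Nat.add 19040 i)) = true := by decide +kernel
theorem trc_r83_41 : allB 476 (fun i => frl_r83 (Nat.add 19516 i)) = true := by decide +kernel
theorem trc_r83_42 : allB 476 (fun i => frl_r83 (Nat.add 19992 i)) = true := by decide +kernel
theorem trc_r83_43 : allB 476 (fun i => frl_r83 (Nat.add 20468 i)) = true := by decide +kernel
theorem trc_r83_44 : allB 476 (fun i => frl_r83 (Nat.add 20944 i)) = true := by decide +kernel
theorem trc_r83_45 : allB 476 (fun i => frl_r83 (Nat.add 21420 i)) = true := by decide +kernel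
theorem trc_r83_46 : allB 476 (fun i => frl_r83 (Nat.add 21896 i)) = true := by decide +kernel

end Cfsg.Agent.Lib.Helper5.Fi22Cov
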