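import Cfsg.Agent.Lib.Helper5.Fi22Cov.Frl

/-! # The sixfold cover of `Fi22`: relators traced on the first rows of the blocks (kernel checks by ranges of blocks, part 28) -/

set_option autoImplicit false
set_option maxRecDepth 1000000

namespace Cfsg.Agent.Lib.Helper5.Fi22Cov

open Cfsg.Agent.PG (allB allB_iff)

theorem trc_r83_47 : allB 476 (fun i => frl_r83 (Nat.add 22372 i)) = true := by decide +kernel
theorem trc_r83_48 : allB 476 (fun i => frl_r83 (Nat.add 22848 i)) = true := by decide +kernel
theorem trc_r83_49 : allB 476 (fun i => frl_r83 (Nat.add 23324 i)) = true := by decide +kernel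
theorem trc_r83_50 : allB 476 (fun i => frl_r83 (Nat.add 23800 i)) = true := by decide +kernel
theorem trc_r83_51 : allB 476 (fun i => frl_r83 (Nat.add 24276 i)) = true := by decide +kernel
theorem trc_r83_52 : allB 476 (fun i => frl_r83 (Nat.add 24752 i)) = true := by decide +kernel
theorem trc_r83_53 : allB 476 (fun i => frl_r83 (Nat.add 25228 i)) = true := by decide +kernel
theorem trc_r83_54 : allB 476 (fun i => frl_r83 (Nat.add 25704 i)) = true := by decide +kernel
theorem trc_r83_55 : allB 476 (fun i => frl_r83 (Nat.add 26180 i)) = true := by decide +kernel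
theorem trc_r83_56 : allB 476 (fun i => frl_r83 (Nat.add 26656 i)) = true := by decide +kernel
theorem trc_r83_57 : allB 476 (fun i => frl_r83 (Nat.add 27132 i)) = true := by decide +kernel
theorem trc_r83_58 : allB 476 (fun i => frl_r83 (Nat.add 27608 i)) = true := by decide +kernel
theorem trc_r83_59 : allB 476 (fun i => frl_r83 (Nat.add 28084 i)) = true := by decide +kernel
theorem trc_r83_60 : allB 476 (fun i => frl_r83 (Nat.add 28560 i)) = true := by decide +kernel
theorem trc_r83_61 : allB 476 (fun i => frl_r83 (Nat.add 29036 i)) = true := by decide +kernel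
theorem trc_r83_62 : allB 476 (fun i => frl_r83 (Nat.add 29512 i)) = true := by decide +kernel
theorem trc_r83_63 : allB 476 (fun i => frl_r83 (Nat.add 29988 i)) = true := by decide +kernel
theorem trc_r83_64 : allB 476 (fun i => frl_r83 (Nat.add 30464 i)) = true := by decide +kernel
theorem trc_r83_65 : allB 476 (fun i => frl_r83 (Nat.add 30940 i)) = true := by decide +kernel
theorem trc_r83_66 : allB 476 (fun i => frl_r83 (Nat.add 31416 i)) = true := by decide +kernel
theorem trc_r83_67 : allB 476 (fun i => frl_r83 (Nat.add 31892 i)) = true := by decide +kernel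
theorem trc_r83_68 : allB 476 (fun i => frl_r83 (Nat.add 32368 i)) = true := by decide +kernel
theorem trc_r83_69 : allB 476 (fun i => frl_r83 (Nat.add 32844 i)) = true := by decide +kernel
theorem trc_r83_70 : allB 476 (fun i => frl_r83 (Nat.add 33320 i)) = true := by decide +kernel
theorem trc_r83_71 : allB 476 (fun i => frl_r83 (Nat.add 33796 i)) = true := by decide +kernel
theorem trc_r83_72 : allB 476 (fun i => frl_r83 (Nat.add 34272 i)) = true := by decide +kernel
theorem trc_r83_73 : allB 476 (fun i => frl_r83 (Nat.add 34748 i)) = true := by decide +kernel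
theorem trc_r83_74 : allB 476 (fun i => frl_r83 (Nat.add 35224 i)) = true := by decide +kernel
theorem trc_r83_75 : allB 476 (fun i => frl_r83 (Nat.add 35700 i)) = true := by decide +kernel
theorem trc_r83_76 : allB 476 (fun i => frl_r83 (Nat.add 36176 i)) = true := by decide +kernel
theorem trc_r83_77 : allB 476 (fun i => frl_r83 (Nat.add 36652 i)) = true := by decide +kernel
theorem trc_r83_78 : allB 476 (fun i => frl_r83 (Nat.add 37128 i)) = true := by decide +kernel
theorem trc_r83_79 : allB 476 (fun i => frl_r83 (Nat.add 37604 i)) = true := by decide +kernel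
theorem trc_r83_80 : allB 476 (fun i => frl_r83 (Nat.add 38080 i)) = true := by decide +kernel
theorem trc_r83_81 : allB 476 (fun i => frl_r83 (Nat.add 38556 i)) = true := by decide +kernel
theorem trc_r83_82 : allB 476 (fun i => frl_r83 (Nat.add 39032 i)) = true := by decide +kernel
theorem trc_r83_83 : allB 476 (fun i => frl_r83 (Nat.add 39508 i)) = true := by decide +kernel
theorem trc_r83_84 : allB 476 (fun i => frl_r83 (Nat.add 39984 i)) = true := by decide +kernel
theorem trc_r83_85 : allB 476 (fun i => frl_r83 (Nat.add 40460 i)) = true := by decide +kernel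
theorem trc_r83_86 : allB 476 (fun i => frl_r83 (Nat.add 40936 i)) = true := by decide +kernel

end Cfsg.Agent.Lib.Helper5.Fi22Cov
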