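import Cfsg.Agent.Lib.Helper5.Fi22Cov.Frl

/-! # The sixfold cover of `Fi22`: relators traced on the first rows of the blocks (kernel checks by ranges of blocks, part 29) -/

set_option autoImplicit false
set_option maxRecDepth 1000000

namespace Cfsg.Agent.Lib.Helper5.Fi22Cov

open Cfsg.Agent.PG (allB allB_iff)

theorem trc_r83_87 : allB 476 (fun i => frl_r83 (Nat.add 41412 i)) = true := by decide +kernel
theorem trc_r83_88 : allB 476 (fun i => frl_r83 (Nat.add 41888 i)) = true := by decide +kernel
theorem trc_r83_89 : allB 476 (fun i => frl_r83 (Nat.add 42364 i)) = true := by decide +kernel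
theorem trc_r83_90 : allB 476 (fun i => frl_r83 (Nat.add 42840 i)) = true := by decide +kernel
theorem trc_r83_91 : allB 476 (fun i => frl_r83 (Nat.add 43316 i)) = true := by decide +kernel
theorem trc_r83_92 : allB 476 (fun i => frl_r83 (Nat.add 43792 i)) = true := by decide +kernel
theorem trc_r83_93 : allB 476 (fun i => frl_r83 (Nat.add 44268 i)) = true := by decide +kernel
theorem trc_r83_94 : allB 476 (fun i => frl_r83 (Nat.add 44744 i)) = true := by decide +kernel
theorem trc_r83_95 : allB 476 (fun i => frl_r83 (Nat.add 45220 i)) = true := by decide +kernel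
theorem trc_r83_96 : allB 476 (fun i => frl_r83 (Nat.add 45696 i)) = true := by decide +kernel
theorem trc_r83_97 : allB 476 (fun i => frl_r83 (Nat.add 46172 i)) = true := by decide +kernel
theorem trc_r83_98 : allB 476 (fun i => frl_r83 (Nat.add 46648 i)) = true := by decide +kernel
theorem trc_r83_99 : allB 476 (fun i => frl_r83 (Nat.add 47124 i)) = true := by decide +kernel
theorem trc_r83_100 : allB 476 (fun i => frl_r83 (Nat.add 47600 i)) = true := by decide +kernel
theorem trc_r83_101 : allB 476 (fun i => frl_r83 (Nat.add 48076 i)) = true := by decide +kernel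
theorem trc_r83_102 : allB 476 (fun i => frl_r83 (Nat.add 48552 i)) = true := by decide +kernel
theorem trc_r83_103 : allB 476 (fun i => frl_r83 (Nat.add 49028 i)) = true := by decide +kernel
theorem trc_r83_104 : allB 476 (fun i => frl_r83 (Nat.add 49504 i)) = true := by decide +kernel
theorem trc_r83_105 : allB 476 (fun i => frl_r83 (Nat.add 49980 i)) = true := by decide +kernel
theorem trc_r83_106 : allB 476 (fun i => frl_r83 (Nat.add 50456 i)) = true := by decide +kernel
theorem trc_r83_107 : allB 476 (fun i => frl_r83 (Nat.add 50932 i)) = true := by decide +kernel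
theorem trc_r83_108 : allB 476 (fun i => frl_r83 (Nat.add 51408 i)) = true := by decide +kernel
theorem trc_r83_109 : allB 476 (fun i => frl_r83 (Nat.add 51884 i)) = true := by decide +kernel
theorem trc_r83_110 : allB 476 (fun i => frl_r83 (Nat.add 52360 i)) = true := by decide +kernel
theorem trc_r83_111 : allB 476 (fun i => frl_r83 (Nat.add 52836 i)) = true := by decide +kernel
theorem trc_r83_112 : allB 476 (fun i => frl_r83 (Nat.add 53312 i)) = true := by decide +kernel
theorem trc_r83_113 : allB 476 (fun i => frl_r83 (Nat.add 53788 i)) = true := by decide +kernel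
theorem trc_r83_114 : allB 476 (fun i => frl_r83 (Nat.add 54264 i)) = true := by decide +kernel
theorem trc_r83_115 : allB 476 (fun i => frl_r83 (Nat.add 54740 i)) = true := by decide +kernel
theorem trc_r83_116 : allB 476 (fun i => frl_r83 (Nat.add 55216 i)) = true := by decide +kernel
theorem trc_r83_117 : allB 476 (fun i => frl_r83 (Nat.add 55692 i)) = true := by decide +kernel
theorem trc_r83_118 : allB 476 (fun i => frl_r83 (Nat.add 56168 i)) = true := by decide +kernel
theorem trc_r83_119 : allB 476 (fun i => frl_r83 (Nat.add 56644 i)) = true := by decide +kernel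
theorem trc_r83_120 : allB 476 (fun i => frl_r83 (Nat.add 57120 i)) = true := by decide +kernel
theorem trc_r83_121 : allB 476 (fun i => frl_r83 (Nat.add 57596 i)) = true := by decide +kernel
theorem trc_r83_122 : allB 476 (fun i => frl_r83 (Nat.add 58072 i)) = true := by decide +kernel
theorem trc_r83_123 : allB 476 (fun i => frl_r83 (Nat.add 58548 i)) = true := by decide +kernel
theorem trc_r83_124 : allB 476 (fun i => frl_r83 (Nat.add 59024 i)) = true := by decide +kernel
theorem trc_r83_125 : allB 476 (fun i => frl_r83 (Nat.add 59500 i)) = true := by decide +kernel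
theorem trc_r83_126 : allB 476 (fun i => frl_r83 (Nat.add 59976 i)) = true := by decide +kernel

end Cfsg.Agent.Lib.Helper5.Fi22Cov
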