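import Cfsg.Agent.Lib.Helper5.Fi22Cov.Frl

/-! # The sixfold cover of `Fi22`: relators traced on the first rows of the blocks (kernel checks by ranges of blocks, part 3) -/

set_option autoImplicit false
set_option maxRecDepth 1000000

namespace Cfsg.Agent.Lib.Helper5.Fi22Cov

open Cfsg.Agent.PG (allB allB_iff)

theorem trc_r12_8 : allB 1776 (fun i => frl_r12 (Nat.add 60000 i)) = true := by decide +kernel
theorem trc_r13_0 : allB 7500 (fun i => frl_r13 (Nat.add 0 i)) = true := by decide +kernel
theorem trc_r13_1 : allB 7500 (fun i => frl_r13 (Nat.add 7500 i)) = true := by decide +kernel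
theorem trc_r13_2 : allB 7500 (fun i => frl_r13 (Nat.add 15000 i)) = true := by decide +kernel
theorem trc_r13_3 : allB 7500 (fun i => frl_r13 (Nat.add 22500 i)) = true := by decide +kernel
theorem trc_r13_4 : allB 7500 (fun i => frl_r13 (Nat.add 30000 i)) = true := by decide +kernel
theorem trc_r13_5 : allB 7500 (fun i => frl_r13 (Nat.add 37500 i)) = true := by decide +kernel
theorem trc_r13_6 : allB 7500 (fun i => frl_r13 (Nat.add 45000 i)) = true := by decide +kernel
theorem trc_r13_7 : allB 7500 (fun i => frl_r13 (Nat.add 52500 i)) = true := by decide +kernel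
theorem trc_r13_8 : allB 1776 (fun i => frl_r13 (Nat.add 60000 i)) = true := by decide +kernel
theorem trc_r14_0 : allB 7500 (fun i => frl_r14 (Nat.add 0 i)) = true := by decide +kernel
theorem trc_r14_1 : allB 7500 (fun i => frl_r14 (Nat.add 7500 i)) = true := by decide +kernel
theorem trc_r14_2 : allB 7500 (fun i => frl_r14 (Nat.add 15000 i)) = true := by decide +kernel
theorem trc_r14_3 : allB 7500 (fun i => frl_r14 (Nat.add 22500 i)) = true := by decide +kernel
theorem trc_r14_4 : allB 7500 (fun i => frl_r14 (Nat.add 30000 i)) = true := by decide +kernel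
theorem trc_r14_5 : allB 7500 (fun i => frl_r14 (Nat.add 37500 i)) = true := by decide +kernel
theorem trc_r14_6 : allB 7500 (fun i => frl_r14 (Nat.add 45000 i)) = true := by decide +kernel
theorem trc_r14_7 : allB 7500 (fun i => frl_r14 (Nat.add 52500 i)) = true := by decide +kernel
theorem trc_r14_8 : allB 1776 (fun i => frl_r14 (Nat.add 60000 i)) = true := by decide +kernel
theorem trc_r15_0 : allB 7500 (fun i => frl_r15 (Nat.add 0 i)) = true := by decide +kernel
theorem trc_r15_1 : allB 7500 (fun i => frl_r15 (Nat.add 7500 i)) = true := by decide +kernel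
theorem trc_r15_2 : allB 7500 (fun i => frl_r15 (Nat.add 15000 i)) = true := by decide +kernel
theorem trc_r15_3 : allB 7500 (fun i => frl_r15 (Nat.add 22500 i)) = true := by decide +kernel
theorem trc_r15_4 : allB 7500 (fun i => frl_r15 (Nat.add 30000 i)) = true := by decide +kernel
theorem trc_r15_5 : allB 7500 (fun i => frl_r15 (Nat.add 37500 i)) = true := by decide +kernel
theorem trc_r15_6 : allB 7500 (fun i => frl_r15 (Nat.add 45000 i)) = true := by decide +kernel
theorem trc_r15_7 : allB 7500 (fun i => frl_r15 (Nat.add 52500 i)) = true := by decide +kernel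
theorem trc_r15_8 : allB 1776 (fun i => frl_r15 (Nat.add 60000 i)) = true := by decide +kernel
theorem trc_r16_0 : allB 7500 (fun i => frl_r16 (Nat.add 0 i)) = true := by decide +kernel
theorem trc_r16_1 : allB 7500 (fun i => frl_r16 (Nat.add 7500 i)) = true := by decide +kernel
theorem trc_r16_2 : allB 7500 (fun i => frl_r16 (Nat.add 15000 i)) = true := by decide +kernel
theorem trc_r16_3 : allB 7500 (fun i => frl_r16 (Nat.add 22500 i)) = true := by decide +kernel
theorem trc_r16_4 : allB 7500 (fun i => frl_r16 (Nat.add 30000 i)) = true := by decide +kernel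
theorem trc_r16_5 : allB 7500 (fun i => frl_r16 (Nat.add 37500 i)) = true := by decide +kernel
theorem trc_r16_6 : allB 7500 (fun i => frl_r16 (Nat.add 45000 i)) = true := by decide +kernel
theorem trc_r16_7 : allB 7500 (fun i => frl_r16 (Nat.add 52500 i)) = true := by decide +kernel
theorem trc_r16_8 : allB 1776 (fun i => frl_r16 (Nat.add 60000 i)) = true := by decide +kernel
theorem trc_r17_0 : allB 7500 (fun i => frl_r17 (Nat.add 0 i)) = true := by decide +kernel
theorem trc_r17_1 : allB 7500 (fun i => frl_r17 (Nat.add 7500 i)) = true := by decide +kernel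
theorem trc_r17_2 : allB 7500 (fun i => frl_r17 (Nat.add 15000 i)) = true := by decide +kernel

end Cfsg.Agent.Lib.Helper5.Fi22Cov
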