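import Cfsg.Agent.Lib.Helper5.Fi22Cov.Frl

/-! # The sixfold cover of `Fi22`: relators traced on the first rows of the blocks (kernel checks by ranges of blocks, part 30) -/

set_option autoImplicit false
set_option maxRecDepth 1000000

namespace Cfsg.Agent.Lib.Helper5.Fi22Cov

open Cfsg.Agent.PG (allB allB_iff)

theorem trc_r83_127 : allB 476 (fun i => frl_r83 (Nat.add 60452 i)) = true := by decide +kernel
theorem trc_r83_128 : allB 476 (fun i => frl_r83 (Nat.add 60928 i)) = true := by decide +kernel
theorem trc_r83_129 : allB 372 (fun i => frl_r83 (Nat.add 61404 i)) = true := by decide +kernel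

end Cfsg.Agent.Lib.Helper5.Fi22Cov
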