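import Cfsg.Agent.Lib.Helper5.Fi22Cov.Frl

/-! # The sixfold cover of `Fi22`: relators traced on the first rows of the blocks (kernel checks by ranges of blocks, part 4) -/

set_option autoImplicit false
set_option maxRecDepth 1000000

namespace Cfsg.Agent.Lib.Helper5.Fi22Cov

open Cfsg.Agent.PG (allB allB_iff)

theorem trc_r17_3 : allB 7500 (fun i => frl_r17 (Nat.add 22500 i)) = true := by decide +kernel
theorem trc_r17_4 : allB 7500 (fun i => frl_r17 (Nat.add 30000 i)) = true := by decide +kernel
theorem trc_r17_5 : allB 7500 (fun i => frl_r17 (Nat.add 37500 i)) = true := by decide +kernel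
theorem trc_r17_6 : allB 7500 (fun i => frl_r17 (Nat.add 45000 i)) = true := by decide +kernel
theorem trc_r17_7 : allB 7500 (fun i => frl_r17 (Nat.add 52500 i)) = true := by decide +kernel
theorem trc_r17_8 : allB 1776 (fun i => frl_r17 (Nat.add 60000 i)) = true := by decide +kernel
theorem trc_r18_0 : allB 7500 (fun i => frl_r18 (Nat.add 0 i)) = true := by decide +kernel
theorem trc_r18_1 : allB 7500 (fun i => frl_r18 (Nat.add 7500 i)) = true := by decide +kernel
theorem trc_r18_2 : allB 7500 (fun i => frl_r18 (Nat.add 15000 i)) = true := by decide +kernel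
theorem trc_r18_3 : allB 7500 (fun i => frl_r18 (Nat.add 22500 i)) = true := by decide +kernel
theorem trc_r18_4 : allB 7500 (fun i => frl_r18 (Nat.add 30000 i)) = true := by decide +kernel
theorem trc_r18_5 : allB 7500 (fun i => frl_r18 (Nat.add 37500 i)) = true := by decide +kernel
theorem trc_r18_6 : allB 7500 (fun i => frl_r18 (Nat.add 45000 i)) = true := by decide +kernel
theorem trc_r18_7 : allB 7500 (fun i => frl_r18 (Nat.add 52500 i)) = true := by decide +kernel
theorem trc_r18_8 : allB 1776 (fun i => frl_r18 (Nat.add 60000 i)) = true := by decide +kernel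
theorem trc_r19_0 : allB 5000 (fun i => frl_r19 (Nat.add 0 i)) = true := by decide +kernel
theorem trc_r19_1 : allB 5000 (fun i => frl_r19 (Nat.add 5000 i)) = true := by decide +kernel
theorem trc_r19_2 : allB 5000 (fun i => frl_r19 (Nat.add 10000 i)) = true := by decide +kernel
theorem trc_r19_3 : allB 5000 (fun i => frl_r19 (Nat.add 15000 i)) = true := by decide +kernel
theorem trc_r19_4 : allB 5000 (fun i => frl_r19 (Nat.add 20000 i)) = true := by decide +kernel
theorem trc_r19_5 : allB 5000 (fun i => frl_r19 (Nat.add 25000 i)) = true := by decide +kernel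
theorem trc_r19_6 : allB 5000 (fun i => frl_r19 (Nat.add 30000 i)) = true := by decide +kernel
theorem trc_r19_7 : allB 5000 (fun i => frl_r19 (Nat.add 35000 i)) = true := by decide +kernel
theorem trc_r19_8 : allB 5000 (fun i => frl_r19 (Nat.add 40000 i)) = true := by decide +kernel
theorem trc_r19_9 : allB 5000 (fun i => frl_r19 (Nat.add 45000 i)) = true := by decide +kernel
theorem trc_r19_10 : allB 5000 (fun i => frl_r19 (Nat.add 50000 i)) = true := by decide +kernel
theorem trc_r19_11 : allB 5000 (fun i => frl_r19 (Nat.add 55000 i)) = true := by decide +kernel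
theorem trc_r19_12 : allB 1776 (fun i => frl_r19 (Nat.add 60000 i)) = true := by decide +kernel
theorem trc_r20_0 : allB 15000 (fun i => frl_r20 (Nat.add 0 i)) = true := by decide +kernel
theorem trc_r20_1 : allB 15000 (fun i => frl_r20 (Nat.add 15000 i)) = true := by decide +kernel
theorem trc_r20_2 : allB 15000 (fun i => frl_r20 (Nat.add 30000 i)) = true := by decide +kernel
theorem trc_r20_3 : allB 15000 (fun i => frl_r20 (Nat.add 45000 i)) = true := by decide +kernel
theorem trc_r20_4 : allB 1776 (fun i => frl_r20 (Nat.add 60000 i)) = true := by decide +kernel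
theorem trc_r21_0 : allB 5000 (fun i => frl_r21 (Nat.add 0 i)) = true := by decide +kernel
theorem trc_r21_1 : allB 5000 (fun i => frl_r21 (Nat.add 5000 i)) = true := by decide +kernel
theorem trc_r21_2 : allB 5000 (fun i => frl_r21 (Nat.add 10000 i)) = true := by decide +kernel
theorem trc_r21_3 : allB 5000 (fun i => frl_r21 (Nat.add 15000 i)) = true := by decide +kernel
theorem trc_r21_4 : allB 5000 (fun i => frl_r21 (Nat.add 20000 i)) = true := by decide +kernel
theorem trc_r21_5 : allB 5000 (fun i => frl_r21 (Nat.add 25000 i)) = true := by decide +kernel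
theorem trc_r21_6 : allB 5000 (fun i => frl_r21 (Nat.add 30000 i)) = true := by decide +kernel

end Cfsg.Agent.Lib.Helper5.Fi22Cov
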