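import Cfsg.Agent.Lib.Helper5.Fi22Cov.Frl

/-! # The sixfold cover of `Fi22`: relators traced on the first rows of the blocks (kernel checks by ranges of blocks, part 5) -/

set_option autoImplicit false
set_option maxRecDepth 1000000

namespace Cfsg.Agent.Lib.Helper5.Fi22Cov

open Cfsg.Agent.PG (allB allB_iff)

theorem trc_r21_7 : allB 5000 (fun i => frl_r21 (Nat.add 35000 i)) = true := by decide +kernel
theorem trc_r21_8 : allB 5000 (fun i => frl_r21 (Nat.add 40000 i)) = true := by decide +kernel
theorem trc_r21_9 : allB 5000 (fun i => frl_r21 (Nat.add 45000 i)) = true := by decide +kernel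
theorem trc_r21_10 : allB 5000 (fun i => frl_r21 (Nat.add 50000 i)) = true := by decide +kernel
theorem trc_r21_11 : allB 5000 (fun i => frl_r21 (Nat.add 55000 i)) = true := by decide +kernel
theorem trc_r21_12 : allB 1776 (fun i => frl_r21 (Nat.add 60000 i)) = true := by decide +kernel
theorem trc_r22_0 : allB 7500 (fun i => frl_r22 (Nat.add 0 i)) = true := by decide +kernel
theorem trc_r22_1 : allB 7500 (fun i => frl_r22 (Nat.add 7500 i)) = true := by decide +kernel
theorem trc_r22_2 : allB 7500 (fun i => frl_r22 (Nat.add 15000 i)) = true := by decide +kernel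
theorem trc_r22_3 : allB 7500 (fun i => frl_r22 (Nat.add 22500 i)) = true := by decide +kernel
theorem trc_r22_4 : allB 7500 (fun i => frl_r22 (Nat.add 30000 i)) = true := by decide +kernel
theorem trc_r22_5 : allB 7500 (fun i => frl_r22 (Nat.add 37500 i)) = true := by decide +kernel
theorem trc_r22_6 : allB 7500 (fun i => frl_r22 (Nat.add 45000 i)) = true := by decide +kernel
theorem trc_r22_7 : allB 7500 (fun i => frl_r22 (Nat.add 52500 i)) = true := by decide +kernel
theorem trc_r22_8 : allB 1776 (fun i => frl_r22 (Nat.add 60000 i)) = true := by decide +kernel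
theorem trc_r23_0 : allB 7500 (fun i => frl_r23 (Nat.add 0 i)) = true := by decide +kernel
theorem trc_r23_1 : allB 7500 (fun i => frl_r23 (Nat.add 7500 i)) = true := by decide +kernel
theorem trc_r23_2 : allB 7500 (fun i => frl_r23 (Nat.add 15000 i)) = true := by decide +kernel
theorem trc_r23_3 : allB 7500 (fun i => frl_r23 (Nat.add 22500 i)) = true := by decide +kernel
theorem trc_r23_4 : allB 7500 (fun i => frl_r23 (Nat.add 30000 i)) = true := by decide +kernel
theorem trc_r23_5 : allB 7500 (fun i => frl_r23 (Nat.add 37500 i)) = true := by decide +kernel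
theorem trc_r23_6 : allB 7500 (fun i => frl_r23 (Nat.add 45000 i)) = true := by decide +kernel
theorem trc_r23_7 : allB 7500 (fun i => frl_r23 (Nat.add 52500 i)) = true := by decide +kernel
theorem trc_r23_8 : allB 1776 (fun i => frl_r23 (Nat.add 60000 i)) = true := by decide +kernel
theorem trc_r24_0 : allB 7500 (fun i => frl_r24 (Nat.add 0 i)) = true := by decide +kernel
theorem trc_r24_1 : allB 7500 (fun i => frl_r24 (Nat.add 7500 i)) = true := by decide +kernel
theorem trc_r24_2 : allB 7500 (fun i => frl_r24 (Nat.add 15000 i)) = true := by decide +kernel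
theorem trc_r24_3 : allB 7500 (fun i => frl_r24 (Nat.add 22500 i)) = true := by decide +kernel
theorem trc_r24_4 : allB 7500 (fun i => frl_r24 (Nat.add 30000 i)) = true := by decide +kernel
theorem trc_r24_5 : allB 7500 (fun i => frl_r24 (Nat.add 37500 i)) = true := by decide +kernel
theorem trc_r24_6 : allB 7500 (fun i => frl_r24 (Nat.add 45000 i)) = true := by decide +kernel
theorem trc_r24_7 : allB 7500 (fun i => frl_r24 (Nat.add 52500 i)) = true := by decide +kernel
theorem trc_r24_8 : allB 1776 (fun i => frl_r24 (Nat.add 60000 i)) = true := by decide +kernel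
theorem trc_r25_0 : allB 7500 (fun i => frl_r25 (Nat.add 0 i)) = true := by decide +kernel
theorem trc_r25_1 : allB 7500 (fun i => frl_r25 (Nat.add 7500 i)) = true := by decide +kernel
theorem trc_r25_2 : allB 7500 (fun i => frl_r25 (Nat.add 15000 i)) = true := by decide +kernel
theorem trc_r25_3 : allB 7500 (fun i => frl_r25 (Nat.add 22500 i)) = true := by decide +kernel
theorem trc_r25_4 : allB 7500 (fun i => frl_r25 (Nat.add 30000 i)) = true := by decide +kernel
theorem trc_r25_5 : allB 7500 (fun i => frl_r25 (Nat.add 37500 i)) = true := by decide +kernel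
theorem trc_r25_6 : allB 7500 (fun i => frl_r25 (Nat.add 45000 i)) = true := by decide +kernel

end Cfsg.Agent.Lib.Helper5.Fi22Cov
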