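import Cfsg.Agent.Lib.Helper5.Fi22Cov.Frl

/-! # The sixfold cover of `Fi22`: relators traced on the first rows of the blocks (kernel checks by ranges of blocks, part 7) -/

set_option autoImplicit false
set_option maxRecDepth 1000000

namespace Cfsg.Agent.Lib.Helper5.Fi22Cov

open Cfsg.Agent.PG (allB allB_iff)

theorem trc_r29_11 : allB 5000 (fun i => frl_r29 (Nat.add 55000 i)) = true := by decide +kernel
theorem trc_r29_12 : allB 1776 (fun i => frl_r29 (Nat.add 60000 i)) = true := by decide +kernel
theorem trc_r30_0 : allB 15000 (fun i => frl_r30 (Nat.add 0 i)) = true := by decide +kernel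
theorem trc_r30_1 : allB 15000 (fun i => frl_r30 (Nat.add 15000 i)) = true := by decide +kernel
theorem trc_r30_2 : allB 15000 (fun i => frl_r30 (Nat.add 30000 i)) = true := by decide +kernel
theorem trc_r30_3 : allB 15000 (fun i => frl_r30 (Nat.add 45000 i)) = true := by decide +kernel
theorem trc_r30_4 : allB 1776 (fun i => frl_r30 (Nat.add 60000 i)) = true := by decide +kernel
theorem trc_r31_0 : allB 5000 (fun i => frl_r31 (Nat.add 0 i)) = true := by decide +kernel
theorem trc_r31_1 : allB 5000 (fun i => frl_r31 (Nat.add 5000 i)) = true := by decide +kernel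
theorem trc_r31_2 : allB 5000 (fun i => frl_r31 (Nat.add 10000 i)) = true := by decide +kernel
theorem trc_r31_3 : allB 5000 (fun i => frl_r31 (Nat.add 15000 i)) = true := by decide +kernel
theorem trc_r31_4 : allB 5000 (fun i => frl_r31 (Nat.add 20000 i)) = true := by decide +kernel
theorem trc_r31_5 : allB 5000 (fun i => frl_r31 (Nat.add 25000 i)) = true := by decide +kernel
theorem trc_r31_6 : allB 5000 (fun i => frl_r31 (Nat.add 30000 i)) = true := by decide +kernel
theorem trc_r31_7 : allB 5000 (fun i => frl_r31 (Nat.add 35000 i)) = true := by decide +kernel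
theorem trc_r31_8 : allB 5000 (fun i => frl_r31 (Nat.add 40000 i)) = true := by decide +kernel
theorem trc_r31_9 : allB 5000 (fun i => frl_r31 (Nat.add 45000 i)) = true := by decide +kernel
theorem trc_r31_10 : allB 5000 (fun i => frl_r31 (Nat.add 50000 i)) = true := by decide +kernel
theorem trc_r31_11 : allB 5000 (fun i => frl_r31 (Nat.add 55000 i)) = true := by decide +kernel
theorem trc_r31_12 : allB 1776 (fun i => frl_r31 (Nat.add 60000 i)) = true := by decide +kernel
theorem trc_r32_0 : allB 7500 (fun i => frl_r32 (Nat.add 0 i)) = true := by decide +kernel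
theorem trc_r32_1 : allB 7500 (fun i => frl_r32 (Nat.add 7500 i)) = true := by decide +kernel
theorem trc_r32_2 : allB 7500 (fun i => frl_r32 (Nat.add 15000 i)) = true := by decide +kernel
theorem trc_r32_3 : allB 7500 (fun i => frl_r32 (Nat.add 22500 i)) = true := by decide +kernel
theorem trc_r32_4 : allB 7500 (fun i => frl_r32 (Nat.add 30000 i)) = true := by decide +kernel
theorem trc_r32_5 : allB 7500 (fun i => frl_r32 (Nat.add 37500 i)) = true := by decide +kernel
theorem trc_r32_6 : allB 7500 (fun i => frl_r32 (Nat.add 45000 i)) = true := by decide +kernel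
theorem trc_r32_7 : allB 7500 (fun i => frl_r32 (Nat.add 52500 i)) = true := by decide +kernel
theorem trc_r32_8 : allB 1776 (fun i => frl_r32 (Nat.add 60000 i)) = true := by decide +kernel
theorem trc_r33_0 : allB 7500 (fun i => frl_r33 (Nat.add 0 i)) = true := by decide +kernel
theorem trc_r33_1 : allB 7500 (fun i => frl_r33 (Nat.add 7500 i)) = true := by decide +kernel
theorem trc_r33_2 : allB 7500 (fun i => frl_r33 (Nat.add 15000 i)) = true := by decide +kernel
theorem trc_r33_3 : allB 7500 (fun i => frl_r33 (Nat.add 22500 i)) = true := by decide +kernel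
theorem trc_r33_4 : allB 7500 (fun i => frl_r33 (Nat.add 30000 i)) = true := by decide +kernel
theorem trc_r33_5 : allB 7500 (fun i => frl_r33 (Nat.add 37500 i)) = true := by decide +kernel
theorem trc_r33_6 : allB 7500 (fun i => frl_r33 (Nat.add 45000 i)) = true := by decide +kernel
theorem trc_r33_7 : allB 7500 (fun i => frl_r33 (Nat.add 52500 i)) = true := by decide +kernel
theorem trc_r33_8 : allB 1776 (fun i => frl_r33 (Nat.add 60000 i)) = true := by decide +kernel
theorem trc_r34_0 : allB 5000 (fun i => frl_r34 (Nat.add 0 i)) = true := by decide +kernel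
theorem trc_r34_1 : allB 5000 (fun i => frl_r34 (Nat.add 5000 i)) = true := by decide +kernel

end Cfsg.Agent.Lib.Helper5.Fi22Cov
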