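import Cfsg.Agent.Lib.Helper5.Fi22Cov.Frl

/-! # The sixfold cover of `Fi22`: relators traced on the first rows of the blocks (kernel checks by ranges of blocks, part 9) -/

set_option autoImplicit false
set_option maxRecDepth 1000000

namespace Cfsg.Agent.Lib.Helper5.Fi22Cov

open Cfsg.Agent.PG (allB allB_iff)

theorem trc_r38_2 : allB 7500 (fun i => frl_r38 (Nat.add 15000 i)) = true := by decide +kernel
theorem trc_r38_3 : allB 7500 (fun i => frl_r38 (Nat.add 22500 i)) = true := by decide +kernel
theorem trc_r38_4 : allB 7500 (fun i => frl_r38 (Nat.add 30000 i)) = true := by decide +kernel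
theorem trc_r38_5 : allB 7500 (fun i => frl_r38 (Nat.add 37500 i)) = true := by decide +kernel
theorem trc_r38_6 : allB 7500 (fun i => frl_r38 (Nat.add 45000 i)) = true := by decide +kernel
theorem trc_r38_7 : allB 7500 (fun i => frl_r38 (Nat.add 52500 i)) = true := by decide +kernel
theorem trc_r38_8 : allB 1776 (fun i => frl_r38 (Nat.add 60000 i)) = true := by decide +kernel
theorem trc_r39_0 : allB 5000 (fun i => frl_r39 (Nat.add 0 i)) = true := by decide +kernel
theorem trc_r39_1 : allB 5000 (fun i => frl_r39 (Nat.add 5000 i)) = true := by decide +kernel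
theorem trc_r39_2 : allB 5000 (fun i => frl_r39 (Nat.add 10000 i)) = true := by decide +kernel
theorem trc_r39_3 : allB 5000 (fun i => frl_r39 (Nat.add 15000 i)) = true := by decide +kernel
theorem trc_r39_4 : allB 5000 (fun i => frl_r39 (Nat.add 20000 i)) = true := by decide +kernel
theorem trc_r39_5 : allB 5000 (fun i => frl_r39 (Nat.add 25000 i)) = true := by decide +kernel
theorem trc_r39_6 : allB 5000 (fun i => frl_r39 (Nat.add 30000 i)) = true := by decide +kernel
theorem trc_r39_7 : allB 5000 (fun i => frl_r39 (Nat.add 35000 i)) = true := by decide +kernel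
theorem trc_r39_8 : allB 5000 (fun i => frl_r39 (Nat.add 40000 i)) = true := by decide +kernel
theorem trc_r39_9 : allB 5000 (fun i => frl_r39 (Nat.add 45000 i)) = true := by decide +kernel
theorem trc_r39_10 : allB 5000 (fun i => frl_r39 (Nat.add 50000 i)) = true := by decide +kernel
theorem trc_r39_11 : allB 5000 (fun i => frl_r39 (Nat.add 55000 i)) = true := by decide +kernel
theorem trc_r39_12 : allB 1776 (fun i => frl_r39 (Nat.add 60000 i)) = true := by decide +kernel
theorem trc_r40_0 : allB 15000 (fun i => frl_r40 (Nat.add 0 i)) = true := by decide +kernel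
theorem trc_r40_1 : allB 15000 (fun i => frl_r40 (Nat.add 15000 i)) = true := by decide +kernel
theorem trc_r40_2 : allB 15000 (fun i => frl_r40 (Nat.add 30000 i)) = true := by decide +kernel
theorem trc_r40_3 : allB 15000 (fun i => frl_r40 (Nat.add 45000 i)) = true := by decide +kernel
theorem trc_r40_4 : allB 1776 (fun i => frl_r40 (Nat.add 60000 i)) = true := by decide +kernel
theorem trc_r41_0 : allB 5000 (fun i => frl_r41 (Nat.add 0 i)) = true := by decide +kernel
theorem trc_r41_1 : allB 5000 (fun i => frl_r41 (Nat.add 5000 i)) = true := by decide +kernel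
theorem trc_r41_2 : allB 5000 (fun i => frl_r41 (Nat.add 10000 i)) = true := by decide +kernel
theorem trc_r41_3 : allB 5000 (fun i => frl_r41 (Nat.add 15000 i)) = true := by decide +kernel
theorem trc_r41_4 : allB 5000 (fun i => frl_r41 (Nat.add 20000 i)) = true := by decide +kernel
theorem trc_r41_5 : allB 5000 (fun i => frl_r41 (Nat.add 25000 i)) = true := by decide +kernel
theorem trc_r41_6 : allB 5000 (fun i => frl_r41 (Nat.add 30000 i)) = true := by decide +kernel
theorem trc_r41_7 : allB 5000 (fun i => frl_r41 (Nat.add 35000 i)) = true := by decide +kernel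
theorem trc_r41_8 : allB 5000 (fun i => frl_r41 (Nat.add 40000 i)) = true := by decide +kernel
theorem trc_r41_9 : allB 5000 (fun i => frl_r41 (Nat.add 45000 i)) = true := by decide +kernel
theorem trc_r41_10 : allB 5000 (fun i => frl_r41 (Nat.add 50000 i)) = true := by decide +kernel
theorem trc_r41_11 : allB 5000 (fun i => frl_r41 (Nat.add 55000 i)) = true := by decide +kernel
theorem trc_r41_12 : allB 1776 (fun i => frl_r41 (Nat.add 60000 i)) = true := by decide +kernel
theorem trc_r42_0 : allB 7500 (fun i => frl_r42 (Nat.add 0 i)) = true := by decide +kernel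
theorem trc_r42_1 : allB 7500 (fun i => frl_r42 (Nat.add 7500 i)) = true := by decide +kernel

end Cfsg.Agent.Lib.Helper5.Fi22Cov
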