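import Cfsg.Agent.Lib.Helper5.Fi22Cov.Rels
import Cfsg.Agent.Lib.Helper5.Fi22Cov.ChkM0
import Cfsg.Agent.Lib.Helper5.Fi22Cov.ChkM1
import Cfsg.Agent.Lib.Helper5.Fi22Cov.ChkM2
import Cfsg.Agent.Lib.Helper5.Fi22Cov.ChkM3
import Cfsg.Agent.Lib.Helper5.Fi22Cov.ChkM4
import Cfsg.Agent.Lib.Helper5.Fi22Cov.ChkM5
import Cfsg.Agent.Lib.Helper5.Fi22Cov.ChkM6
import Cfsg.Agent.Lib.Helper5.Fi22Cov.ChkM7
import Cfsg.Agent.Lib.Helper5.Fi22Cov.ChkM8
import Cfsg.Agent.Lib.Helper6.Fi22Simple
import Cfsg.Agent.Lib.Helper5.SuzMult.Gen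
import Cfsg.Agent.Lib.Helper5.J3MultE

/-!
# The sixfold cover of the Fischer group `Fi22`

Nine monomial permutations `mD 0, …, mD 8` of `6 · 61776` rows generate a group `D` that contains the rotation `zetP` of
the blocks of six rows.  Every relator of the presentation of `Fi22` is a power of the rotation on them, so the
generators of `Fi22` map to `D` modulo the rotation; this map is onto, and injective because `Fi22` is simple.  The
rotation is central of order six, and `D` is perfect, being generated by involutions that are joined by products of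
order three and satisfy a relation of odd length.  Hence `D → Fi22` is a stem extension whose kernel is cyclic of order
six.
-/

set_option autoImplicit false
set_option maxRecDepth 100000

namespace Cfsg.Agent.Lib.Helper5.Fi22Cov

open Cfsg Cfsg.Spor Cfsg.Agent.Lib.Helper6 Cfsg.Agent.Lib.Helper6.TC
open scoped commutatorElement

theorem mok_tbF : ∀ x, MOKb (tbF x) (ccF x) = true
  | 0 => chk_mok0
  | 1 => chk_mok1
  | 2 => chk_mok2
  | 3 => chk_mok3
  | 4 => chk_mok4
  | 5 => chk_mok5
  | 6 => chk_mok6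
  | 7 => chk_mok7
  | (_ + 8) => chk_mok8

/-- the nine monomial permutations -/
noncomputable def mD (x : ℕ) : Equiv.Perm (Fin NR) := sig (tbF x) (ccF x)

theorem prod_mD {w : List ℕ} {k : ℕ} (hk : k < 6) (h : relT tbF k w = true) : (w.map mD).prod = zetP ^ k :=
  prod_eq_pow_of_relT tbF ccF mok_tbF hk h

/-- the cover -/
noncomputable def D : Subgroup (Equiv.Perm (Fin NR)) := Subgroup.closure (mD '' Set.Iio 9)

theorem mD_mem : ∀ x, mD x ∈ D
  | 0 => Subgroup.subset_closure ⟨0, by norm_num, rfl⟩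
  | 1 => Subgroup.subset_closure ⟨1, by norm_num, rfl⟩
  | 2 => Subgroup.subset_closure ⟨2, by norm_num, rfl⟩
  | 3 => Subgroup.subset_closure ⟨3, by norm_num, rfl⟩
  | 4 => Subgroup.subset_closure ⟨4, by norm_num, rfl⟩
  | 5 => Subgroup.subset_closure ⟨5, by norm_num, rfl⟩
  | 6 => Subgroup.subset_closure ⟨6, by norm_num, rfl⟩
  | 7 => Subgroup.subset_closure ⟨7, by norm_num, rfl⟩
  | (_ + 8) => Subgroup.subset_closure ⟨8, by norm_num, rfl⟩

theorem prod_mem (w : List ℕ) : (w.map mD).prod ∈ D := by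
  apply Subgroup.list_prod_mem
  intro y hy
  rw [List.mem_map] at hy
  obtain ⟨x, -, rfl⟩ := hy
  exact mD_mem x

/-! ### the relators -/

theorem rel_get : ∀ i, i < 84 → ∃ k, k < 6 ∧ relT tbF k (relWords.getD i []) = true := by
  intro i hi
  interval_cases i
  · exact ⟨0, by norm_num, rel_r0⟩
  · exact ⟨0, by norm_num, rel_r1⟩
  · exact ⟨0, by norm_num, rel_r2⟩
  · exact ⟨0, by norm_num, rel_r3⟩
  · exact ⟨0, by norm_num, rel_r4⟩
  · exact ⟨0, by norm_num, rel_r5⟩
  · exact ⟨0, by norm_num, rel_r6⟩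
  · exact ⟨0, by norm_num, rel_r7⟩
  · exact ⟨0, by norm_num, rel_r8⟩
  · exact ⟨0, by norm_num, rel_r9⟩
  · exact ⟨0, by norm_num, rel_r10⟩
  · exact ⟨0, by norm_num, rel_r11⟩
  · exact ⟨0, by norm_num, rel_r12⟩
  · exact ⟨0, by norm_num, rel_r13⟩
  · exact ⟨0, by norm_num, rel_r14⟩
  · exact ⟨0, by norm_num, rel_r15⟩
  · exact ⟨0, by norm_num, rel_r16⟩
  · exact ⟨0, by norm_num, rel_r17⟩
  · exact ⟨0, by norm_num, rel_r18⟩
  · exact ⟨0, by norm_num, rel_r19⟩
  · exact ⟨0, by norm_num, rel_r20⟩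
  · exact ⟨0, by norm_num, rel_r21⟩
  · exact ⟨0, by norm_num, rel_r22⟩
  · exact ⟨0, by norm_num, rel_r23⟩
  · exact ⟨0, by norm_num, rel_r24⟩
  · exact ⟨0, by norm_num, rel_r25⟩
  · exact ⟨0, by norm_num, rel_r26⟩
  · exact ⟨0, by norm_num, rel_r27⟩
  · exact ⟨0, by norm_num, rel_r28⟩
  · exact ⟨0, by norm_num, rel_r29⟩
  · exact ⟨0, by norm_num, rel_r30⟩
  · exact ⟨0, by norm_num, rel_r31⟩
  · exact ⟨0, by norm_num, rel_r32⟩
  · exact ⟨0, by norm_num, rel_r33⟩
  · exact ⟨0, by norm_num, rel_r34⟩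
  · exact ⟨0, by norm_num, rel_r35⟩
  · exact ⟨0, by norm_num, rel_r36⟩
  · exact ⟨0, by norm_num, rel_r37⟩
  · exact ⟨0, by norm_num, rel_r38⟩
  · exact ⟨0, by norm_num, rel_r39⟩
  · exact ⟨0, by norm_num, rel_r40⟩
  · exact ⟨0, by norm_num, rel_r41⟩
  · exact ⟨0, by norm_num, rel_r42⟩
  · exact ⟨0, by norm_num, rel_r43⟩
  · exact ⟨0, by norm_num, rel_r44⟩
  · exact ⟨0, by norm_num, rel_r45⟩
  · exact ⟨0, by norm_num, rel_r46⟩
  · exact ⟨0, by norm_num, rel_r47⟩
  · exact ⟨0, by norm_num, rel_r48⟩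
  · exact ⟨0, by norm_num, rel_r49⟩
  · exact ⟨0, by norm_num, rel_r50⟩
  · exact ⟨0, by norm_num, rel_r51⟩
  · exact ⟨0, by norm_num, rel_r52⟩
  · exact ⟨0, by norm_num, rel_r53⟩
  · exact ⟨0, by norm_num, rel_r54⟩
  · exact ⟨0, by norm_num, rel_r55⟩
  · exact ⟨0, by norm_num, rel_r56⟩
  · exact ⟨0, by norm_num, rel_r57⟩
  · exact ⟨0, by norm_num, rel_r58⟩
  · exact ⟨0, by norm_num, rel_r59⟩
  · exact ⟨0, by norm_num, rel_r60⟩
  · exact ⟨0, by norm_num, rel_r61⟩
  · exact ⟨0, by norm_num, rel_r62⟩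
  · exact ⟨0, by norm_num, rel_r63⟩
  · exact ⟨0, by norm_num, rel_r64⟩
  · exact ⟨0, by norm_num, rel_r65⟩
  · exact ⟨0, by norm_num, rel_r66⟩
  · exact ⟨0, by norm_num, rel_r67⟩
  · exact ⟨0, by norm_num, rel_r68⟩
  · exact ⟨0, by norm_num, rel_r69⟩
  · exact ⟨0, by norm_num, rel_r70⟩
  · exact ⟨0, by norm_num, rel_r71⟩
  · exact ⟨0, by norm_num, rel_r72⟩
  · exact ⟨0, by norm_num, rel_r73⟩
  · exact ⟨0, by norm_num, rel_r74⟩
  · exact ⟨0, by norm_num, rel_r75⟩
  · exact ⟨0, by norm_num, rel_r76⟩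
  · exact ⟨0, by norm_num, rel_r77⟩
  · exact ⟨0, by norm_num, rel_r78⟩
  · exact ⟨0, by norm_num, rel_r79⟩
  · exact ⟨0, by norm_num, rel_r80⟩
  · exact ⟨4, by norm_num, rel_r81⟩
  · exact ⟨0, by norm_num, rel_r82⟩
  · exact ⟨3, by norm_num, rel_r83⟩

theorem relWords_length : relWords.length = 84 := by decide

theorem rel_mem {w : List ℕ} (hw : w ∈ relWords) : ∃ k, k < 6 ∧ (w.map mD).prod = zetP ^ k := by
  obtain ⟨i, hi, rfl⟩ := List.mem_iff_getElem.1 hw
  obtain ⟨k, hk, h⟩ := rel_get i (by rw [← relWords_length]; exact hi)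
  rw [List.getD_eq_getElem _ _ hi] at h
  exact ⟨k, hk, prod_mD hk h⟩

theorem relWords_eq : relWords = coxWordsL Fi22.edges Fi22TC.data.gen 9 ++ Fi22TC.data.extraWords := by
  decide +kernel

/-! ### the rotation -/

theorem pow_seven : zetP ^ 3 * zetP ^ 4 = zetP := by
  rw [← pow_add, show 3 + 4 = 6 + 1 by norm_num, pow_add, zetP_pow_six, one_mul, pow_one]

theorem zetP_mem : zetP ∈ D := by
  rw [← pow_seven, ← prod_mD (by norm_num) rel_r83, ← prod_mD (by norm_num) rel_r81]
  exact D.mul_mem (prod_mem _) (prod_mem _)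

/-- the rotation, in the cover -/
noncomputable def zD : ↥D := ⟨zetP, zetP_mem⟩

theorem zD_val : (zD : Equiv.Perm (Fin NR)) = zetP := rfl

theorem mD_comm (x : ℕ) : mD x * zetP = zetP * mD x := sig_comm_zetP _ _

theorem zD_mem_center : zD ∈ Subgroup.center ↥D := by
  rw [Subgroup.mem_center_iff]
  have key : ∀ q ∈ D, q * zetP = zetP * q := by
    intro q hq
    unfold D at hq
    induction hq using Subgroup.closure_induction with
    | mem q hq =>
      obtain ⟨i, -, rfl⟩ := hq
      exact mD_comm i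
    | one => simp
    | mul a b _ _ ha hb => rw [mul_assoc, hb, ← mul_assoc, ha, mul_assoc]
    | inv a _ ha =>
      rw [inv_mul_eq_iff_eq_mul, ← mul_assoc, ha, mul_assoc, mul_inv_cancel, mul_one]
  intro d
  apply Subtype.ext
  rw [Subgroup.coe_mul, Subgroup.coe_mul, zD_val]
  exact key d.1 d.2

theorem orderOf_zD : orderOf zD = 6 := by
  rw [← orderOf_zetP, ← zD_val]
  exact (Subgroup.orderOf_coe zD).symm

/-- an element of `D` given by a word -/
noncomputable def wD (w : List ℕ) : ↥D := ⟨(w.map mD).prod, prod_mem w⟩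

/-! ### the cover is perfect -/

theorem sq_of {i : ℕ} (h : relT tbF 0 [i, i] = true) : mD i * mD i = 1 := by
  have := prod_mD (by norm_num) h
  simpa using this

theorem link_of {i p : ℕ} (h : relT tbF 0 [i, p, i, p, i, p] = true) : (mD i * mD p) ^ 3 = 1 := by
  have := prod_mD (by norm_num) h
  rw [pow_succ, pow_succ, pow_one]
  simpa [mul_assoc] using this

theorem mD_sq : ∀ i, i < 9 → mD i * mD i = 1 := by
  intro i hi
  interval_cases i
  · exact sq_of rel_r0
  · exact sq_of rel_r10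
  · exact sq_of rel_r20
  · exact sq_of rel_r30
  · exact sq_of rel_r40
  · exact sq_of rel_r50
  · exact sq_of rel_r60
  · exact sq_of rel_r70
  · exact sq_of rel_r80

theorem cpar_lt : ∀ i, i < 9 → cpar i < 9 := by decide

theorem cpar_root : ∀ i, i < 9 → cpar^[9] i = 0 := by decide

theorem mD_link : ∀ i, i < 9 → (mD i * mD (cpar i)) ^ 3 = 1 := by
  intro i hi
  interval_cases i
  · show (mD 0 * mD 0) ^ 3 = 1
    rw [mD_sq 0 (by norm_num), one_pow]
  · exact link_of rel_r9
  · exact link_of rel_r19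
  · exact link_of rel_r29
  · exact link_of rel_r39
  · exact link_of rel_r49
  · exact link_of rel_r59
  · exact link_of rel_r66
  · exact link_of rel_r79

/-- a relator of odd length -/
def oddWord : List ℕ := relWords.getD 82 []

theorem oddWord_lt : ∀ x ∈ oddWord, x < 9 := by decide

theorem oddWord_prod : (oddWord.map mD).prod = 1 := by
  have := prod_mD (by norm_num) rel_r82
  rw [pow_zero] at this
  exact this

/-- **the cover is perfect** -/
theorem perfect_D : commutator ↥D = ⊤ :=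
  SuzMult.perfect_closure_invol mD 9 cpar mD_sq cpar_lt mD_link cpar_root oddWord oddWord_lt (by decide) oddWord_prod

theorem zD_mem_commutator : zD ∈ commutator ↥D := by
  rw [perfect_D]
  exact Subgroup.mem_top _

/-- the group generated by the rotation -/
noncomputable def Z : Subgroup ↥D := Subgroup.zpowers zD

theorem Z_le_center : Z ≤ Subgroup.center ↥D := by
  unfold Z
  rw [Subgroup.zpowers_le]
  exact zD_mem_center

instance Z_normal : Z.Normal := ⟨fun n hn g => by
  have h := Z_le_center hn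
  rw [Subgroup.mem_center_iff] at h
  rw [h g, mul_assoc, mul_inv_cancel, mul_one]
  exact hn⟩

theorem card_Z : Nat.card ↥Z = 6 := by
  unfold Z
  rw [Nat.card_zpowers, orderOf_zD]

/-! ### the map from the presented group -/

/-- the generators of the cover modulo the rotation -/
noncomputable def mQ (x : ℕ) : ↥D ⧸ Z := QuotientGroup.mk (⟨mD x, mD_mem x⟩ : ↥D)

theorem prod_mQ (w : List ℕ) : (w.map mQ).prod = QuotientGroup.mk (wD w) := by
  induction w with
  | nil => rfl
  | cons x w ih =>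
    rw [List.map_cons, List.prod_cons, ih]
    rfl

theorem prod_mQ_eq_one {w : List ℕ} (hw : w ∈ relWords) : (w.map mQ).prod = 1 := by
  obtain ⟨k, hk, h⟩ := rel_mem hw
  rw [prod_mQ, QuotientGroup.eq_one_iff]
  have : wD w = zD ^ k := by
    apply Subtype.ext
    rw [Subgroup.coe_pow, zD_val]
    exact h
  rw [this]
  exact Subgroup.pow_mem _ (Subgroup.mem_zpowers zD) k

/-- the images of the generators of the presentation -/
noncomputable def fQ (y : Fi22.Gen) : ↥D ⧸ Z := mQ (Fi22TC.data.code y)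

theorem fQ_gen {x : ℕ} (hx : x < 9) : fQ (Fi22TC.data.gen x) = mQ x := by
  unfold fQ
  rw [Fi22TC.data.hgen x hx]

theorem letters_lt {w : List ℕ} (hw : w ∈ relWords) : ∀ x ∈ w, x < 9 := by
  have h : relWords.all (fun w => w.all fun x => Nat.blt x 9) = true := by decide
  intro x hx
  have := List.all_eq_true.1 (List.all_eq_true.1 h w hw) x hx
  rwa [Nat.blt_eq] at this

theorem word_fQ {w : List ℕ} (hw : w ∈ relWords) : (w.map (fun x => fQ (Fi22TC.data.gen x))).prod = 1 := by
  rw [← prod_mQ_eq_one hw]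
  congr 1
  apply List.map_congr_left
  intro x hx
  exact fQ_gen (letters_lt hw x hx)

theorem fQ_mul_self (y : Fi22.Gen) : fQ y * fQ y = 1 := by
  obtain ⟨hlt, hgen⟩ := Fi22TC.data.hcode y
  have hm := mem_coxWordsL Fi22.edges Fi22TC.data.gen hlt hlt
  have hw : rep2 (Fi22TC.data.code y) (Fi22TC.data.code y)
      (coxLabel Fi22.edges (Fi22TC.data.gen (Fi22TC.data.code y)) (Fi22TC.data.gen (Fi22TC.data.code y))) ∈ relWords := by
    rw [relWords_eq]
    exact List.mem_append_left _ hm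
  have := word_fQ hw
  rw [prod_rep2 (fun x => fQ (Fi22TC.data.gen x)), hgen] at this
  have hl : coxLabel Fi22.edges y y = 1 := by
    unfold coxLabel
    rw [if_pos rfl]
  rw [hl, pow_one] at this
  exact this

theorem lift_eq_one : ∀ r ∈ coxRelators Fi22.edges ∪ {r | r ∈ Fi22.extra}, FreeGroup.lift fQ r = 1 := by
  intro r hr
  rcases hr with ⟨x, _, y, _, rfl⟩ | hr
  · rw [map_pow, map_mul, FreeGroup.lift_apply_of, FreeGroup.lift_apply_of]
    have hx := Fi22TC.data.hcode x
    have hy := Fi22TC.data.hcode y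
    have hm := mem_coxWordsL Fi22.edges Fi22TC.data.gen hx.1 hy.1
    have hw : rep2 (Fi22TC.data.code x) (Fi22TC.data.code y)
        (coxLabel Fi22.edges (Fi22TC.data.gen (Fi22TC.data.code x)) (Fi22TC.data.gen (Fi22TC.data.code y))) ∈ relWords := by
      rw [relWords_eq]
      exact List.mem_append_left _ hm
    have := word_fQ hw
    rw [prod_rep2 (fun x => fQ (Fi22TC.data.gen x)), hx.2, hy.2] at this
    exact this
  · have := (Fi22TC.data.hextra fQ fQ_mul_self).2
      (fun w hw => word_fQ (by rw [relWords_eq]; exact List.mem_append_right _ hw))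
    exact this r hr

/-- the map from the presented group onto the cover modulo the rotation -/
noncomputable def φ : Fi22 →* ↥D ⧸ Z := PresentedGroup.toGroup lift_eq_one

theorem φ_of (y : Fi22.Gen) : φ (PresentedGroup.of y) = fQ y := PresentedGroup.toGroup.of _

theorem φ_surjective : Function.Surjective φ := by
  intro q
  induction q using QuotientGroup.induction_on with
  | H d =>
    obtain ⟨d, hd⟩ := d
    unfold D at hd
    induction hd using Subgroup.closure_induction with
    | mem y hy =>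
      obtain ⟨i, hi, rfl⟩ := hy
      have hi' : i < 9 := hi
      refine ⟨PresentedGroup.of (Fi22TC.data.gen i), ?_⟩
      rw [φ_of, fQ_gen hi']
      rfl
    | one => exact ⟨1, map_one _⟩
    | mul a b ha hb iha ihb =>
      obtain ⟨x, hx⟩ := iha
      obtain ⟨y, hy⟩ := ihb
      refine ⟨x * y, ?_⟩
      rw [map_mul, hx, hy]
      rfl
    | inv a ha iha =>
      obtain ⟨x, hx⟩ := iha
      refine ⟨x⁻¹, ?_⟩
      rw [map_inv, hx]
      rfl

/-- the permutations that preserve the blocks -/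
def blockPres : Subgroup (Equiv.Perm (Fin NR)) where
  carrier := {g | ∀ p : Fin NR, (g p).1 / 6 = p.1 / 6}
  mul_mem' := fun {a b} ha hb p => by rw [Equiv.Perm.mul_apply, ha, hb]
  one_mem' := fun p => rfl
  inv_mem' := fun {g} hg p => by
    have e : g (g⁻¹ p) = p := by rw [← Equiv.Perm.mul_apply, mul_inv_cancel, Equiv.Perm.one_apply]
    have := hg (g⁻¹ p)
    rw [e] at this
    exact this.symm

theorem zetP_blockPres : zetP ∈ blockPres := by
  intro p
  rw [zetP_apply, zetK_eq]
  omega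

theorem chk_m1 : Nat.beq (Nat.div (mact mt1 0) 6) 0 = false := by decide +kernel

theorem mD_one_not : mD 1 ∉ blockPres := by
  intro h
  have h1 := h ⟨0, by norm_num⟩
  rw [mD, sig_apply (mok_tbF 1)] at h1
  have h2 := chk_m1
  have h3 : Nat.div (mact mt1 0) 6 = 0 := h1
  rw [h3] at h2
  exact Bool.noConfusion h2

theorem Z_val_blockPres (d : ↥D) (h : d ∈ Z) : (d : Equiv.Perm (Fin NR)) ∈ blockPres := by
  have hle : Z.map D.subtype ≤ blockPres := by
    unfold Z
    rw [MonoidHom.map_zpowers, Subgroup.zpowers_le]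
    exact zetP_blockPres
  exact hle (Subgroup.mem_map_of_mem D.subtype h)

theorem not_mem_Z_of_val (d : ↥D) (hd : d.1 = mD 1) (h : d ∈ Z) : False := by
  have := Z_val_blockPres d h
  rw [hd] at this
  exact mD_one_not this

theorem mQ_one_ne : mQ 1 ≠ 1 := by
  intro h
  unfold mQ at h
  rw [QuotientGroup.eq_one_iff] at h
  exact not_mem_Z_of_val ⟨mD 1, mD_mem 1⟩ (Subtype.coe_mk _ _) h

theorem φ_injective : Function.Injective φ := by
  have hs : IsSimpleGroup Fi22 := Fi22Simple.main.1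
  rcases hs.eq_bot_or_eq_top_of_normal φ.ker inferInstance with h | h
  · exact (MonoidHom.ker_eq_bot_iff φ).1 h
  · exfalso
    have : PresentedGroup.of (Fi22TC.data.gen 1) ∈ φ.ker := by rw [h]; exact Subgroup.mem_top _
    rw [MonoidHom.mem_ker, φ_of, fQ_gen (by norm_num)] at this
    exact mQ_one_ne this

/-- the cover modulo the rotation is the presented group -/
noncomputable def isoQ : Fi22 ≃* ↥D ⧸ Z := MulEquiv.ofBijective φ ⟨φ_injective, φ_surjective⟩

/-- **the cover** -/
noncomputable def πD : ↥D →* Fi22 := isoQ.symm.toMonoidHom.comp (QuotientGroup.mk' Z)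

theorem πD_surjective : Function.Surjective πD :=
  isoQ.symm.surjective.comp (QuotientGroup.mk'_surjective Z)

theorem ker_πD : πD.ker = Z := by
  ext x
  rw [MonoidHom.mem_ker]
  show isoQ.symm (QuotientGroup.mk' Z x) = 1 ↔ x ∈ Z
  rw [isoQ.symm.map_eq_one_iff, QuotientGroup.mk'_apply, QuotientGroup.eq_one_iff]

/-- **the cover is a stem extension** -/
theorem stem_πD : IsStemExtension πD := by
  refine ⟨πD_surjective, ?_, ?_⟩
  · rw [ker_πD]
    exact Z_le_center
  · rw [ker_πD]
    unfold Z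
    rw [Subgroup.zpowers_le]
    exact zD_mem_commutator

theorem card_ker_πD : Nat.card ↥πD.ker = 6 := by rw [ker_πD, card_Z]

theorem isCyclic_ker_πD : IsCyclic ↥πD.ker := by
  rw [ker_πD]
  unfold Z
  infer_instance

theorem card_D : Nat.card ↥D = 387370509926400 := by
  have h1 : Nat.card ↥D = Nat.card (↥D ⧸ Z) * Nat.card ↥Z := Subgroup.card_eq_card_quotient_mul_card_subgroup Z
  have h2 : Nat.card (↥D ⧸ Z) = Nat.card Fi22 := (Nat.card_congr isoQ.toEquiv).symm
  rw [h1, h2, Fi22Simple.main.2, card_Z]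

end Cfsg.Agent.Lib.Helper5.Fi22Cov
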