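import Cfsg.Agent.Lib.Helper5.Fi22Cov.Data

/-! # The sixfold cover of `Fi22`: the checks of the relators on the first row of a block, as nested applications of the
tables (generated by a script) -/

set_option autoImplicit false

namespace Cfsg.Agent.Lib.Helper5.Fi22Cov

/-- the check of a block for the relator `r0` -/
noncomputable def frl_r0 (a : ℕ) : Bool := Nat.beq (mact mt0 (mact mt0 (Nat.mul 6 a))) (Nat.add (Nat.mul 6 a) 0)

/-- the check of a block for the relator `r1` -/
noncomputable def frl_r1 (a : ℕ) : Bool := Nat.beq (mact mt0 (mact mt1 (mact mt0 (mact mt1 (mact mt0 (mact mt1 (Nat.mul 6 a))))))) (Nat.add (Nat.mul 6 a) 0)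

/-- the check of a block for the relator `r2` -/
noncomputable def frl_r2 (a : ℕ) : Bool := Nat.beq (mact mt0 (mact mt2 (mact mt0 (mact mt2 (Nat.mul 6 a))))) (Nat.add (Nat.mul 6 a) 0)

/-- the check of a block for the relator `r3` -/
noncomputable def frl_r3 (a : ℕ) : Bool := Nat.beq (mact mt0 (mact mt3 (mact mt0 (mact mt3 (Nat.mul 6 a))))) (Nat.add (Nat.mul 6 a) 0)

/-- the check of a block for the relator `r4` -/
noncomputable def frl_r4 (a : ℕ) : Bool := Nat.beq (mact mt0 (mact mt4 (mact mt0 (mact mt4 (Nat.mul 6 a))))) (Nat.add (Nat.mul 6 a) 0)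

/-- the check of a block for the relator `r5` -/
noncomputable def frl_r5 (a : ℕ) : Bool := Nat.beq (mact mt0 (mact mt5 (mact mt0 (mact mt5 (Nat.mul 6 a))))) (Nat.add (Nat.mul 6 a) 0)

/-- the check of a block for the relator `r6` -/
noncomputable def frl_r6 (a : ℕ) : Bool := Nat.beq (mact mt0 (mact mt6 (mact mt0 (mact mt6 (Nat.mul 6 a))))) (Nat.add (Nat.mul 6 a) 0)

/-- the check of a block for the relator `r7` -/
noncomputable def frl_r7 (a : ℕ) : Bool := Nat.beq (mact mt0 (mact mt7 (mact mt0 (mact mt7 (Nat.mul 6 a))))) (Nat.add (Nat.mul 6 a) 0)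

/-- the check of a block for the relator `r8` -/
noncomputable def frl_r8 (a : ℕ) : Bool := Nat.beq (mact mt0 (mact mt8 (mact mt0 (mact mt8 (Nat.mul 6 a))))) (Nat.add (Nat.mul 6 a) 0)

/-- the check of a block for the relator `r9` -/
noncomputable def frl_r9 (a : ℕ) : Bool := Nat.beq (mact mt1 (mact mt0 (mact mt1 (mact mt0 (mact mt1 (mact mt0 (Nat.mul 6 a))))))) (Nat.add (Nat.mul 6 a) 0)

/-- the check of a block for the relator `r10` -/
noncomputable def frl_r10 (a : ℕ) : Bool := Nat.beq (mact mt1 (mact mt1 (Nat.mul 6 a))) (Nat.add (Nat.mul 6 a) 0)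

/-- the check of a block for the relator `r11` -/
noncomputable def frl_r11 (a : ℕ) : Bool := Nat.beq (mact mt1 (mact mt2 (mact mt1 (mact mt2 (mact mt1 (mact mt2 (Nat.mul 6 a))))))) (Nat.add (Nat.mul 6 a) 0)

/-- the check of a block for the relator `r12` -/
noncomputable def frl_r12 (a : ℕ) : Bool := Nat.beq (mact mt1 (mact mt3 (mact mt1 (mact mt3 (Nat.mul 6 a))))) (Nat.add (Nat.mul 6 a) 0)

/-- the check of a block for the relator `r13` -/
noncomputable def frl_r13 (a : ℕ) : Bool := Nat.beq (mact mt1 (mact mt4 (mact mt1 (mact mt4 (Nat.mul 6 a))))) (Nat.add (Nat.mul 6 a) 0)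

/-- the check of a block for the relator `r14` -/
noncomputable def frl_r14 (a : ℕ) : Bool := Nat.beq (mact mt1 (mact mt5 (mact mt1 (mact mt5 (Nat.mul 6 a))))) (Nat.add (Nat.mul 6 a) 0)

/-- the check of a block for the relator `r15` -/
noncomputable def frl_r15 (a : ℕ) : Bool := Nat.beq (mact mt1 (mact mt6 (mact mt1 (mact mt6 (Nat.mul 6 a))))) (Nat.add (Nat.mul 6 a) 0)

/-- the check of a block for the relator `r16` -/
noncomputable def frl_r16 (a : ℕ) : Bool := Nat.beq (mact mt1 (mact mt7 (mact mt1 (mact mt7 (Nat.mul 6 a))))) (Nat.add (Nat.mul 6 a) 0)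

/-- the check of a block for the relator `r17` -/
noncomputable def frl_r17 (a : ℕ) : Bool := Nat.beq (mact mt1 (mact mt8 (mact mt1 (mact mt8 (Nat.mul 6 a))))) (Nat.add (Nat.mul 6 a) 0)

/-- the check of a block for the relator `r18` -/
noncomputable def frl_r18 (a : ℕ) : Bool := Nat.beq (mact mt2 (mact mt0 (mact mt2 (mact mt0 (Nat.mul 6 a))))) (Nat.add (Nat.mul 6 a) 0)

/-- the check of a block for the relator `r19` -/
noncomputable def frl_r19 (a : ℕ) : Bool := Nat.beq (mact mt2 (mact mt1 (mact mt2 (mact mt1 (mact mt2 (mact mt1 (Nat.mul 6 a))))))) (Nat.add (Nat.mul 6 a) 0)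

/-- the check of a block for the relator `r20` -/
noncomputable def frl_r20 (a : ℕ) : Bool := Nat.beq (mact mt2 (mact mt2 (Nat.mul 6 a))) (Nat.add (Nat.mul 6 a) 0)

/-- the check of a block for the relator `r21` -/
noncomputable def frl_r21 (a : ℕ) : Bool := Nat.beq (mact mt2 (mact mt3 (mact mt2 (mact mt3 (mact mt2 (mact mt3 (Nat.mul 6 a))))))) (Nat.add (Nat.mul 6 a) 0)

/-- the check of a block for the relator `r22` -/
noncomputable def frl_r22 (a : ℕ) : Bool := Nat.beq (mact mt2 (mact mt4 (mact mt2 (mact mt4 (Nat.mul 6 a))))) (Nat.add (Nat.mul 6 a) 0)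

/-- the check of a block for the relator `r23` -/
noncomputable def frl_r23 (a : ℕ) : Bool := Nat.beq (mact mt2 (mact mt5 (mact mt2 (mact mt5 (Nat.mul 6 a))))) (Nat.add (Nat.mul 6 a) 0)

/-- the check of a block for the relator `r24` -/
noncomputable def frl_r24 (a : ℕ) : Bool := Nat.beq (mact mt2 (mact mt6 (mact mt2 (mact mt6 (Nat.mul 6 a))))) (Nat.add (Nat.mul 6 a) 0)

/-- the check of a block for the relator `r25` -/
noncomputable def frl_r25 (a : ℕ) : Bool := Nat.beq (mact mt2 (mact mt7 (mact mt2 (mact mt7 (Nat.mul 6 a))))) (Nat.add (Nat.mul 6 a) 0)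

/-- the check of a block for the relator `r26` -/
noncomputable def frl_r26 (a : ℕ) : Bool := Nat.beq (mact mt2 (mact mt8 (mact mt2 (mact mt8 (Nat.mul 6 a))))) (Nat.add (Nat.mul 6 a) 0)

/-- the check of a block for the relator `r27` -/
noncomputable def frl_r27 (a : ℕ) : Bool := Nat.beq (mact mt3 (mact mt0 (mact mt3 (mact mt0 (Nat.mul 6 a))))) (Nat.add (Nat.mul 6 a) 0)

/-- the check of a block for the relator `r28` -/
noncomputable def frl_r28 (a : ℕ) : Bool := Nat.beq (mact mt3 (mact mt1 (mact mt3 (mact mt1 (Nat.mul 6 a))))) (Nat.add (Nat.mul 6 a) 0)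

/-- the check of a block for the relator `r29` -/
noncomputable def frl_r29 (a : ℕ) : Bool := Nat.beq (mact mt3 (mact mt2 (mact mt3 (mact mt2 (mact mt3 (mact mt2 (Nat.mul 6 a))))))) (Nat.add (Nat.mul 6 a) 0)

/-- the check of a block for the relator `r30` -/
noncomputable def frl_r30 (a : ℕ) : Bool := Nat.beq (mact mt3 (mact mt3 (Nat.mul 6 a))) (Nat.add (Nat.mul 6 a) 0)

/-- the check of a block for the relator `r31` -/
noncomputable def frl_r31 (a : ℕ) : Bool := Nat.beq (mact mt3 (mact mt4 (mact mt3 (mact mt4 (mact mt3 (mact mt4 (Nat.mul 6 a))))))) (Nat.add (Nat.mul 6 a) 0)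

/-- the check of a block for the relator `r32` -/
noncomputable def frl_r32 (a : ℕ) : Bool := Nat.beq (mact mt3 (mact mt5 (mact mt3 (mact mt5 (Nat.mul 6 a))))) (Nat.add (Nat.mul 6 a) 0)

/-- the check of a block for the relator `r33` -/
noncomputable def frl_r33 (a : ℕ) : Bool := Nat.beq (mact mt3 (mact mt6 (mact mt3 (mact mt6 (Nat.mul 6 a))))) (Nat.add (Nat.mul 6 a) 0)

/-- the check of a block for the relator `r34` -/
noncomputable def frl_r34 (a : ℕ) : Bool := Nat.beq (mact mt3 (mact mt7 (mact mt3 (mact mt7 (mact mt3 (mact mt7 (Nat.mul 6 a))))))) (Nat.add (Nat.mul 6 a) 0)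

/-- the check of a block for the relator `r35` -/
noncomputable def frl_r35 (a : ℕ) : Bool := Nat.beq (mact mt3 (mact mt8 (mact mt3 (mact mt8 (Nat.mul 6 a))))) (Nat.add (Nat.mul 6 a) 0)

/-- the check of a block for the relator `r36` -/
noncomputable def frl_r36 (a : ℕ) : Bool := Nat.beq (mact mt4 (mact mt0 (mact mt4 (mact mt0 (Nat.mul 6 a))))) (Nat.add (Nat.mul 6 a) 0)

/-- the check of a block for the relator `r37` -/
noncomputable def frl_r37 (a : ℕ) : Bool := Nat.beq (mact mt4 (mact mt1 (mact mt4 (mact mt1 (Nat.mul 6 a))))) (Nat.add (Nat.mul 6 a) 0)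

/-- the check of a block for the relator `r38` -/
noncomputable def frl_r38 (a : ℕ) : Bool := Nat.beq (mact mt4 (mact mt2 (mact mt4 (mact mt2 (Nat.mul 6 a))))) (Nat.add (Nat.mul 6 a) 0)

/-- the check of a block for the relator `r39` -/
noncomputable def frl_r39 (a : ℕ) : Bool := Nat.beq (mact mt4 (mact mt3 (mact mt4 (mact mt3 (mact mt4 (mact mt3 (Nat.mul 6 a))))))) (Nat.add (Nat.mul 6 a) 0)

/-- the check of a block for the relator `r40` -/
noncomputable def frl_r40 (a : ℕ) : Bool := Nat.beq (mact mt4 (mact mt4 (Nat.mul 6 a))) (Nat.add (Nat.mul 6 a) 0)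

/-- the check of a block for the relator `r41` -/
noncomputable def frl_r41 (a : ℕ) : Bool := Nat.beq (mact mt4 (mact mt5 (mact mt4 (mact mt5 (mact mt4 (mact mt5 (Nat.mul 6 a))))))) (Nat.add (Nat.mul 6 a) 0)

/-- the check of a block for the relator `r42` -/
noncomputable def frl_r42 (a : ℕ) : Bool := Nat.beq (mact mt4 (mact mt6 (mact mt4 (mact mt6 (Nat.mul 6 a))))) (Nat.add (Nat.mul 6 a) 0)

/-- the check of a block for the relator `r43` -/
noncomputable def frl_r43 (a : ℕ) : Bool := Nat.beq (mact mt4 (mact mt7 (mact mt4 (mact mt7 (Nat.mul 6 a))))) (Nat.add (Nat.mul 6 a) 0)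

/-- the check of a block for the relator `r44` -/
noncomputable def frl_r44 (a : ℕ) : Bool := Nat.beq (mact mt4 (mact mt8 (mact mt4 (mact mt8 (Nat.mul 6 a))))) (Nat.add (Nat.mul 6 a) 0)

/-- the check of a block for the relator `r45` -/
noncomputable def frl_r45 (a : ℕ) : Bool := Nat.beq (mact mt5 (mact mt0 (mact mt5 (mact mt0 (Nat.mul 6 a))))) (Nat.add (Nat.mul 6 a) 0)

/-- the check of a block for the relator `r46` -/
noncomputable def frl_r46 (a : ℕ) : Bool := Nat.beq (mact mt5 (mact mt1 (mact mt5 (mact mt1 (Nat.mul 6 a))))) (Nat.add (Nat.mul 6 a) 0)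

/-- the check of a block for the relator `r47` -/
noncomputable def frl_r47 (a : ℕ) : Bool := Nat.beq (mact mt5 (mact mt2 (mact mt5 (mact mt2 (Nat.mul 6 a))))) (Nat.add (Nat.mul 6 a) 0)

/-- the check of a block for the relator `r48` -/
noncomputable def frl_r48 (a : ℕ) : Bool := Nat.beq (mact mt5 (mact mt3 (mact mt5 (mact mt3 (Nat.mul 6 a))))) (Nat.add (Nat.mul 6 a) 0)

/-- the check of a block for the relator `r49` -/
noncomputable def frl_r49 (a : ℕ) : Bool := Nat.beq (mact mt5 (mact mt4 (mact mt5 (mact mt4 (mact mt5 (mact mt4 (Nat.mul 6 a))))))) (Nat.add (Nat.mul 6 a) 0)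

/-- the check of a block for the relator `r50` -/
noncomputable def frl_r50 (a : ℕ) : Bool := Nat.beq (mact mt5 (mact mt5 (Nat.mul 6 a))) (Nat.add (Nat.mul 6 a) 0)

/-- the check of a block for the relator `r51` -/
noncomputable def frl_r51 (a : ℕ) : Bool := Nat.beq (mact mt5 (mact mt6 (mact mt5 (mact mt6 (mact mt5 (mact mt6 (Nat.mul 6 a))))))) (Nat.add (Nat.mul 6 a) 0)

/-- the check of a block for the relator `r52` -/
noncomputable def frl_r52 (a : ℕ) : Bool := Nat.beq (mact mt5 (mact mt7 (mact mt5 (mact mt7 (Nat.mul 6 a))))) (Nat.add (Nat.mul 6 a) 0)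

/-- the check of a block for the relator `r53` -/
noncomputable def frl_r53 (a : ℕ) : Bool := Nat.beq (mact mt5 (mact mt8 (mact mt5 (mact mt8 (Nat.mul 6 a))))) (Nat.add (Nat.mul 6 a) 0)

/-- the check of a block for the relator `r54` -/
noncomputable def frl_r54 (a : ℕ) : Bool := Nat.beq (mact mt6 (mact mt0 (mact mt6 (mact mt0 (Nat.mul 6 a))))) (Nat.add (Nat.mul 6 a) 0)

/-- the check of a block for the relator `r55` -/
noncomputable def frl_r55 (a : ℕ) : Bool := Nat.beq (mact mt6 (mact mt1 (mact mt6 (mact mt1 (Nat.mul 6 a))))) (Nat.add (Nat.mul 6 a) 0)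

/-- the check of a block for the relator `r56` -/
noncomputable def frl_r56 (a : ℕ) : Bool := Nat.beq (mact mt6 (mact mt2 (mact mt6 (mact mt2 (Nat.mul 6 a))))) (Nat.add (Nat.mul 6 a) 0)

/-- the check of a block for the relator `r57` -/
noncomputable def frl_r57 (a : ℕ) : Bool := Nat.beq (mact mt6 (mact mt3 (mact mt6 (mact mt3 (Nat.mul 6 a))))) (Nat.add (Nat.mul 6 a) 0)

/-- the check of a block for the relator `r58` -/
noncomputable def frl_r58 (a : ℕ) : Bool := Nat.beq (mact mt6 (mact mt4 (mact mt6 (mact mt4 (Nat.mul 6 a))))) (Nat.add (Nat.mul 6 a) 0)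

/-- the check of a block for the relator `r59` -/
noncomputable def frl_r59 (a : ℕ) : Bool := Nat.beq (mact mt6 (mact mt5 (mact mt6 (mact mt5 (mact mt6 (mact mt5 (Nat.mul 6 a))))))) (Nat.add (Nat.mul 6 a) 0)

/-- the check of a block for the relator `r60` -/
noncomputable def frl_r60 (a : ℕ) : Bool := Nat.beq (mact mt6 (mact mt6 (Nat.mul 6 a))) (Nat.add (Nat.mul 6 a) 0)

/-- the check of a block for the relator `r61` -/
noncomputable def frl_r61 (a : ℕ) : Bool := Nat.beq (mact mt6 (mact mt7 (mact mt6 (mact mt7 (Nat.mul 6 a))))) (Nat.add (Nat.mul 6 a) 0)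

/-- the check of a block for the relator `r62` -/
noncomputable def frl_r62 (a : ℕ) : Bool := Nat.beq (mact mt6 (mact mt8 (mact mt6 (mact mt8 (Nat.mul 6 a))))) (Nat.add (Nat.mul 6 a) 0)

/-- the check of a block for the relator `r63` -/
noncomputable def frl_r63 (a : ℕ) : Bool := Nat.beq (mact mt7 (mact mt0 (mact mt7 (mact mt0 (Nat.mul 6 a))))) (Nat.add (Nat.mul 6 a) 0)

/-- the check of a block for the relator `r64` -/
noncomputable def frl_r64 (a : ℕ) : Bool := Nat.beq (mact mt7 (mact mt1 (mact mt7 (mact mt1 (Nat.mul 6 a))))) (Nat.add (Nat.mul 6 a) 0)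

/-- the check of a block for the relator `r65` -/
noncomputable def frl_r65 (a : ℕ) : Bool := Nat.beq (mact mt7 (mact mt2 (mact mt7 (mact mt2 (Nat.mul 6 a))))) (Nat.add (Nat.mul 6 a) 0)

/-- the check of a block for the relator `r66` -/
noncomputable def frl_r66 (a : ℕ) : Bool := Nat.beq (mact mt7 (mact mt3 (mact mt7 (mact mt3 (mact mt7 (mact mt3 (Nat.mul 6 a))))))) (Nat.add (Nat.mul 6 a) 0)

/-- the check of a block for the relator `r67` -/
noncomputable def frl_r67 (a : ℕ) : Bool := Nat.beq (mact mt7 (mact mt4 (mact mt7 (mact mt4 (Nat.mul 6 a))))) (Nat.add (Nat.mul 6 a) 0)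

/-- the check of a block for the relator `r68` -/
noncomputable def frl_r68 (a : ℕ) : Bool := Nat.beq (mact mt7 (mact mt5 (mact mt7 (mact mt5 (Nat.mul 6 a))))) (Nat.add (Nat.mul 6 a) 0)

/-- the check of a block for the relator `r69` -/
noncomputable def frl_r69 (a : ℕ) : Bool := Nat.beq (mact mt7 (mact mt6 (mact mt7 (mact mt6 (Nat.mul 6 a))))) (Nat.add (Nat.mul 6 a) 0)

/-- the check of a block for the relator `r70` -/
noncomputable def frl_r70 (a : ℕ) : Bool := Nat.beq (mact mt7 (mact mt7 (Nat.mul 6 a))) (Nat.add (Nat.mul 6 a) 0)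

/-- the check of a block for the relator `r71` -/
noncomputable def frl_r71 (a : ℕ) : Bool := Nat.beq (mact mt7 (mact mt8 (mact mt7 (mact mt8 (mact mt7 (mact mt8 (Nat.mul 6 a))))))) (Nat.add (Nat.mul 6 a) 0)

/-- the check of a block for the relator `r72` -/
noncomputable def frl_r72 (a : ℕ) : Bool := Nat.beq (mact mt8 (mact mt0 (mact mt8 (mact mt0 (Nat.mul 6 a))))) (Nat.add (Nat.mul 6 a) 0)

/-- the check of a block for the relator `r73` -/
noncomputable def frl_r73 (a : ℕ) : Bool := Nat.beq (mact mt8 (mact mt1 (mact mt8 (mact mt1 (Nat.mul 6 a))))) (Nat.add (Nat.mul 6 a) 0)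

/-- the check of a block for the relator `r74` -/
noncomputable def frl_r74 (a : ℕ) : Bool := Nat.beq (mact mt8 (mact mt2 (mact mt8 (mact mt2 (Nat.mul 6 a))))) (Nat.add (Nat.mul 6 a) 0)

/-- the check of a block for the relator `r75` -/
noncomputable def frl_r75 (a : ℕ) : Bool := Nat.beq (mact mt8 (mact mt3 (mact mt8 (mact mt3 (Nat.mul 6 a))))) (Nat.add (Nat.mul 6 a) 0)

/-- the check of a block for the relator `r76` -/
noncomputable def frl_r76 (a : ℕ) : Bool := Nat.beq (mact mt8 (mact mt4 (mact mt8 (mact mt4 (Nat.mul 6 a))))) (Nat.add (Nat.mul 6 a) 0)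

/-- the check of a block for the relator `r77` -/
noncomputable def frl_r77 (a : ℕ) : Bool := Nat.beq (mact mt8 (mact mt5 (mact mt8 (mact mt5 (Nat.mul 6 a))))) (Nat.add (Nat.mul 6 a) 0)

/-- the check of a block for the relator `r78` -/
noncomputable def frl_r78 (a : ℕ) : Bool := Nat.beq (mact mt8 (mact mt6 (mact mt8 (mact mt6 (Nat.mul 6 a))))) (Nat.add (Nat.mul 6 a) 0)

/-- the check of a block for the relator `r79` -/
noncomputable def frl_r79 (a : ℕ) : Bool := Nat.beq (mact mt8 (mact mt7 (mact mt8 (mact mt7 (mact mt8 (mact mt7 (Nat.mul 6 a))))))) (Nat.add (Nat.mul 6 a) 0)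

/-- the check of a block for the relator `r80` -/
noncomputable def frl_r80 (a : ℕ) : Bool := Nat.beq (mact mt8 (mact mt8 (Nat.mul 6 a))) (Nat.add (Nat.mul 6 a) 0)

/-- the check of a block for the relator `r81` -/
noncomputable def frl_r81 (a : ℕ) : Bool := Nat.beq (mact mt3 (mact mt2 (mact mt1 (mact mt3 (mact mt4 (mact mt5 (mact mt3 (mact mt7 (mact mt8 (mact mt3 (mact mt2 (mact mt1 (mact mt3 (mact mt4 (mact mt5 (mact mt3 (mact mt7 (mact mt8 (mact mt3 (mact mt2 (mact mt1 (mact mt3 (mact mt4 (mact mt5 (mact mt3 (mact mt7 (mact mt8 (mact mt3 (mact mt2 (mact mt1 (mact mt3 (mact mt4 (mact mt5 (mact mt3 (mact mt7 (mact mt8 (mact mt3 (mact mt2 (mact mt1 (mact mt3 (mact mt4 (mact mt5 (mact mt3 (mact mt7 (mact mt8 (mact mt3 (mact mt2 (mact mt1 (mact mt3 (mact mt4 (mact mt5 (mact mt3 (mact mt7 (mact mt8 (mact mt3 (mact mt2 (mact mt1 (mact mt3 (mact mt4 (mact mt5 (mact mt3 (mact mt7 (mact mt8 (mact mt3 (mact mt2 (mact mt1 (mact mt3 (mact mt4 (mact mt5 (mact mt3 (mact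 mt7 (mact mt8 (mact mt3 (mact mt2 (mact mt1 (mact mt3 (mact mt4 (mact mt5 (mact mt3 (mact mt7 (mact mt8 (mact mt3 (mact mt2 (mact mt1 (mact mt3 (mact mt4 (mact mt5 (mact mt3 (mact mt7 (mact mt8 (Nat.mul 6 a))))))))))))))))))))))))))))))))))))))))))))))))))))))))))))))))))))))))))))))))))))))))))) (Nat.add (Nat.mul 6 a) 4)

/-- the check of a block for the relator `r82` -/
noncomputable def frl_r82 (a : ℕ) : Bool := Nat.beq (mact mt0 (mact mt1 (mact mt2 (mact mt3 (mact mt4 (mact mt5 (mact mt7 (mact mt0 (mact mt1 (mact mt2 (mact mt3 (mact mt4 (mact mt5 (mact mt7 (mact mt0 (mact mt1 (mact mt2 (mact mt3 (mact mt4 (mact mt5 (mact mt7 (mact mt0 (mact mt1 (mact mt2 (mact mt3 (mact mt4 (mact mt5 (mact mt7 (mact mt0 (mact mt1 (mact mt2 (mact mt3 (mact mt4 (mact mt5 (mact mt7 (mact mt0 (mact mt1 (mact mt2 (mact mt3 (mact mt4 (mact mt5 (mact mt7 (mact mt0 (mact mt1 (mact mt2 (mact mt3 (mact mt4 (mact mt5 (mact mt7 (mact mt0 (mact mt1 (mact mt2 (mact mt3 (mact mt4 (mact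 mt5 (mact mt7 (mact mt0 (mact mt1 (mact mt2 (mact mt3 (mact mt4 (mact mt5 (mact mt7 (Nat.mul 6 a)))))))))))))))))))))))))))))))))))))))))))))))))))))))))))))))) (Nat.add (Nat.mul 6 a) 0)

/-- the check of a block for the relator `r83` -/
noncomputable def frl_r83 (a : ℕ) : Bool := Nat.beq (mact mt1 (mact mt2 (mact mt3 (mact mt4 (mact mt5 (mact mt6 (mact mt7 (mact mt1 (mact mt2 (mact mt3 (mact mt4 (mact mt5 (mact mt6 (mact mt7 (mact mt1 (mact mt2 (mact mt3 (mact mt4 (mact mt5 (mact mt6 (mact mt7 (mact mt1 (mact mt2 (mact mt3 (mact mt4 (mact mt5 (mact mt6 (mact mt7 (mact mt1 (mact mt2 (mact mt3 (mact mt4 (mact mt5 (mact mt6 (mact mt7 (mact mt1 (mact mt2 (mact mt3 (mact mt4 (mact mt5 (mact mt6 (mact mt7 (mact mt1 (mact mt2 (mact mt3 (mact mt4 (mact mt5 (mact mt6 (mact mt7 (mact mt1 (mact mt2 (mact mt3 (mact mt4 (mact mt5 (mact mt6 (mact mt7 (mact mt1 (mact mt2 (mact mt3 (mact mt4 (mact mt5 (mact mt6 (mact mt7 (Nat.mul 6 a))))))))))))))))))))))))))))))))))))))))))))))))))))))))))))))))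 (Nat.add (Nat.mul 6 a) 3)


end Cfsg.Agent.Lib.Helper5.Fi22Cov
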