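import Cfsg.Agent.Lib.Helper5.Fi22Cov.ChkR0
import Cfsg.Agent.Lib.Helper5.Fi22Cov.ChkR1
import Cfsg.Agent.Lib.Helper5.Fi22Cov.ChkR2
import Cfsg.Agent.Lib.Helper5.Fi22Cov.ChkR3
import Cfsg.Agent.Lib.Helper5.Fi22Cov.ChkR4
import Cfsg.Agent.Lib.Helper5.Fi22Cov.ChkR5
import Cfsg.Agent.Lib.Helper5.Fi22Cov.ChkR6
import Cfsg.Agent.Lib.Helper5.Fi22Cov.ChkR7
import Cfsg.Agent.Lib.Helper5.Fi22Cov.ChkR8
import Cfsg.Agent.Lib.Helper5.Fi22Cov.ChkR9
import Cfsg.Agent.Lib.Helper5.Fi22Cov.ChkR10
import Cfsg.Agent.Lib.Helper5.Fi22Cov.ChkR11
import Cfsg.Agent.Lib.Helper5.Fi22Cov.ChkR12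
import Cfsg.Agent.Lib.Helper5.Fi22Cov.ChkR13
import Cfsg.Agent.Lib.Helper5.Fi22Cov.ChkR14
import Cfsg.Agent.Lib.Helper5.Fi22Cov.ChkR15
import Cfsg.Agent.Lib.Helper5.Fi22Cov.ChkR16
import Cfsg.Agent.Lib.Helper5.Fi22Cov.ChkR17
import Cfsg.Agent.Lib.Helper5.Fi22Cov.ChkR18
import Cfsg.Agent.Lib.Helper5.Fi22Cov.ChkR19
import Cfsg.Agent.Lib.Helper5.Fi22Cov.ChkR20
import Cfsg.Agent.Lib.Helper5.Fi22Cov.ChkR21
import Cfsg.Agent.Lib.Helper5.Fi22Cov.ChkR22
import Cfsg.Agent.Lib.Helper5.Fi22Cov.ChkR23
import Cfsg.Agent.Lib.Helper5.Fi22Cov.ChkR24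
import Cfsg.Agent.Lib.Helper5.Fi22Cov.ChkR25
import Cfsg.Agent.Lib.Helper5.Fi22Cov.ChkR26
import Cfsg.Agent.Lib.Helper5.Fi22Cov.ChkR27
import Cfsg.Agent.Lib.Helper5.Fi22Cov.ChkR28
import Cfsg.Agent.Lib.Helper5.Fi22Cov.ChkR29
import Cfsg.Agent.Lib.Helper5.Fi22Cov.ChkR30

/-! # The sixfold cover of `Fi22`: the relators are powers of the rotation (the kernel checks by ranges of blocks, put
together) -/

set_option autoImplicit false
set_option maxRecDepth 1000000

namespace Cfsg.Agent.Lib.Helper5.Fi22Cov

open Cfsg.Agent.PG (allB allB_iff)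

theorem trf_r0 : allB NB frl_r0 = true := by
  apply allB_iff.2
  intro a ha
  have ha' : a < 61776 := ha
  rcases Nat.lt_or_ge a 15000 with h0 | h0
  · exact allB_range (f := frl_r0) (lo := 0) (len := 15000) trc_r0_0 (by omega) (by omega)
  rcases Nat.lt_or_ge a 30000 with h1 | h1
  · exact allB_range (f := frl_r0) (lo := 15000) (len := 15000) trc_r0_1 (by omega) (by omega)
  rcases Nat.lt_or_ge a 45000 with h2 | h2
  · exact allB_range (f := frl_r0) (lo := 30000) (len := 15000) trc_r0_2 (by omega) (by omega)
  rcases Nat.lt_or_ge a 60000 with h3 | h3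
  · exact allB_range (f := frl_r0) (lo := 45000) (len := 15000) trc_r0_3 (by omega) (by omega)
  exact allB_range (f := frl_r0) (lo := 60000) (len := 1776) trc_r0_4 (by omega) (by omega)

theorem rel_r0 : relT tbF 0 (relWords.getD 0 []) = true := trf_r0

theorem trf_r1 : allB NB frl_r1 = true := by
  apply allB_iff.2
  intro a ha
  have ha' : a < 61776 := ha
  rcases Nat.lt_or_ge a 5000 with h0 | h0
  · exact allB_range (f := frl_r1) (lo := 0) (len := 5000) trc_r1_0 (by omega) (by omega)
  rcases Nat.lt_or_ge a 10000 with h1 | h1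
  · exact allB_range (f := frl_r1) (lo := 5000) (len := 5000) trc_r1_1 (by omega) (by omega)
  rcases Nat.lt_or_ge a 15000 with h2 | h2
  · exact allB_range (f := frl_r1) (lo := 10000) (len := 5000) trc_r1_2 (by omega) (by omega)
  rcases Nat.lt_or_ge a 20000 with h3 | h3
  · exact allB_range (f := frl_r1) (lo := 15000) (len := 5000) trc_r1_3 (by omega) (by omega)
  rcases Nat.lt_or_ge a 25000 with h4 | h4
  · exact allB_range (f := frl_r1) (lo := 20000) (len := 5000) trc_r1_4 (by omega) (by omega)
  rcases Nat.lt_or_ge a 30000 with h5 | h5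
  · exact allB_range (f := frl_r1) (lo := 25000) (len := 5000) trc_r1_5 (by omega) (by omega)
  rcases Nat.lt_or_ge a 35000 with h6 | h6
  · exact allB_range (f := frl_r1) (lo := 30000) (len := 5000) trc_r1_6 (by omega) (by omega)
  rcases Nat.lt_or_ge a 40000 with h7 | h7
  · exact allB_range (f := frl_r1) (lo := 35000) (len := 5000) trc_r1_7 (by omega) (by omega)
  rcases Nat.lt_or_ge a 45000 with h8 | h8
  · exact allB_range (f := frl_r1) (lo := 40000) (len := 5000) trc_r1_8 (by omega) (by omega)
  rcases Nat.lt_or_ge a 50000 with h9 | h9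
  · exact allB_range (f := frl_r1) (lo := 45000) (len := 5000) trc_r1_9 (by omega) (by omega)
  rcases Nat.lt_or_ge a 55000 with h10 | h10
  · exact allB_range (f := frl_r1) (lo := 50000) (len := 5000) trc_r1_10 (by omega) (by omega)
  rcases Nat.lt_or_ge a 60000 with h11 | h11
  · exact allB_range (f := frl_r1) (lo := 55000) (len := 5000) trc_r1_11 (by omega) (by omega)
  exact allB_range (f := frl_r1) (lo := 60000) (len := 1776) trc_r1_12 (by omega) (by omega)

theorem rel_r1 : relT tbF 0 (relWords.getD 1 []) = true := trf_r1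

theorem trf_r2 : allB NB frl_r2 = true := by
  apply allB_iff.2
  intro a ha
  have ha' : a < 61776 := ha
  rcases Nat.lt_or_ge a 7500 with h0 | h0
  · exact allB_range (f := frl_r2) (lo := 0) (len := 7500) trc_r2_0 (by omega) (by omega)
  rcases Nat.lt_or_ge a 15000 with h1 | h1
  · exact allB_range (f := frl_r2) (lo := 7500) (len := 7500) trc_r2_1 (by omega) (by omega)
  rcases Nat.lt_or_ge a 22500 with h2 | h2
  · exact allB_range (f := frl_r2) (lo := 15000) (len := 7500) trc_r2_2 (by omega) (by omega)
  rcases Nat.lt_or_ge a 30000 with h3 | h3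
  · exact allB_range (f := frl_r2) (lo := 22500) (len := 7500) trc_r2_3 (by omega) (by omega)
  rcases Nat.lt_or_ge a 37500 with h4 | h4
  · exact allB_range (f := frl_r2) (lo := 30000) (len := 7500) trc_r2_4 (by omega) (by omega)
  rcases Nat.lt_or_ge a 45000 with h5 | h5
  · exact allB_range (f := frl_r2) (lo := 37500) (len := 7500) trc_r2_5 (by omega) (by omega)
  rcases Nat.lt_or_ge a 52500 with h6 | h6
  · exact allB_range (f := frl_r2) (lo := 45000) (len := 7500) trc_r2_6 (by omega) (by omega)
  rcases Nat.lt_or_ge a 60000 with h7 | h7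
  · exact allB_range (f := frl_r2) (lo := 52500) (len := 7500) trc_r2_7 (by omega) (by omega)
  exact allB_range (f := frl_r2) (lo := 60000) (len := 1776) trc_r2_8 (by omega) (by omega)

theorem rel_r2 : relT tbF 0 (relWords.getD 2 []) = true := trf_r2

theorem trf_r3 : allB NB frl_r3 = true := by
  apply allB_iff.2
  intro a ha
  have ha' : a < 61776 := ha
  rcases Nat.lt_or_ge a 7500 with h0 | h0
  · exact allB_range (f := frl_r3) (lo := 0) (len := 7500) trc_r3_0 (by omega) (by omega)
  rcases Nat.lt_or_ge a 15000 with h1 | h1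
  · exact allB_range (f := frl_r3) (lo := 7500) (len := 7500) trc_r3_1 (by omega) (by omega)
  rcases Nat.lt_or_ge a 22500 with h2 | h2
  · exact allB_range (f := frl_r3) (lo := 15000) (len := 7500) trc_r3_2 (by omega) (by omega)
  rcases Nat.lt_or_ge a 30000 with h3 | h3
  · exact allB_range (f := frl_r3) (lo := 22500) (len := 7500) trc_r3_3 (by omega) (by omega)
  rcases Nat.lt_or_ge a 37500 with h4 | h4
  · exact allB_range (f := frl_r3) (lo := 30000) (len := 7500) trc_r3_4 (by omega) (by omega)
  rcases Nat.lt_or_ge a 45000 with h5 | h5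
  · exact allB_range (f := frl_r3) (lo := 37500) (len := 7500) trc_r3_5 (by omega) (by omega)
  rcases Nat.lt_or_ge a 52500 with h6 | h6
  · exact allB_range (f := frl_r3) (lo := 45000) (len := 7500) trc_r3_6 (by omega) (by omega)
  rcases Nat.lt_or_ge a 60000 with h7 | h7
  · exact allB_range (f := frl_r3) (lo := 52500) (len := 7500) trc_r3_7 (by omega) (by omega)
  exact allB_range (f := frl_r3) (lo := 60000) (len := 1776) trc_r3_8 (by omega) (by omega)

theorem rel_r3 : relT tbF 0 (relWords.getD 3 []) = true := trf_r3

theorem trf_r4 : allB NB frl_r4 = true := by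
  apply allB_iff.2
  intro a ha
  have ha' : a < 61776 := ha
  rcases Nat.lt_or_ge a 7500 with h0 | h0
  · exact allB_range (f := frl_r4) (lo := 0) (len := 7500) trc_r4_0 (by omega) (by omega)
  rcases Nat.lt_or_ge a 15000 with h1 | h1
  · exact allB_range (f := frl_r4) (lo := 7500) (len := 7500) trc_r4_1 (by omega) (by omega)
  rcases Nat.lt_or_ge a 22500 with h2 | h2
  · exact allB_range (f := frl_r4) (lo := 15000) (len := 7500) trc_r4_2 (by omega) (by omega)
  rcases Nat.lt_or_ge a 30000 with h3 | h3
  · exact allB_range (f := frl_r4) (lo := 22500) (len := 7500) trc_r4_3 (by omega) (by omega)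
  rcases Nat.lt_or_ge a 37500 with h4 | h4
  · exact allB_range (f := frl_r4) (lo := 30000) (len := 7500) trc_r4_4 (by omega) (by omega)
  rcases Nat.lt_or_ge a 45000 with h5 | h5
  · exact allB_range (f := frl_r4) (lo := 37500) (len := 7500) trc_r4_5 (by omega) (by omega)
  rcases Nat.lt_or_ge a 52500 with h6 | h6
  · exact allB_range (f := frl_r4) (lo := 45000) (len := 7500) trc_r4_6 (by omega) (by omega)
  rcases Nat.lt_or_ge a 60000 with h7 | h7
  · exact allB_range (f := frl_r4) (lo := 52500) (len := 7500) trc_r4_7 (by omega) (by omega)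
  exact allB_range (f := frl_r4) (lo := 60000) (len := 1776) trc_r4_8 (by omega) (by omega)

theorem rel_r4 : relT tbF 0 (relWords.getD 4 []) = true := trf_r4

theorem trf_r5 : allB NB frl_r5 = true := by
  apply allB_iff.2
  intro a ha
  have ha' : a < 61776 := ha
  rcases Nat.lt_or_ge a 7500 with h0 | h0
  · exact allB_range (f := frl_r5) (lo := 0) (len := 7500) trc_r5_0 (by omega) (by omega)
  rcases Nat.lt_or_ge a 15000 with h1 | h1
  · exact allB_range (f := frl_r5) (lo := 7500) (len := 7500) trc_r5_1 (by omega) (by omega)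
  rcases Nat.lt_or_ge a 22500 with h2 | h2
  · exact allB_range (f := frl_r5) (lo := 15000) (len := 7500) trc_r5_2 (by omega) (by omega)
  rcases Nat.lt_or_ge a 30000 with h3 | h3
  · exact allB_range (f := frl_r5) (lo := 22500) (len := 7500) trc_r5_3 (by omega) (by omega)
  rcases Nat.lt_or_ge a 37500 with h4 | h4
  · exact allB_range (f := frl_r5) (lo := 30000) (len := 7500) trc_r5_4 (by omega) (by omega)
  rcases Nat.lt_or_ge a 45000 with h5 | h5
  · exact allB_range (f := frl_r5) (lo := 37500) (len := 7500) trc_r5_5 (by omega) (by omega)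
  rcases Nat.lt_or_ge a 52500 with h6 | h6
  · exact allB_range (f := frl_r5) (lo := 45000) (len := 7500) trc_r5_6 (by omega) (by omega)
  rcases Nat.lt_or_ge a 60000 with h7 | h7
  · exact allB_range (f := frl_r5) (lo := 52500) (len := 7500) trc_r5_7 (by omega) (by omega)
  exact allB_range (f := frl_r5) (lo := 60000) (len := 1776) trc_r5_8 (by omega) (by omega)

theorem rel_r5 : relT tbF 0 (relWords.getD 5 []) = true := trf_r5

theorem trf_r6 : allB NB frl_r6 = true := by
  apply allB_iff.2
  intro a ha
  have ha' : a < 61776 := ha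
  rcases Nat.lt_or_ge a 7500 with h0 | h0
  · exact allB_range (f := frl_r6) (lo := 0) (len := 7500) trc_r6_0 (by omega) (by omega)
  rcases Nat.lt_or_ge a 15000 with h1 | h1
  · exact allB_range (f := frl_r6) (lo := 7500) (len := 7500) trc_r6_1 (by omega) (by omega)
  rcases Nat.lt_or_ge a 22500 with h2 | h2
  · exact allB_range (f := frl_r6) (lo := 15000) (len := 7500) trc_r6_2 (by omega) (by omega)
  rcases Nat.lt_or_ge a 30000 with h3 | h3
  · exact allB_range (f := frl_r6) (lo := 22500) (len := 7500) trc_r6_3 (by omega) (by omega)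
  rcases Nat.lt_or_ge a 37500 with h4 | h4
  · exact allB_range (f := frl_r6) (lo := 30000) (len := 7500) trc_r6_4 (by omega) (by omega)
  rcases Nat.lt_or_ge a 45000 with h5 | h5
  · exact allB_range (f := frl_r6) (lo := 37500) (len := 7500) trc_r6_5 (by omega) (by omega)
  rcases Nat.lt_or_ge a 52500 with h6 | h6
  · exact allB_range (f := frl_r6) (lo := 45000) (len := 7500) trc_r6_6 (by omega) (by omega)
  rcases Nat.lt_or_ge a 60000 with h7 | h7
  · exact allB_range (f := frl_r6) (lo := 52500) (len := 7500) trc_r6_7 (by omega) (by omega)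
  exact allB_range (f := frl_r6) (lo := 60000) (len := 1776) trc_r6_8 (by omega) (by omega)

theorem rel_r6 : relT tbF 0 (relWords.getD 6 []) = true := trf_r6

theorem trf_r7 : allB NB frl_r7 = true := by
  apply allB_iff.2
  intro a ha
  have ha' : a < 61776 := ha
  rcases Nat.lt_or_ge a 7500 with h0 | h0
  · exact allB_range (f := frl_r7) (lo := 0) (len := 7500) trc_r7_0 (by omega) (by omega)
  rcases Nat.lt_or_ge a 15000 with h1 | h1
  · exact allB_range (f := frl_r7) (lo := 7500) (len := 7500) trc_r7_1 (by omega) (by omega)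
  rcases Nat.lt_or_ge a 22500 with h2 | h2
  · exact allB_range (f := frl_r7) (lo := 15000) (len := 7500) trc_r7_2 (by omega) (by omega)
  rcases Nat.lt_or_ge a 30000 with h3 | h3
  · exact allB_range (f := frl_r7) (lo := 22500) (len := 7500) trc_r7_3 (by omega) (by omega)
  rcases Nat.lt_or_ge a 37500 with h4 | h4
  · exact allB_range (f := frl_r7) (lo := 30000) (len := 7500) trc_r7_4 (by omega) (by omega)
  rcases Nat.lt_or_ge a 45000 with h5 | h5
  · exact allB_range (f := frl_r7) (lo := 37500) (len := 7500) trc_r7_5 (by omega) (by omega)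
  rcases Nat.lt_or_ge a 52500 with h6 | h6
  · exact allB_range (f := frl_r7) (lo := 45000) (len := 7500) trc_r7_6 (by omega) (by omega)
  rcases Nat.lt_or_ge a 60000 with h7 | h7
  · exact allB_range (f := frl_r7) (lo := 52500) (len := 7500) trc_r7_7 (by omega) (by omega)
  exact allB_range (f := frl_r7) (lo := 60000) (len := 1776) trc_r7_8 (by omega) (by omega)

theorem rel_r7 : relT tbF 0 (relWords.getD 7 []) = true := trf_r7

theorem trf_r8 : allB NB frl_r8 = true := by
  apply allB_iff.2
  intro a ha
  have ha' : a < 61776 := ha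
  rcases Nat.lt_or_ge a 7500 with h0 | h0
  · exact allB_range (f := frl_r8) (lo := 0) (len := 7500) trc_r8_0 (by omega) (by omega)
  rcases Nat.lt_or_ge a 15000 with h1 | h1
  · exact allB_range (f := frl_r8) (lo := 7500) (len := 7500) trc_r8_1 (by omega) (by omega)
  rcases Nat.lt_or_ge a 22500 with h2 | h2
  · exact allB_range (f := frl_r8) (lo := 15000) (len := 7500) trc_r8_2 (by omega) (by omega)
  rcases Nat.lt_or_ge a 30000 with h3 | h3
  · exact allB_range (f := frl_r8) (lo := 22500) (len := 7500) trc_r8_3 (by omega) (by omega)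
  rcases Nat.lt_or_ge a 37500 with h4 | h4
  · exact allB_range (f := frl_r8) (lo := 30000) (len := 7500) trc_r8_4 (by omega) (by omega)
  rcases Nat.lt_or_ge a 45000 with h5 | h5
  · exact allB_range (f := frl_r8) (lo := 37500) (len := 7500) trc_r8_5 (by omega) (by omega)
  rcases Nat.lt_or_ge a 52500 with h6 | h6
  · exact allB_range (f := frl_r8) (lo := 45000) (len := 7500) trc_r8_6 (by omega) (by omega)
  rcases Nat.lt_or_ge a 60000 with h7 | h7
  · exact allB_range (f := frl_r8) (lo := 52500) (len := 7500) trc_r8_7 (by omega) (by omega)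
  exact allB_range (f := frl_r8) (lo := 60000) (len := 1776) trc_r8_8 (by omega) (by omega)

theorem rel_r8 : relT tbF 0 (relWords.getD 8 []) = true := trf_r8

theorem trf_r9 : allB NB frl_r9 = true := by
  apply allB_iff.2
  intro a ha
  have ha' : a < 61776 := ha
  rcases Nat.lt_or_ge a 5000 with h0 | h0
  · exact allB_range (f := frl_r9) (lo := 0) (len := 5000) trc_r9_0 (by omega) (by omega)
  rcases Nat.lt_or_ge a 10000 with h1 | h1
  · exact allB_range (f := frl_r9) (lo := 5000) (len := 5000) trc_r9_1 (by omega) (by omega)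
  rcases Nat.lt_or_ge a 15000 with h2 | h2
  · exact allB_range (f := frl_r9) (lo := 10000) (len := 5000) trc_r9_2 (by omega) (by omega)
  rcases Nat.lt_or_ge a 20000 with h3 | h3
  · exact allB_range (f := frl_r9) (lo := 15000) (len := 5000) trc_r9_3 (by omega) (by omega)
  rcases Nat.lt_or_ge a 25000 with h4 | h4
  · exact allB_range (f := frl_r9) (lo := 20000) (len := 5000) trc_r9_4 (by omega) (by omega)
  rcases Nat.lt_or_ge a 30000 with h5 | h5
  · exact allB_range (f := frl_r9) (lo := 25000) (len := 5000) trc_r9_5 (by omega) (by omega)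
  rcases Nat.lt_or_ge a 35000 with h6 | h6
  · exact allB_range (f := frl_r9) (lo := 30000) (len := 5000) trc_r9_6 (by omega) (by omega)
  rcases Nat.lt_or_ge a 40000 with h7 | h7
  · exact allB_range (f := frl_r9) (lo := 35000) (len := 5000) trc_r9_7 (by omega) (by omega)
  rcases Nat.lt_or_ge a 45000 with h8 | h8
  · exact allB_range (f := frl_r9) (lo := 40000) (len := 5000) trc_r9_8 (by omega) (by omega)
  rcases Nat.lt_or_ge a 50000 with h9 | h9
  · exact allB_range (f := frl_r9) (lo := 45000) (len := 5000) trc_r9_9 (by omega) (by omega)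
  rcases Nat.lt_or_ge a 55000 with h10 | h10
  · exact allB_range (f := frl_r9) (lo := 50000) (len := 5000) trc_r9_10 (by omega) (by omega)
  rcases Nat.lt_or_ge a 60000 with h11 | h11
  · exact allB_range (f := frl_r9) (lo := 55000) (len := 5000) trc_r9_11 (by omega) (by omega)
  exact allB_range (f := frl_r9) (lo := 60000) (len := 1776) trc_r9_12 (by omega) (by omega)

theorem rel_r9 : relT tbF 0 (relWords.getD 9 []) = true := trf_r9

theorem trf_r10 : allB NB frl_r10 = true := by
  apply allB_iff.2
  intro a ha
  have ha' : a < 61776 := ha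
  rcases Nat.lt_or_ge a 15000 with h0 | h0
  · exact allB_range (f := frl_r10) (lo := 0) (len := 15000) trc_r10_0 (by omega) (by omega)
  rcases Nat.lt_or_ge a 30000 with h1 | h1
  · exact allB_range (f := frl_r10) (lo := 15000) (len := 15000) trc_r10_1 (by omega) (by omega)
  rcases Nat.lt_or_ge a 45000 with h2 | h2
  · exact allB_range (f := frl_r10) (lo := 30000) (len := 15000) trc_r10_2 (by omega) (by omega)
  rcases Nat.lt_or_ge a 60000 with h3 | h3
  · exact allB_range (f := frl_r10) (lo := 45000) (len := 15000) trc_r10_3 (by omega) (by omega)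
  exact allB_range (f := frl_r10) (lo := 60000) (len := 1776) trc_r10_4 (by omega) (by omega)

theorem rel_r10 : relT tbF 0 (relWords.getD 10 []) = true := trf_r10

theorem trf_r11 : allB NB frl_r11 = true := by
  apply allB_iff.2
  intro a ha
  have ha' : a < 61776 := ha
  rcases Nat.lt_or_ge a 5000 with h0 | h0
  · exact allB_range (f := frl_r11) (lo := 0) (len := 5000) trc_r11_0 (by omega) (by omega)
  rcases Nat.lt_or_ge a 10000 with h1 | h1
  · exact allB_range (f := frl_r11) (lo := 5000) (len := 5000) trc_r11_1 (by omega) (by omega)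
  rcases Nat.lt_or_ge a 15000 with h2 | h2
  · exact allB_range (f := frl_r11) (lo := 10000) (len := 5000) trc_r11_2 (by omega) (by omega)
  rcases Nat.lt_or_ge a 20000 with h3 | h3
  · exact allB_range (f := frl_r11) (lo := 15000) (len := 5000) trc_r11_3 (by omega) (by omega)
  rcases Nat.lt_or_ge a 25000 with h4 | h4
  · exact allB_range (f := frl_r11) (lo := 20000) (len := 5000) trc_r11_4 (by omega) (by omega)
  rcases Nat.lt_or_ge a 30000 with h5 | h5
  · exact allB_range (f := frl_r11) (lo := 25000) (len := 5000) trc_r11_5 (by omega) (by omega)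
  rcases Nat.lt_or_ge a 35000 with h6 | h6
  · exact allB_range (f := frl_r11) (lo := 30000) (len := 5000) trc_r11_6 (by omega) (by omega)
  rcases Nat.lt_or_ge a 40000 with h7 | h7
  · exact allB_range (f := frl_r11) (lo := 35000) (len := 5000) trc_r11_7 (by omega) (by omega)
  rcases Nat.lt_or_ge a 45000 with h8 | h8
  · exact allB_range (f := frl_r11) (lo := 40000) (len := 5000) trc_r11_8 (by omega) (by omega)
  rcases Nat.lt_or_ge a 50000 with h9 | h9
  · exact allB_range (f := frl_r11) (lo := 45000) (len := 5000) trc_r11_9 (by omega) (by omega)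
  rcases Nat.lt_or_ge a 55000 with h10 | h10
  · exact allB_range (f := frl_r11) (lo := 50000) (len := 5000) trc_r11_10 (by omega) (by omega)
  rcases Nat.lt_or_ge a 60000 with h11 | h11
  · exact allB_range (f := frl_r11) (lo := 55000) (len := 5000) trc_r11_11 (by omega) (by omega)
  exact allB_range (f := frl_r11) (lo := 60000) (len := 1776) trc_r11_12 (by omega) (by omega)

theorem rel_r11 : relT tbF 0 (relWords.getD 11 []) = true := trf_r11

theorem trf_r12 : allB NB frl_r12 = true := by
  apply allB_iff.2
  intro a ha
  have ha' : a < 61776 := ha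
  rcases Nat.lt_or_ge a 7500 with h0 | h0
  · exact allB_range (f := frl_r12) (lo := 0) (len := 7500) trc_r12_0 (by omega) (by omega)
  rcases Nat.lt_or_ge a 15000 with h1 | h1
  · exact allB_range (f := frl_r12) (lo := 7500) (len := 7500) trc_r12_1 (by omega) (by omega)
  rcases Nat.lt_or_ge a 22500 with h2 | h2
  · exact allB_range (f := frl_r12) (lo := 15000) (len := 7500) trc_r12_2 (by omega) (by omega)
  rcases Nat.lt_or_ge a 30000 with h3 | h3
  · exact allB_range (f := frl_r12) (lo := 22500) (len := 7500) trc_r12_3 (by omega) (by omega)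
  rcases Nat.lt_or_ge a 37500 with h4 | h4
  · exact allB_range (f := frl_r12) (lo := 30000) (len := 7500) trc_r12_4 (by omega) (by omega)
  rcases Nat.lt_or_ge a 45000 with h5 | h5
  · exact allB_range (f := frl_r12) (lo := 37500) (len := 7500) trc_r12_5 (by omega) (by omega)
  rcases Nat.lt_or_ge a 52500 with h6 | h6
  · exact allB_range (f := frl_r12) (lo := 45000) (len := 7500) trc_r12_6 (by omega) (by omega)
  rcases Nat.lt_or_ge a 60000 with h7 | h7
  · exact allB_range (f := frl_r12) (lo := 52500) (len := 7500) trc_r12_7 (by omega) (by omega)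
  exact allB_range (f := frl_r12) (lo := 60000) (len := 1776) trc_r12_8 (by omega) (by omega)

theorem rel_r12 : relT tbF 0 (relWords.getD 12 []) = true := trf_r12

theorem trf_r13 : allB NB frl_r13 = true := by
  apply allB_iff.2
  intro a ha
  have ha' : a < 61776 := ha
  rcases Nat.lt_or_ge a 7500 with h0 | h0
  · exact allB_range (f := frl_r13) (lo := 0) (len := 7500) trc_r13_0 (by omega) (by omega)
  rcases Nat.lt_or_ge a 15000 with h1 | h1
  · exact allB_range (f := frl_r13) (lo := 7500) (len := 7500) trc_r13_1 (by omega) (by omega)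
  rcases Nat.lt_or_ge a 22500 with h2 | h2
  · exact allB_range (f := frl_r13) (lo := 15000) (len := 7500) trc_r13_2 (by omega) (by omega)
  rcases Nat.lt_or_ge a 30000 with h3 | h3
  · exact allB_range (f := frl_r13) (lo := 22500) (len := 7500) trc_r13_3 (by omega) (by omega)
  rcases Nat.lt_or_ge a 37500 with h4 | h4
  · exact allB_range (f := frl_r13) (lo := 30000) (len := 7500) trc_r13_4 (by omega) (by omega)
  rcases Nat.lt_or_ge a 45000 with h5 | h5
  · exact allB_range (f := frl_r13) (lo := 37500) (len := 7500) trc_r13_5 (by omega) (by omega)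
  rcases Nat.lt_or_ge a 52500 with h6 | h6
  · exact allB_range (f := frl_r13) (lo := 45000) (len := 7500) trc_r13_6 (by omega) (by omega)
  rcases Nat.lt_or_ge a 60000 with h7 | h7
  · exact allB_range (f := frl_r13) (lo := 52500) (len := 7500) trc_r13_7 (by omega) (by omega)
  exact allB_range (f := frl_r13) (lo := 60000) (len := 1776) trc_r13_8 (by omega) (by omega)

theorem rel_r13 : relT tbF 0 (relWords.getD 13 []) = true := trf_r13

theorem trf_r14 : allB NB frl_r14 = true := by
  apply allB_iff.2
  intro a ha
  have ha' : a < 61776 := ha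
  rcases Nat.lt_or_ge a 7500 with h0 | h0
  · exact allB_range (f := frl_r14) (lo := 0) (len := 7500) trc_r14_0 (by omega) (by omega)
  rcases Nat.lt_or_ge a 15000 with h1 | h1
  · exact allB_range (f := frl_r14) (lo := 7500) (len := 7500) trc_r14_1 (by omega) (by omega)
  rcases Nat.lt_or_ge a 22500 with h2 | h2
  · exact allB_range (f := frl_r14) (lo := 15000) (len := 7500) trc_r14_2 (by omega) (by omega)
  rcases Nat.lt_or_ge a 30000 with h3 | h3
  · exact allB_range (f := frl_r14) (lo := 22500) (len := 7500) trc_r14_3 (by omega) (by omega)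
  rcases Nat.lt_or_ge a 37500 with h4 | h4
  · exact allB_range (f := frl_r14) (lo := 30000) (len := 7500) trc_r14_4 (by omega) (by omega)
  rcases Nat.lt_or_ge a 45000 with h5 | h5
  · exact allB_range (f := frl_r14) (lo := 37500) (len := 7500) trc_r14_5 (by omega) (by omega)
  rcases Nat.lt_or_ge a 52500 with h6 | h6
  · exact allB_range (f := frl_r14) (lo := 45000) (len := 7500) trc_r14_6 (by omega) (by omega)
  rcases Nat.lt_or_ge a 60000 with h7 | h7
  · exact allB_range (f := frl_r14) (lo := 52500) (len := 7500) trc_r14_7 (by omega) (by omega)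
  exact allB_range (f := frl_r14) (lo := 60000) (len := 1776) trc_r14_8 (by omega) (by omega)

theorem rel_r14 : relT tbF 0 (relWords.getD 14 []) = true := trf_r14

theorem trf_r15 : allB NB frl_r15 = true := by
  apply allB_iff.2
  intro a ha
  have ha' : a < 61776 := ha
  rcases Nat.lt_or_ge a 7500 with h0 | h0
  · exact allB_range (f := frl_r15) (lo := 0) (len := 7500) trc_r15_0 (by omega) (by omega)
  rcases Nat.lt_or_ge a 15000 with h1 | h1
  · exact allB_range (f := frl_r15) (lo := 7500) (len := 7500) trc_r15_1 (by omega) (by omega)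
  rcases Nat.lt_or_ge a 22500 with h2 | h2
  · exact allB_range (f := frl_r15) (lo := 15000) (len := 7500) trc_r15_2 (by omega) (by omega)
  rcases Nat.lt_or_ge a 30000 with h3 | h3
  · exact allB_range (f := frl_r15) (lo := 22500) (len := 7500) trc_r15_3 (by omega) (by omega)
  rcases Nat.lt_or_ge a 37500 with h4 | h4
  · exact allB_range (f := frl_r15) (lo := 30000) (len := 7500) trc_r15_4 (by omega) (by omega)
  rcases Nat.lt_or_ge a 45000 with h5 | h5
  · exact allB_range (f := frl_r15) (lo := 37500) (len := 7500) trc_r15_5 (by omega) (by omega)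
  rcases Nat.lt_or_ge a 52500 with h6 | h6
  · exact allB_range (f := frl_r15) (lo := 45000) (len := 7500) trc_r15_6 (by omega) (by omega)
  rcases Nat.lt_or_ge a 60000 with h7 | h7
  · exact allB_range (f := frl_r15) (lo := 52500) (len := 7500) trc_r15_7 (by omega) (by omega)
  exact allB_range (f := frl_r15) (lo := 60000) (len := 1776) trc_r15_8 (by omega) (by omega)

theorem rel_r15 : relT tbF 0 (relWords.getD 15 []) = true := trf_r15

theorem trf_r16 : allB NB frl_r16 = true := by
  apply allB_iff.2
  intro a ha
  have ha' : a < 61776 := ha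
  rcases Nat.lt_or_ge a 7500 with h0 | h0
  · exact allB_range (f := frl_r16) (lo := 0) (len := 7500) trc_r16_0 (by omega) (by omega)
  rcases Nat.lt_or_ge a 15000 with h1 | h1
  · exact allB_range (f := frl_r16) (lo := 7500) (len := 7500) trc_r16_1 (by omega) (by omega)
  rcases Nat.lt_or_ge a 22500 with h2 | h2
  · exact allB_range (f := frl_r16) (lo := 15000) (len := 7500) trc_r16_2 (by omega) (by omega)
  rcases Nat.lt_or_ge a 30000 with h3 | h3
  · exact allB_range (f := frl_r16) (lo := 22500) (len := 7500) trc_r16_3 (by omega) (by omega)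
  rcases Nat.lt_or_ge a 37500 with h4 | h4
  · exact allB_range (f := frl_r16) (lo := 30000) (len := 7500) trc_r16_4 (by omega) (by omega)
  rcases Nat.lt_or_ge a 45000 with h5 | h5
  · exact allB_range (f := frl_r16) (lo := 37500) (len := 7500) trc_r16_5 (by omega) (by omega)
  rcases Nat.lt_or_ge a 52500 with h6 | h6
  · exact allB_range (f := frl_r16) (lo := 45000) (len := 7500) trc_r16_6 (by omega) (by omega)
  rcases Nat.lt_or_ge a 60000 with h7 | h7
  · exact allB_range (f := frl_r16) (lo := 52500) (len := 7500) trc_r16_7 (by omega) (by omega)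
  exact allB_range (f := frl_r16) (lo := 60000) (len := 1776) trc_r16_8 (by omega) (by omega)

theorem rel_r16 : relT tbF 0 (relWords.getD 16 []) = true := trf_r16

theorem trf_r17 : allB NB frl_r17 = true := by
  apply allB_iff.2
  intro a ha
  have ha' : a < 61776 := ha
  rcases Nat.lt_or_ge a 7500 with h0 | h0
  · exact allB_range (f := frl_r17) (lo := 0) (len := 7500) trc_r17_0 (by omega) (by omega)
  rcases Nat.lt_or_ge a 15000 with h1 | h1
  · exact allB_range (f := frl_r17) (lo := 7500) (len := 7500) trc_r17_1 (by omega) (by omega)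
  rcases Nat.lt_or_ge a 22500 with h2 | h2
  · exact allB_range (f := frl_r17) (lo := 15000) (len := 7500) trc_r17_2 (by omega) (by omega)
  rcases Nat.lt_or_ge a 30000 with h3 | h3
  · exact allB_range (f := frl_r17) (lo := 22500) (len := 7500) trc_r17_3 (by omega) (by omega)
  rcases Nat.lt_or_ge a 37500 with h4 | h4
  · exact allB_range (f := frl_r17) (lo := 30000) (len := 7500) trc_r17_4 (by omega) (by omega)
  rcases Nat.lt_or_ge a 45000 with h5 | h5
  · exact allB_range (f := frl_r17) (lo := 37500) (len := 7500) trc_r17_5 (by omega) (by omega)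
  rcases Nat.lt_or_ge a 52500 with h6 | h6
  · exact allB_range (f := frl_r17) (lo := 45000) (len := 7500) trc_r17_6 (by omega) (by omega)
  rcases Nat.lt_or_ge a 60000 with h7 | h7
  · exact allB_range (f := frl_r17) (lo := 52500) (len := 7500) trc_r17_7 (by omega) (by omega)
  exact allB_range (f := frl_r17) (lo := 60000) (len := 1776) trc_r17_8 (by omega) (by omega)

theorem rel_r17 : relT tbF 0 (relWords.getD 17 []) = true := trf_r17

theorem trf_r18 : allB NB frl_r18 = true := by
  apply allB_iff.2
  intro a ha
  have ha' : a < 61776 := ha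
  rcases Nat.lt_or_ge a 7500 with h0 | h0
  · exact allB_range (f := frl_r18) (lo := 0) (len := 7500) trc_r18_0 (by omega) (by omega)
  rcases Nat.lt_or_ge a 15000 with h1 | h1
  · exact allB_range (f := frl_r18) (lo := 7500) (len := 7500) trc_r18_1 (by omega) (by omega)
  rcases Nat.lt_or_ge a 22500 with h2 | h2
  · exact allB_range (f := frl_r18) (lo := 15000) (len := 7500) trc_r18_2 (by omega) (by omega)
  rcases Nat.lt_or_ge a 30000 with h3 | h3
  · exact allB_range (f := frl_r18) (lo := 22500) (len := 7500) trc_r18_3 (by omega) (by omega)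
  rcases Nat.lt_or_ge a 37500 with h4 | h4
  · exact allB_range (f := frl_r18) (lo := 30000) (len := 7500) trc_r18_4 (by omega) (by omega)
  rcases Nat.lt_or_ge a 45000 with h5 | h5
  · exact allB_range (f := frl_r18) (lo := 37500) (len := 7500) trc_r18_5 (by omega) (by omega)
  rcases Nat.lt_or_ge a 52500 with h6 | h6
  · exact allB_range (f := frl_r18) (lo := 45000) (len := 7500) trc_r18_6 (by omega) (by omega)
  rcases Nat.lt_or_ge a 60000 with h7 | h7
  · exact allB_range (f := frl_r18) (lo := 52500) (len := 7500) trc_r18_7 (by omega) (by omega)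
  exact allB_range (f := frl_r18) (lo := 60000) (len := 1776) trc_r18_8 (by omega) (by omega)

theorem rel_r18 : relT tbF 0 (relWords.getD 18 []) = true := trf_r18

theorem trf_r19 : allB NB frl_r19 = true := by
  apply allB_iff.2
  intro a ha
  have ha' : a < 61776 := ha
  rcases Nat.lt_or_ge a 5000 with h0 | h0
  · exact allB_range (f := frl_r19) (lo := 0) (len := 5000) trc_r19_0 (by omega) (by omega)
  rcases Nat.lt_or_ge a 10000 with h1 | h1
  · exact allB_range (f := frl_r19) (lo := 5000) (len := 5000) trc_r19_1 (by omega) (by omega)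
  rcases Nat.lt_or_ge a 15000 with h2 | h2
  · exact allB_range (f := frl_r19) (lo := 10000) (len := 5000) trc_r19_2 (by omega) (by omega)
  rcases Nat.lt_or_ge a 20000 with h3 | h3
  · exact allB_range (f := frl_r19) (lo := 15000) (len := 5000) trc_r19_3 (by omega) (by omega)
  rcases Nat.lt_or_ge a 25000 with h4 | h4
  · exact allB_range (f := frl_r19) (lo := 20000) (len := 5000) trc_r19_4 (by omega) (by omega)
  rcases Nat.lt_or_ge a 30000 with h5 | h5
  · exact allB_range (f := frl_r19) (lo := 25000) (len := 5000) trc_r19_5 (by omega) (by omega)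
  rcases Nat.lt_or_ge a 35000 with h6 | h6
  · exact allB_range (f := frl_r19) (lo := 30000) (len := 5000) trc_r19_6 (by omega) (by omega)
  rcases Nat.lt_or_ge a 40000 with h7 | h7
  · exact allB_range (f := frl_r19) (lo := 35000) (len := 5000) trc_r19_7 (by omega) (by omega)
  rcases Nat.lt_or_ge a 45000 with h8 | h8
  · exact allB_range (f := frl_r19) (lo := 40000) (len := 5000) trc_r19_8 (by omega) (by omega)
  rcases Nat.lt_or_ge a 50000 with h9 | h9
  · exact allB_range (f := frl_r19) (lo := 45000) (len := 5000) trc_r19_9 (by omega) (by omega)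
  rcases Nat.lt_or_ge a 55000 with h10 | h10
  · exact allB_range (f := frl_r19) (lo := 50000) (len := 5000) trc_r19_10 (by omega) (by omega)
  rcases Nat.lt_or_ge a 60000 with h11 | h11
  · exact allB_range (f := frl_r19) (lo := 55000) (len := 5000) trc_r19_11 (by omega) (by omega)
  exact allB_range (f := frl_r19) (lo := 60000) (len := 1776) trc_r19_12 (by omega) (by omega)

theorem rel_r19 : relT tbF 0 (relWords.getD 19 []) = true := trf_r19

theorem trf_r20 : allB NB frl_r20 = true := by
  apply allB_iff.2
  intro a ha
  have ha' : a < 61776 := ha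
  rcases Nat.lt_or_ge a 15000 with h0 | h0
  · exact allB_range (f := frl_r20) (lo := 0) (len := 15000) trc_r20_0 (by omega) (by omega)
  rcases Nat.lt_or_ge a 30000 with h1 | h1
  · exact allB_range (f := frl_r20) (lo := 15000) (len := 15000) trc_r20_1 (by omega) (by omega)
  rcases Nat.lt_or_ge a 45000 with h2 | h2
  · exact allB_range (f := frl_r20) (lo := 30000) (len := 15000) trc_r20_2 (by omega) (by omega)
  rcases Nat.lt_or_ge a 60000 with h3 | h3
  · exact allB_range (f := frl_r20) (lo := 45000) (len := 15000) trc_r20_3 (by omega) (by omega)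
  exact allB_range (f := frl_r20) (lo := 60000) (len := 1776) trc_r20_4 (by omega) (by omega)

theorem rel_r20 : relT tbF 0 (relWords.getD 20 []) = true := trf_r20

theorem trf_r21 : allB NB frl_r21 = true := by
  apply allB_iff.2
  intro a ha
  have ha' : a < 61776 := ha
  rcases Nat.lt_or_ge a 5000 with h0 | h0
  · exact allB_range (f := frl_r21) (lo := 0) (len := 5000) trc_r21_0 (by omega) (by omega)
  rcases Nat.lt_or_ge a 10000 with h1 | h1
  · exact allB_range (f := frl_r21) (lo := 5000) (len := 5000) trc_r21_1 (by omega) (by omega)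
  rcases Nat.lt_or_ge a 15000 with h2 | h2
  · exact allB_range (f := frl_r21) (lo := 10000) (len := 5000) trc_r21_2 (by omega) (by omega)
  rcases Nat.lt_or_ge a 20000 with h3 | h3
  · exact allB_range (f := frl_r21) (lo := 15000) (len := 5000) trc_r21_3 (by omega) (by omega)
  rcases Nat.lt_or_ge a 25000 with h4 | h4
  · exact allB_range (f := frl_r21) (lo := 20000) (len := 5000) trc_r21_4 (by omega) (by omega)
  rcases Nat.lt_or_ge a 30000 with h5 | h5
  · exact allB_range (f := frl_r21) (lo := 25000) (len := 5000) trc_r21_5 (by omega) (by omega)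
  rcases Nat.lt_or_ge a 35000 with h6 | h6
  · exact allB_range (f := frl_r21) (lo := 30000) (len := 5000) trc_r21_6 (by omega) (by omega)
  rcases Nat.lt_or_ge a 40000 with h7 | h7
  · exact allB_range (f := frl_r21) (lo := 35000) (len := 5000) trc_r21_7 (by omega) (by omega)
  rcases Nat.lt_or_ge a 45000 with h8 | h8
  · exact allB_range (f := frl_r21) (lo := 40000) (len := 5000) trc_r21_8 (by omega) (by omega)
  rcases Nat.lt_or_ge a 50000 with h9 | h9
  · exact allB_range (f := frl_r21) (lo := 45000) (len := 5000) trc_r21_9 (by omega) (by omega)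
  rcases Nat.lt_or_ge a 55000 with h10 | h10
  · exact allB_range (f := frl_r21) (lo := 50000) (len := 5000) trc_r21_10 (by omega) (by omega)
  rcases Nat.lt_or_ge a 60000 with h11 | h11
  · exact allB_range (f := frl_r21) (lo := 55000) (len := 5000) trc_r21_11 (by omega) (by omega)
  exact allB_range (f := frl_r21) (lo := 60000) (len := 1776) trc_r21_12 (by omega) (by omega)

theorem rel_r21 : relT tbF 0 (relWords.getD 21 []) = true := trf_r21

theorem trf_r22 : allB NB frl_r22 = true := by
  apply allB_iff.2
  intro a ha
  have ha' : a < 61776 := ha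
  rcases Nat.lt_or_ge a 7500 with h0 | h0
  · exact allB_range (f := frl_r22) (lo := 0) (len := 7500) trc_r22_0 (by omega) (by omega)
  rcases Nat.lt_or_ge a 15000 with h1 | h1
  · exact allB_range (f := frl_r22) (lo := 7500) (len := 7500) trc_r22_1 (by omega) (by omega)
  rcases Nat.lt_or_ge a 22500 with h2 | h2
  · exact allB_range (f := frl_r22) (lo := 15000) (len := 7500) trc_r22_2 (by omega) (by omega)
  rcases Nat.lt_or_ge a 30000 with h3 | h3
  · exact allB_range (f := frl_r22) (lo := 22500) (len := 7500) trc_r22_3 (by omega) (by omega)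
  rcases Nat.lt_or_ge a 37500 with h4 | h4
  · exact allB_range (f := frl_r22) (lo := 30000) (len := 7500) trc_r22_4 (by omega) (by omega)
  rcases Nat.lt_or_ge a 45000 with h5 | h5
  · exact allB_range (f := frl_r22) (lo := 37500) (len := 7500) trc_r22_5 (by omega) (by omega)
  rcases Nat.lt_or_ge a 52500 with h6 | h6
  · exact allB_range (f := frl_r22) (lo := 45000) (len := 7500) trc_r22_6 (by omega) (by omega)
  rcases Nat.lt_or_ge a 60000 with h7 | h7
  · exact allB_range (f := frl_r22) (lo := 52500) (len := 7500) trc_r22_7 (by omega) (by omega)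
  exact allB_range (f := frl_r22) (lo := 60000) (len := 1776) trc_r22_8 (by omega) (by omega)

theorem rel_r22 : relT tbF 0 (relWords.getD 22 []) = true := trf_r22

theorem trf_r23 : allB NB frl_r23 = true := by
  apply allB_iff.2
  intro a ha
  have ha' : a < 61776 := ha
  rcases Nat.lt_or_ge a 7500 with h0 | h0
  · exact allB_range (f := frl_r23) (lo := 0) (len := 7500) trc_r23_0 (by omega) (by omega)
  rcases Nat.lt_or_ge a 15000 with h1 | h1
  · exact allB_range (f := frl_r23) (lo := 7500) (len := 7500) trc_r23_1 (by omega) (by omega)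
  rcases Nat.lt_or_ge a 22500 with h2 | h2
  · exact allB_range (f := frl_r23) (lo := 15000) (len := 7500) trc_r23_2 (by omega) (by omega)
  rcases Nat.lt_or_ge a 30000 with h3 | h3
  · exact allB_range (f := frl_r23) (lo := 22500) (len := 7500) trc_r23_3 (by omega) (by omega)
  rcases Nat.lt_or_ge a 37500 with h4 | h4
  · exact allB_range (f := frl_r23) (lo := 30000) (len := 7500) trc_r23_4 (by omega) (by omega)
  rcases Nat.lt_or_ge a 45000 with h5 | h5
  · exact allB_range (f := frl_r23) (lo := 37500) (len := 7500) trc_r23_5 (by omega) (by omega)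
  rcases Nat.lt_or_ge a 52500 with h6 | h6
  · exact allB_range (f := frl_r23) (lo := 45000) (len := 7500) trc_r23_6 (by omega) (by omega)
  rcases Nat.lt_or_ge a 60000 with h7 | h7
  · exact allB_range (f := frl_r23) (lo := 52500) (len := 7500) trc_r23_7 (by omega) (by omega)
  exact allB_range (f := frl_r23) (lo := 60000) (len := 1776) trc_r23_8 (by omega) (by omega)

theorem rel_r23 : relT tbF 0 (relWords.getD 23 []) = true := trf_r23

theorem trf_r24 : allB NB frl_r24 = true := by
  apply allB_iff.2
  intro a ha
  have ha' : a < 61776 := ha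
  rcases Nat.lt_or_ge a 7500 with h0 | h0
  · exact allB_range (f := frl_r24) (lo := 0) (len := 7500) trc_r24_0 (by omega) (by omega)
  rcases Nat.lt_or_ge a 15000 with h1 | h1
  · exact allB_range (f := frl_r24) (lo := 7500) (len := 7500) trc_r24_1 (by omega) (by omega)
  rcases Nat.lt_or_ge a 22500 with h2 | h2
  · exact allB_range (f := frl_r24) (lo := 15000) (len := 7500) trc_r24_2 (by omega) (by omega)
  rcases Nat.lt_or_ge a 30000 with h3 | h3
  · exact allB_range (f := frl_r24) (lo := 22500) (len := 7500) trc_r24_3 (by omega) (by omega)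
  rcases Nat.lt_or_ge a 37500 with h4 | h4
  · exact allB_range (f := frl_r24) (lo := 30000) (len := 7500) trc_r24_4 (by omega) (by omega)
  rcases Nat.lt_or_ge a 45000 with h5 | h5
  · exact allB_range (f := frl_r24) (lo := 37500) (len := 7500) trc_r24_5 (by omega) (by omega)
  rcases Nat.lt_or_ge a 52500 with h6 | h6
  · exact allB_range (f := frl_r24) (lo := 45000) (len := 7500) trc_r24_6 (by omega) (by omega)
  rcases Nat.lt_or_ge a 60000 with h7 | h7
  · exact allB_range (f := frl_r24) (lo := 52500) (len := 7500) trc_r24_7 (by omega) (by omega)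
  exact allB_range (f := frl_r24) (lo := 60000) (len := 1776) trc_r24_8 (by omega) (by omega)

theorem rel_r24 : relT tbF 0 (relWords.getD 24 []) = true := trf_r24

theorem trf_r25 : allB NB frl_r25 = true := by
  apply allB_iff.2
  intro a ha
  have ha' : a < 61776 := ha
  rcases Nat.lt_or_ge a 7500 with h0 | h0
  · exact allB_range (f := frl_r25) (lo := 0) (len := 7500) trc_r25_0 (by omega) (by omega)
  rcases Nat.lt_or_ge a 15000 with h1 | h1
  · exact allB_range (f := frl_r25) (lo := 7500) (len := 7500) trc_r25_1 (by omega) (by omega)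
  rcases Nat.lt_or_ge a 22500 with h2 | h2
  · exact allB_range (f := frl_r25) (lo := 15000) (len := 7500) trc_r25_2 (by omega) (by omega)
  rcases Nat.lt_or_ge a 30000 with h3 | h3
  · exact allB_range (f := frl_r25) (lo := 22500) (len := 7500) trc_r25_3 (by omega) (by omega)
  rcases Nat.lt_or_ge a 37500 with h4 | h4
  · exact allB_range (f := frl_r25) (lo := 30000) (len := 7500) trc_r25_4 (by omega) (by omega)
  rcases Nat.lt_or_ge a 45000 with h5 | h5
  · exact allB_range (f := frl_r25) (lo := 37500) (len := 7500) trc_r25_5 (by omega) (by omega)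
  rcases Nat.lt_or_ge a 52500 with h6 | h6
  · exact allB_range (f := frl_r25) (lo := 45000) (len := 7500) trc_r25_6 (by omega) (by omega)
  rcases Nat.lt_or_ge a 60000 with h7 | h7
  · exact allB_range (f := frl_r25) (lo := 52500) (len := 7500) trc_r25_7 (by omega) (by omega)
  exact allB_range (f := frl_r25) (lo := 60000) (len := 1776) trc_r25_8 (by omega) (by omega)

theorem rel_r25 : relT tbF 0 (relWords.getD 25 []) = true := trf_r25

theorem trf_r26 : allB NB frl_r26 = true := by
  apply allB_iff.2
  intro a ha
  have ha' : a < 61776 := ha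
  rcases Nat.lt_or_ge a 7500 with h0 | h0
  · exact allB_range (f := frl_r26) (lo := 0) (len := 7500) trc_r26_0 (by omega) (by omega)
  rcases Nat.lt_or_ge a 15000 with h1 | h1
  · exact allB_range (f := frl_r26) (lo := 7500) (len := 7500) trc_r26_1 (by omega) (by omega)
  rcases Nat.lt_or_ge a 22500 with h2 | h2
  · exact allB_range (f := frl_r26) (lo := 15000) (len := 7500) trc_r26_2 (by omega) (by omega)
  rcases Nat.lt_or_ge a 30000 with h3 | h3
  · exact allB_range (f := frl_r26) (lo := 22500) (len := 7500) trc_r26_3 (by omega) (by omega)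
  rcases Nat.lt_or_ge a 37500 with h4 | h4
  · exact allB_range (f := frl_r26) (lo := 30000) (len := 7500) trc_r26_4 (by omega) (by omega)
  rcases Nat.lt_or_ge a 45000 with h5 | h5
  · exact allB_range (f := frl_r26) (lo := 37500) (len := 7500) trc_r26_5 (by omega) (by omega)
  rcases Nat.lt_or_ge a 52500 with h6 | h6
  · exact allB_range (f := frl_r26) (lo := 45000) (len := 7500) trc_r26_6 (by omega) (by omega)
  rcases Nat.lt_or_ge a 60000 with h7 | h7
  · exact allB_range (f := frl_r26) (lo := 52500) (len := 7500) trc_r26_7 (by omega) (by omega)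
  exact allB_range (f := frl_r26) (lo := 60000) (len := 1776) trc_r26_8 (by omega) (by omega)

theorem rel_r26 : relT tbF 0 (relWords.getD 26 []) = true := trf_r26

theorem trf_r27 : allB NB frl_r27 = true := by
  apply allB_iff.2
  intro a ha
  have ha' : a < 61776 := ha
  rcases Nat.lt_or_ge a 7500 with h0 | h0
  · exact allB_range (f := frl_r27) (lo := 0) (len := 7500) trc_r27_0 (by omega) (by omega)
  rcases Nat.lt_or_ge a 15000 with h1 | h1
  · exact allB_range (f := frl_r27) (lo := 7500) (len := 7500) trc_r27_1 (by omega) (by omega)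
  rcases Nat.lt_or_ge a 22500 with h2 | h2
  · exact allB_range (f := frl_r27) (lo := 15000) (len := 7500) trc_r27_2 (by omega) (by omega)
  rcases Nat.lt_or_ge a 30000 with h3 | h3
  · exact allB_range (f := frl_r27) (lo := 22500) (len := 7500) trc_r27_3 (by omega) (by omega)
  rcases Nat.lt_or_ge a 37500 with h4 | h4
  · exact allB_range (f := frl_r27) (lo := 30000) (len := 7500) trc_r27_4 (by omega) (by omega)
  rcases Nat.lt_or_ge a 45000 with h5 | h5
  · exact allB_range (f := frl_r27) (lo := 37500) (len := 7500) trc_r27_5 (by omega) (by omega)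
  rcases Nat.lt_or_ge a 52500 with h6 | h6
  · exact allB_range (f := frl_r27) (lo := 45000) (len := 7500) trc_r27_6 (by omega) (by omega)
  rcases Nat.lt_or_ge a 60000 with h7 | h7
  · exact allB_range (f := frl_r27) (lo := 52500) (len := 7500) trc_r27_7 (by omega) (by omega)
  exact allB_range (f := frl_r27) (lo := 60000) (len := 1776) trc_r27_8 (by omega) (by omega)

theorem rel_r27 : relT tbF 0 (relWords.getD 27 []) = true := trf_r27

theorem trf_r28 : allB NB frl_r28 = true := by
  apply allB_iff.2
  intro a ha
  have ha' : a < 61776 := ha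
  rcases Nat.lt_or_ge a 7500 with h0 | h0
  · exact allB_range (f := frl_r28) (lo := 0) (len := 7500) trc_r28_0 (by omega) (by omega)
  rcases Nat.lt_or_ge a 15000 with h1 | h1
  · exact allB_range (f := frl_r28) (lo := 7500) (len := 7500) trc_r28_1 (by omega) (by omega)
  rcases Nat.lt_or_ge a 22500 with h2 | h2
  · exact allB_range (f := frl_r28) (lo := 15000) (len := 7500) trc_r28_2 (by omega) (by omega)
  rcases Nat.lt_or_ge a 30000 with h3 | h3
  · exact allB_range (f := frl_r28) (lo := 22500) (len := 7500) trc_r28_3 (by omega) (by omega)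
  rcases Nat.lt_or_ge a 37500 with h4 | h4
  · exact allB_range (f := frl_r28) (lo := 30000) (len := 7500) trc_r28_4 (by omega) (by omega)
  rcases Nat.lt_or_ge a 45000 with h5 | h5
  · exact allB_range (f := frl_r28) (lo := 37500) (len := 7500) trc_r28_5 (by omega) (by omega)
  rcases Nat.lt_or_ge a 52500 with h6 | h6
  · exact allB_range (f := frl_r28) (lo := 45000) (len := 7500) trc_r28_6 (by omega) (by omega)
  rcases Nat.lt_or_ge a 60000 with h7 | h7
  · exact allB_range (f := frl_r28) (lo := 52500) (len := 7500) trc_r28_7 (by omega) (by omega)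
  exact allB_range (f := frl_r28) (lo := 60000) (len := 1776) trc_r28_8 (by omega) (by omega)

theorem rel_r28 : relT tbF 0 (relWords.getD 28 []) = true := trf_r28

theorem trf_r29 : allB NB frl_r29 = true := by
  apply allB_iff.2
  intro a ha
  have ha' : a < 61776 := ha
  rcases Nat.lt_or_ge a 5000 with h0 | h0
  · exact allB_range (f := frl_r29) (lo := 0) (len := 5000) trc_r29_0 (by omega) (by omega)
  rcases Nat.lt_or_ge a 10000 with h1 | h1
  · exact allB_range (f := frl_r29) (lo := 5000) (len := 5000) trc_r29_1 (by omega) (by omega)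
  rcases Nat.lt_or_ge a 15000 with h2 | h2
  · exact allB_range (f := frl_r29) (lo := 10000) (len := 5000) trc_r29_2 (by omega) (by omega)
  rcases Nat.lt_or_ge a 20000 with h3 | h3
  · exact allB_range (f := frl_r29) (lo := 15000) (len := 5000) trc_r29_3 (by omega) (by omega)
  rcases Nat.lt_or_ge a 25000 with h4 | h4
  · exact allB_range (f := frl_r29) (lo := 20000) (len := 5000) trc_r29_4 (by omega) (by omega)
  rcases Nat.lt_or_ge a 30000 with h5 | h5
  · exact allB_range (f := frl_r29) (lo := 25000) (len := 5000) trc_r29_5 (by omega) (by omega)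
  rcases Nat.lt_or_ge a 35000 with h6 | h6
  · exact allB_range (f := frl_r29) (lo := 30000) (len := 5000) trc_r29_6 (by omega) (by omega)
  rcases Nat.lt_or_ge a 40000 with h7 | h7
  · exact allB_range (f := frl_r29) (lo := 35000) (len := 5000) trc_r29_7 (by omega) (by omega)
  rcases Nat.lt_or_ge a 45000 with h8 | h8
  · exact allB_range (f := frl_r29) (lo := 40000) (len := 5000) trc_r29_8 (by omega) (by omega)
  rcases Nat.lt_or_ge a 50000 with h9 | h9
  · exact allB_range (f := frl_r29) (lo := 45000) (len := 5000) trc_r29_9 (by omega) (by omega)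
  rcases Nat.lt_or_ge a 55000 with h10 | h10
  · exact allB_range (f := frl_r29) (lo := 50000) (len := 5000) trc_r29_10 (by omega) (by omega)
  rcases Nat.lt_or_ge a 60000 with h11 | h11
  · exact allB_range (f := frl_r29) (lo := 55000) (len := 5000) trc_r29_11 (by omega) (by omega)
  exact allB_range (f := frl_r29) (lo := 60000) (len := 1776) trc_r29_12 (by omega) (by omega)

theorem rel_r29 : relT tbF 0 (relWords.getD 29 []) = true := trf_r29

theorem trf_r30 : allB NB frl_r30 = true := by
  apply allB_iff.2
  intro a ha
  have ha' : a < 61776 := ha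
  rcases Nat.lt_or_ge a 15000 with h0 | h0
  · exact allB_range (f := frl_r30) (lo := 0) (len := 15000) trc_r30_0 (by omega) (by omega)
  rcases Nat.lt_or_ge a 30000 with h1 | h1
  · exact allB_range (f := frl_r30) (lo := 15000) (len := 15000) trc_r30_1 (by omega) (by omega)
  rcases Nat.lt_or_ge a 45000 with h2 | h2
  · exact allB_range (f := frl_r30) (lo := 30000) (len := 15000) trc_r30_2 (by omega) (by omega)
  rcases Nat.lt_or_ge a 60000 with h3 | h3
  · exact allB_range (f := frl_r30) (lo := 45000) (len := 15000) trc_r30_3 (by omega) (by omega)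
  exact allB_range (f := frl_r30) (lo := 60000) (len := 1776) trc_r30_4 (by omega) (by omega)

theorem rel_r30 : relT tbF 0 (relWords.getD 30 []) = true := trf_r30

theorem trf_r31 : allB NB frl_r31 = true := by
  apply allB_iff.2
  intro a ha
  have ha' : a < 61776 := ha
  rcases Nat.lt_or_ge a 5000 with h0 | h0
  · exact allB_range (f := frl_r31) (lo := 0) (len := 5000) trc_r31_0 (by omega) (by omega)
  rcases Nat.lt_or_ge a 10000 with h1 | h1
  · exact allB_range (f := frl_r31) (lo := 5000) (len := 5000) trc_r31_1 (by omega) (by omega)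
  rcases Nat.lt_or_ge a 15000 with h2 | h2
  · exact allB_range (f := frl_r31) (lo := 10000) (len := 5000) trc_r31_2 (by omega) (by omega)
  rcases Nat.lt_or_ge a 20000 with h3 | h3
  · exact allB_range (f := frl_r31) (lo := 15000) (len := 5000) trc_r31_3 (by omega) (by omega)
  rcases Nat.lt_or_ge a 25000 with h4 | h4
  · exact allB_range (f := frl_r31) (lo := 20000) (len := 5000) trc_r31_4 (by omega) (by omega)
  rcases Nat.lt_or_ge a 30000 with h5 | h5
  · exact allB_range (f := frl_r31) (lo := 25000) (len := 5000) trc_r31_5 (by omega) (by omega)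
  rcases Nat.lt_or_ge a 35000 with h6 | h6
  · exact allB_range (f := frl_r31) (lo := 30000) (len := 5000) trc_r31_6 (by omega) (by omega)
  rcases Nat.lt_or_ge a 40000 with h7 | h7
  · exact allB_range (f := frl_r31) (lo := 35000) (len := 5000) trc_r31_7 (by omega) (by omega)
  rcases Nat.lt_or_ge a 45000 with h8 | h8
  · exact allB_range (f := frl_r31) (lo := 40000) (len := 5000) trc_r31_8 (by omega) (by omega)
  rcases Nat.lt_or_ge a 50000 with h9 | h9
  · exact allB_range (f := frl_r31) (lo := 45000) (len := 5000) trc_r31_9 (by omega) (by omega)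
  rcases Nat.lt_or_ge a 55000 with h10 | h10
  · exact allB_range (f := frl_r31) (lo := 50000) (len := 5000) trc_r31_10 (by omega) (by omega)
  rcases Nat.lt_or_ge a 60000 with h11 | h11
  · exact allB_range (f := frl_r31) (lo := 55000) (len := 5000) trc_r31_11 (by omega) (by omega)
  exact allB_range (f := frl_r31) (lo := 60000) (len := 1776) trc_r31_12 (by omega) (by omega)

theorem rel_r31 : relT tbF 0 (relWords.getD 31 []) = true := trf_r31

theorem trf_r32 : allB NB frl_r32 = true := by
  apply allB_iff.2
  intro a ha
  have ha' : a < 61776 := ha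
  rcases Nat.lt_or_ge a 7500 with h0 | h0
  · exact allB_range (f := frl_r32) (lo := 0) (len := 7500) trc_r32_0 (by omega) (by omega)
  rcases Nat.lt_or_ge a 15000 with h1 | h1
  · exact allB_range (f := frl_r32) (lo := 7500) (len := 7500) trc_r32_1 (by omega) (by omega)
  rcases Nat.lt_or_ge a 22500 with h2 | h2
  · exact allB_range (f := frl_r32) (lo := 15000) (len := 7500) trc_r32_2 (by omega) (by omega)
  rcases Nat.lt_or_ge a 30000 with h3 | h3
  · exact allB_range (f := frl_r32) (lo := 22500) (len := 7500) trc_r32_3 (by omega) (by omega)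
  rcases Nat.lt_or_ge a 37500 with h4 | h4
  · exact allB_range (f := frl_r32) (lo := 30000) (len := 7500) trc_r32_4 (by omega) (by omega)
  rcases Nat.lt_or_ge a 45000 with h5 | h5
  · exact allB_range (f := frl_r32) (lo := 37500) (len := 7500) trc_r32_5 (by omega) (by omega)
  rcases Nat.lt_or_ge a 52500 with h6 | h6
  · exact allB_range (f := frl_r32) (lo := 45000) (len := 7500) trc_r32_6 (by omega) (by omega)
  rcases Nat.lt_or_ge a 60000 with h7 | h7
  · exact allB_range (f := frl_r32) (lo := 52500) (len := 7500) trc_r32_7 (by omega) (by omega)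
  exact allB_range (f := frl_r32) (lo := 60000) (len := 1776) trc_r32_8 (by omega) (by omega)

theorem rel_r32 : relT tbF 0 (relWords.getD 32 []) = true := trf_r32

theorem trf_r33 : allB NB frl_r33 = true := by
  apply allB_iff.2
  intro a ha
  have ha' : a < 61776 := ha
  rcases Nat.lt_or_ge a 7500 with h0 | h0
  · exact allB_range (f := frl_r33) (lo := 0) (len := 7500) trc_r33_0 (by omega) (by omega)
  rcases Nat.lt_or_ge a 15000 with h1 | h1
  · exact allB_range (f := frl_r33) (lo := 7500) (len := 7500) trc_r33_1 (by omega) (by omega)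
  rcases Nat.lt_or_ge a 22500 with h2 | h2
  · exact allB_range (f := frl_r33) (lo := 15000) (len := 7500) trc_r33_2 (by omega) (by omega)
  rcases Nat.lt_or_ge a 30000 with h3 | h3
  · exact allB_range (f := frl_r33) (lo := 22500) (len := 7500) trc_r33_3 (by omega) (by omega)
  rcases Nat.lt_or_ge a 37500 with h4 | h4
  · exact allB_range (f := frl_r33) (lo := 30000) (len := 7500) trc_r33_4 (by omega) (by omega)
  rcases Nat.lt_or_ge a 45000 with h5 | h5
  · exact allB_range (f := frl_r33) (lo := 37500) (len := 7500) trc_r33_5 (by omega) (by omega)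
  rcases Nat.lt_or_ge a 52500 with h6 | h6
  · exact allB_range (f := frl_r33) (lo := 45000) (len := 7500) trc_r33_6 (by omega) (by omega)
  rcases Nat.lt_or_ge a 60000 with h7 | h7
  · exact allB_range (f := frl_r33) (lo := 52500) (len := 7500) trc_r33_7 (by omega) (by omega)
  exact allB_range (f := frl_r33) (lo := 60000) (len := 1776) trc_r33_8 (by omega) (by omega)

theorem rel_r33 : relT tbF 0 (relWords.getD 33 []) = true := trf_r33

theorem trf_r34 : allB NB frl_r34 = true := by
  apply allB_iff.2
  intro a ha
  have ha' : a < 61776 := ha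
  rcases Nat.lt_or_ge a 5000 with h0 | h0
  · exact allB_range (f := frl_r34) (lo := 0) (len := 5000) trc_r34_0 (by omega) (by omega)
  rcases Nat.lt_or_ge a 10000 with h1 | h1
  · exact allB_range (f := frl_r34) (lo := 5000) (len := 5000) trc_r34_1 (by omega) (by omega)
  rcases Nat.lt_or_ge a 15000 with h2 | h2
  · exact allB_range (f := frl_r34) (lo := 10000) (len := 5000) trc_r34_2 (by omega) (by omega)
  rcases Nat.lt_or_ge a 20000 with h3 | h3
  · exact allB_range (f := frl_r34) (lo := 15000) (len := 5000) trc_r34_3 (by omega) (by omega)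
  rcases Nat.lt_or_ge a 25000 with h4 | h4
  · exact allB_range (f := frl_r34) (lo := 20000) (len := 5000) trc_r34_4 (by omega) (by omega)
  rcases Nat.lt_or_ge a 30000 with h5 | h5
  · exact allB_range (f := frl_r34) (lo := 25000) (len := 5000) trc_r34_5 (by omega) (by omega)
  rcases Nat.lt_or_ge a 35000 with h6 | h6
  · exact allB_range (f := frl_r34) (lo := 30000) (len := 5000) trc_r34_6 (by omega) (by omega)
  rcases Nat.lt_or_ge a 40000 with h7 | h7
  · exact allB_range (f := frl_r34) (lo := 35000) (len := 5000) trc_r34_7 (by omega) (by omega)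
  rcases Nat.lt_or_ge a 45000 with h8 | h8
  · exact allB_range (f := frl_r34) (lo := 40000) (len := 5000) trc_r34_8 (by omega) (by omega)
  rcases Nat.lt_or_ge a 50000 with h9 | h9
  · exact allB_range (f := frl_r34) (lo := 45000) (len := 5000) trc_r34_9 (by omega) (by omega)
  rcases Nat.lt_or_ge a 55000 with h10 | h10
  · exact allB_range (f := frl_r34) (lo := 50000) (len := 5000) trc_r34_10 (by omega) (by omega)
  rcases Nat.lt_or_ge a 60000 with h11 | h11
  · exact allB_range (f := frl_r34) (lo := 55000) (len := 5000) trc_r34_11 (by omega) (by omega)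
  exact allB_range (f := frl_r34) (lo := 60000) (len := 1776) trc_r34_12 (by omega) (by omega)

theorem rel_r34 : relT tbF 0 (relWords.getD 34 []) = true := trf_r34

theorem trf_r35 : allB NB frl_r35 = true := by
  apply allB_iff.2
  intro a ha
  have ha' : a < 61776 := ha
  rcases Nat.lt_or_ge a 7500 with h0 | h0
  · exact allB_range (f := frl_r35) (lo := 0) (len := 7500) trc_r35_0 (by omega) (by omega)
  rcases Nat.lt_or_ge a 15000 with h1 | h1
  · exact allB_range (f := frl_r35) (lo := 7500) (len := 7500) trc_r35_1 (by omega) (by omega)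
  rcases Nat.lt_or_ge a 22500 with h2 | h2
  · exact allB_range (f := frl_r35) (lo := 15000) (len := 7500) trc_r35_2 (by omega) (by omega)
  rcases Nat.lt_or_ge a 30000 with h3 | h3
  · exact allB_range (f := frl_r35) (lo := 22500) (len := 7500) trc_r35_3 (by omega) (by omega)
  rcases Nat.lt_or_ge a 37500 with h4 | h4
  · exact allB_range (f := frl_r35) (lo := 30000) (len := 7500) trc_r35_4 (by omega) (by omega)
  rcases Nat.lt_or_ge a 45000 with h5 | h5
  · exact allB_range (f := frl_r35) (lo := 37500) (len := 7500) trc_r35_5 (by omega) (by omega)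
  rcases Nat.lt_or_ge a 52500 with h6 | h6
  · exact allB_range (f := frl_r35) (lo := 45000) (len := 7500) trc_r35_6 (by omega) (by omega)
  rcases Nat.lt_or_ge a 60000 with h7 | h7
  · exact allB_range (f := frl_r35) (lo := 52500) (len := 7500) trc_r35_7 (by omega) (by omega)
  exact allB_range (f := frl_r35) (lo := 60000) (len := 1776) trc_r35_8 (by omega) (by omega)

theorem rel_r35 : relT tbF 0 (relWords.getD 35 []) = true := trf_r35

theorem trf_r36 : allB NB frl_r36 = true := by
  apply allB_iff.2
  intro a ha
  have ha' : a < 61776 := ha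
  rcases Nat.lt_or_ge a 7500 with h0 | h0
  · exact allB_range (f := frl_r36) (lo := 0) (len := 7500) trc_r36_0 (by omega) (by omega)
  rcases Nat.lt_or_ge a 15000 with h1 | h1
  · exact allB_range (f := frl_r36) (lo := 7500) (len := 7500) trc_r36_1 (by omega) (by omega)
  rcases Nat.lt_or_ge a 22500 with h2 | h2
  · exact allB_range (f := frl_r36) (lo := 15000) (len := 7500) trc_r36_2 (by omega) (by omega)
  rcases Nat.lt_or_ge a 30000 with h3 | h3
  · exact allB_range (f := frl_r36) (lo := 22500) (len := 7500) trc_r36_3 (by omega) (by omega)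
  rcases Nat.lt_or_ge a 37500 with h4 | h4
  · exact allB_range (f := frl_r36) (lo := 30000) (len := 7500) trc_r36_4 (by omega) (by omega)
  rcases Nat.lt_or_ge a 45000 with h5 | h5
  · exact allB_range (f := frl_r36) (lo := 37500) (len := 7500) trc_r36_5 (by omega) (by omega)
  rcases Nat.lt_or_ge a 52500 with h6 | h6
  · exact allB_range (f := frl_r36) (lo := 45000) (len := 7500) trc_r36_6 (by omega) (by omega)
  rcases Nat.lt_or_ge a 60000 with h7 | h7
  · exact allB_range (f := frl_r36) (lo := 52500) (len := 7500) trc_r36_7 (by omega) (by omega)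
  exact allB_range (f := frl_r36) (lo := 60000) (len := 1776) trc_r36_8 (by omega) (by omega)

theorem rel_r36 : relT tbF 0 (relWords.getD 36 []) = true := trf_r36

theorem trf_r37 : allB NB frl_r37 = true := by
  apply allB_iff.2
  intro a ha
  have ha' : a < 61776 := ha
  rcases Nat.lt_or_ge a 7500 with h0 | h0
  · exact allB_range (f := frl_r37) (lo := 0) (len := 7500) trc_r37_0 (by omega) (by omega)
  rcases Nat.lt_or_ge a 15000 with h1 | h1
  · exact allB_range (f := frl_r37) (lo := 7500) (len := 7500) trc_r37_1 (by omega) (by omega)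
  rcases Nat.lt_or_ge a 22500 with h2 | h2
  · exact allB_range (f := frl_r37) (lo := 15000) (len := 7500) trc_r37_2 (by omega) (by omega)
  rcases Nat.lt_or_ge a 30000 with h3 | h3
  · exact allB_range (f := frl_r37) (lo := 22500) (len := 7500) trc_r37_3 (by omega) (by omega)
  rcases Nat.lt_or_ge a 37500 with h4 | h4
  · exact allB_range (f := frl_r37) (lo := 30000) (len := 7500) trc_r37_4 (by omega) (by omega)
  rcases Nat.lt_or_ge a 45000 with h5 | h5
  · exact allB_range (f := frl_r37) (lo := 37500) (len := 7500) trc_r37_5 (by omega) (by omega)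
  rcases Nat.lt_or_ge a 52500 with h6 | h6
  · exact allB_range (f := frl_r37) (lo := 45000) (len := 7500) trc_r37_6 (by omega) (by omega)
  rcases Nat.lt_or_ge a 60000 with h7 | h7
  · exact allB_range (f := frl_r37) (lo := 52500) (len := 7500) trc_r37_7 (by omega) (by omega)
  exact allB_range (f := frl_r37) (lo := 60000) (len := 1776) trc_r37_8 (by omega) (by omega)

theorem rel_r37 : relT tbF 0 (relWords.getD 37 []) = true := trf_r37

theorem trf_r38 : allB NB frl_r38 = true := by
  apply allB_iff.2
  intro a ha
  have ha' : a < 61776 := ha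
  rcases Nat.lt_or_ge a 7500 with h0 | h0
  · exact allB_range (f := frl_r38) (lo := 0) (len := 7500) trc_r38_0 (by omega) (by omega)
  rcases Nat.lt_or_ge a 15000 with h1 | h1
  · exact allB_range (f := frl_r38) (lo := 7500) (len := 7500) trc_r38_1 (by omega) (by omega)
  rcases Nat.lt_or_ge a 22500 with h2 | h2
  · exact allB_range (f := frl_r38) (lo := 15000) (len := 7500) trc_r38_2 (by omega) (by omega)
  rcases Nat.lt_or_ge a 30000 with h3 | h3
  · exact allB_range (f := frl_r38) (lo := 22500) (len := 7500) trc_r38_3 (by omega) (by omega)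
  rcases Nat.lt_or_ge a 37500 with h4 | h4
  · exact allB_range (f := frl_r38) (lo := 30000) (len := 7500) trc_r38_4 (by omega) (by omega)
  rcases Nat.lt_or_ge a 45000 with h5 | h5
  · exact allB_range (f := frl_r38) (lo := 37500) (len := 7500) trc_r38_5 (by omega) (by omega)
  rcases Nat.lt_or_ge a 52500 with h6 | h6
  · exact allB_range (f := frl_r38) (lo := 45000) (len := 7500) trc_r38_6 (by omega) (by omega)
  rcases Nat.lt_or_ge a 60000 with h7 | h7
  · exact allB_range (f := frl_r38) (lo := 52500) (len := 7500) trc_r38_7 (by omega) (by omega)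
  exact allB_range (f := frl_r38) (lo := 60000) (len := 1776) trc_r38_8 (by omega) (by omega)

theorem rel_r38 : relT tbF 0 (relWords.getD 38 []) = true := trf_r38

theorem trf_r39 : allB NB frl_r39 = true := by
  apply allB_iff.2
  intro a ha
  have ha' : a < 61776 := ha
  rcases Nat.lt_or_ge a 5000 with h0 | h0
  · exact allB_range (f := frl_r39) (lo := 0) (len := 5000) trc_r39_0 (by omega) (by omega)
  rcases Nat.lt_or_ge a 10000 with h1 | h1
  · exact allB_range (f := frl_r39) (lo := 5000) (len := 5000) trc_r39_1 (by omega) (by omega)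
  rcases Nat.lt_or_ge a 15000 with h2 | h2
  · exact allB_range (f := frl_r39) (lo := 10000) (len := 5000) trc_r39_2 (by omega) (by omega)
  rcases Nat.lt_or_ge a 20000 with h3 | h3
  · exact allB_range (f := frl_r39) (lo := 15000) (len := 5000) trc_r39_3 (by omega) (by omega)
  rcases Nat.lt_or_ge a 25000 with h4 | h4
  · exact allB_range (f := frl_r39) (lo := 20000) (len := 5000) trc_r39_4 (by omega) (by omega)
  rcases Nat.lt_or_ge a 30000 with h5 | h5
  · exact allB_range (f := frl_r39) (lo := 25000) (len := 5000) trc_r39_5 (by omega) (by omega)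
  rcases Nat.lt_or_ge a 35000 with h6 | h6
  · exact allB_range (f := frl_r39) (lo := 30000) (len := 5000) trc_r39_6 (by omega) (by omega)
  rcases Nat.lt_or_ge a 40000 with h7 | h7
  · exact allB_range (f := frl_r39) (lo := 35000) (len := 5000) trc_r39_7 (by omega) (by omega)
  rcases Nat.lt_or_ge a 45000 with h8 | h8
  · exact allB_range (f := frl_r39) (lo := 40000) (len := 5000) trc_r39_8 (by omega) (by omega)
  rcases Nat.lt_or_ge a 50000 with h9 | h9
  · exact allB_range (f := frl_r39) (lo := 45000) (len := 5000) trc_r39_9 (by omega) (by omega)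
  rcases Nat.lt_or_ge a 55000 with h10 | h10
  · exact allB_range (f := frl_r39) (lo := 50000) (len := 5000) trc_r39_10 (by omega) (by omega)
  rcases Nat.lt_or_ge a 60000 with h11 | h11
  · exact allB_range (f := frl_r39) (lo := 55000) (len := 5000) trc_r39_11 (by omega) (by omega)
  exact allB_range (f := frl_r39) (lo := 60000) (len := 1776) trc_r39_12 (by omega) (by omega)

theorem rel_r39 : relT tbF 0 (relWords.getD 39 []) = true := trf_r39

theorem trf_r40 : allB NB frl_r40 = true := by
  apply allB_iff.2
  intro a ha
  have ha' : a < 61776 := ha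
  rcases Nat.lt_or_ge a 15000 with h0 | h0
  · exact allB_range (f := frl_r40) (lo := 0) (len := 15000) trc_r40_0 (by omega) (by omega)
  rcases Nat.lt_or_ge a 30000 with h1 | h1
  · exact allB_range (f := frl_r40) (lo := 15000) (len := 15000) trc_r40_1 (by omega) (by omega)
  rcases Nat.lt_or_ge a 45000 with h2 | h2
  · exact allB_range (f := frl_r40) (lo := 30000) (len := 15000) trc_r40_2 (by omega) (by omega)
  rcases Nat.lt_or_ge a 60000 with h3 | h3
  · exact allB_range (f := frl_r40) (lo := 45000) (len := 15000) trc_r40_3 (by omega) (by omega)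
  exact allB_range (f := frl_r40) (lo := 60000) (len := 1776) trc_r40_4 (by omega) (by omega)

theorem rel_r40 : relT tbF 0 (relWords.getD 40 []) = true := trf_r40

theorem trf_r41 : allB NB frl_r41 = true := by
  apply allB_iff.2
  intro a ha
  have ha' : a < 61776 := ha
  rcases Nat.lt_or_ge a 5000 with h0 | h0
  · exact allB_range (f := frl_r41) (lo := 0) (len := 5000) trc_r41_0 (by omega) (by omega)
  rcases Nat.lt_or_ge a 10000 with h1 | h1
  · exact allB_range (f := frl_r41) (lo := 5000) (len := 5000) trc_r41_1 (by omega) (by omega)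
  rcases Nat.lt_or_ge a 15000 with h2 | h2
  · exact allB_range (f := frl_r41) (lo := 10000) (len := 5000) trc_r41_2 (by omega) (by omega)
  rcases Nat.lt_or_ge a 20000 with h3 | h3
  · exact allB_range (f := frl_r41) (lo := 15000) (len := 5000) trc_r41_3 (by omega) (by omega)
  rcases Nat.lt_or_ge a 25000 with h4 | h4
  · exact allB_range (f := frl_r41) (lo := 20000) (len := 5000) trc_r41_4 (by omega) (by omega)
  rcases Nat.lt_or_ge a 30000 with h5 | h5
  · exact allB_range (f := frl_r41) (lo := 25000) (len := 5000) trc_r41_5 (by omega) (by omega)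
  rcases Nat.lt_or_ge a 35000 with h6 | h6
  · exact allB_range (f := frl_r41) (lo := 30000) (len := 5000) trc_r41_6 (by omega) (by omega)
  rcases Nat.lt_or_ge a 40000 with h7 | h7
  · exact allB_range (f := frl_r41) (lo := 35000) (len := 5000) trc_r41_7 (by omega) (by omega)
  rcases Nat.lt_or_ge a 45000 with h8 | h8
  · exact allB_range (f := frl_r41) (lo := 40000) (len := 5000) trc_r41_8 (by omega) (by omega)
  rcases Nat.lt_or_ge a 50000 with h9 | h9
  · exact allB_range (f := frl_r41) (lo := 45000) (len := 5000) trc_r41_9 (by omega) (by omega)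
  rcases Nat.lt_or_ge a 55000 with h10 | h10
  · exact allB_range (f := frl_r41) (lo := 50000) (len := 5000) trc_r41_10 (by omega) (by omega)
  rcases Nat.lt_or_ge a 60000 with h11 | h11
  · exact allB_range (f := frl_r41) (lo := 55000) (len := 5000) trc_r41_11 (by omega) (by omega)
  exact allB_range (f := frl_r41) (lo := 60000) (len := 1776) trc_r41_12 (by omega) (by omega)

theorem rel_r41 : relT tbF 0 (relWords.getD 41 []) = true := trf_r41

theorem trf_r42 : allB NB frl_r42 = true := by
  apply allB_iff.2
  intro a ha
  have ha' : a < 61776 := ha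
  rcases Nat.lt_or_ge a 7500 with h0 | h0
  · exact allB_range (f := frl_r42) (lo := 0) (len := 7500) trc_r42_0 (by omega) (by omega)
  rcases Nat.lt_or_ge a 15000 with h1 | h1
  · exact allB_range (f := frl_r42) (lo := 7500) (len := 7500) trc_r42_1 (by omega) (by omega)
  rcases Nat.lt_or_ge a 22500 with h2 | h2
  · exact allB_range (f := frl_r42) (lo := 15000) (len := 7500) trc_r42_2 (by omega) (by omega)
  rcases Nat.lt_or_ge a 30000 with h3 | h3
  · exact allB_range (f := frl_r42) (lo := 22500) (len := 7500) trc_r42_3 (by omega) (by omega)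
  rcases Nat.lt_or_ge a 37500 with h4 | h4
  · exact allB_range (f := frl_r42) (lo := 30000) (len := 7500) trc_r42_4 (by omega) (by omega)
  rcases Nat.lt_or_ge a 45000 with h5 | h5
  · exact allB_range (f := frl_r42) (lo := 37500) (len := 7500) trc_r42_5 (by omega) (by omega)
  rcases Nat.lt_or_ge a 52500 with h6 | h6
  · exact allB_range (f := frl_r42) (lo := 45000) (len := 7500) trc_r42_6 (by omega) (by omega)
  rcases Nat.lt_or_ge a 60000 with h7 | h7
  · exact allB_range (f := frl_r42) (lo := 52500) (len := 7500) trc_r42_7 (by omega) (by omega)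
  exact allB_range (f := frl_r42) (lo := 60000) (len := 1776) trc_r42_8 (by omega) (by omega)

theorem rel_r42 : relT tbF 0 (relWords.getD 42 []) = true := trf_r42

theorem trf_r43 : allB NB frl_r43 = true := by
  apply allB_iff.2
  intro a ha
  have ha' : a < 61776 := ha
  rcases Nat.lt_or_ge a 7500 with h0 | h0
  · exact allB_range (f := frl_r43) (lo := 0) (len := 7500) trc_r43_0 (by omega) (by omega)
  rcases Nat.lt_or_ge a 15000 with h1 | h1
  · exact allB_range (f := frl_r43) (lo := 7500) (len := 7500) trc_r43_1 (by omega) (by omega)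
  rcases Nat.lt_or_ge a 22500 with h2 | h2
  · exact allB_range (f := frl_r43) (lo := 15000) (len := 7500) trc_r43_2 (by omega) (by omega)
  rcases Nat.lt_or_ge a 30000 with h3 | h3
  · exact allB_range (f := frl_r43) (lo := 22500) (len := 7500) trc_r43_3 (by omega) (by omega)
  rcases Nat.lt_or_ge a 37500 with h4 | h4
  · exact allB_range (f := frl_r43) (lo := 30000) (len := 7500) trc_r43_4 (by omega) (by omega)
  rcases Nat.lt_or_ge a 45000 with h5 | h5
  · exact allB_range (f := frl_r43) (lo := 37500) (len := 7500) trc_r43_5 (by omega) (by omega)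
  rcases Nat.lt_or_ge a 52500 with h6 | h6
  · exact allB_range (f := frl_r43) (lo := 45000) (len := 7500) trc_r43_6 (by omega) (by omega)
  rcases Nat.lt_or_ge a 60000 with h7 | h7
  · exact allB_range (f := frl_r43) (lo := 52500) (len := 7500) trc_r43_7 (by omega) (by omega)
  exact allB_range (f := frl_r43) (lo := 60000) (len := 1776) trc_r43_8 (by omega) (by omega)

theorem rel_r43 : relT tbF 0 (relWords.getD 43 []) = true := trf_r43

theorem trf_r44 : allB NB frl_r44 = true := by
  apply allB_iff.2
  intro a ha
  have ha' : a < 61776 := ha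
  rcases Nat.lt_or_ge a 7500 with h0 | h0
  · exact allB_range (f := frl_r44) (lo := 0) (len := 7500) trc_r44_0 (by omega) (by omega)
  rcases Nat.lt_or_ge a 15000 with h1 | h1
  · exact allB_range (f := frl_r44) (lo := 7500) (len := 7500) trc_r44_1 (by omega) (by omega)
  rcases Nat.lt_or_ge a 22500 with h2 | h2
  · exact allB_range (f := frl_r44) (lo := 15000) (len := 7500) trc_r44_2 (by omega) (by omega)
  rcases Nat.lt_or_ge a 30000 with h3 | h3
  · exact allB_range (f := frl_r44) (lo := 22500) (len := 7500) trc_r44_3 (by omega) (by omega)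
  rcases Nat.lt_or_ge a 37500 with h4 | h4
  · exact allB_range (f := frl_r44) (lo := 30000) (len := 7500) trc_r44_4 (by omega) (by omega)
  rcases Nat.lt_or_ge a 45000 with h5 | h5
  · exact allB_range (f := frl_r44) (lo := 37500) (len := 7500) trc_r44_5 (by omega) (by omega)
  rcases Nat.lt_or_ge a 52500 with h6 | h6
  · exact allB_range (f := frl_r44) (lo := 45000) (len := 7500) trc_r44_6 (by omega) (by omega)
  rcases Nat.lt_or_ge a 60000 with h7 | h7
  · exact allB_range (f := frl_r44) (lo := 52500) (len := 7500) trc_r44_7 (by omega) (by omega)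
  exact allB_range (f := frl_r44) (lo := 60000) (len := 1776) trc_r44_8 (by omega) (by omega)

theorem rel_r44 : relT tbF 0 (relWords.getD 44 []) = true := trf_r44

theorem trf_r45 : allB NB frl_r45 = true := by
  apply allB_iff.2
  intro a ha
  have ha' : a < 61776 := ha
  rcases Nat.lt_or_ge a 7500 with h0 | h0
  · exact allB_range (f := frl_r45) (lo := 0) (len := 7500) trc_r45_0 (by omega) (by omega)
  rcases Nat.lt_or_ge a 15000 with h1 | h1
  · exact allB_range (f := frl_r45) (lo := 7500) (len := 7500) trc_r45_1 (by omega) (by omega)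
  rcases Nat.lt_or_ge a 22500 with h2 | h2
  · exact allB_range (f := frl_r45) (lo := 15000) (len := 7500) trc_r45_2 (by omega) (by omega)
  rcases Nat.lt_or_ge a 30000 with h3 | h3
  · exact allB_range (f := frl_r45) (lo := 22500) (len := 7500) trc_r45_3 (by omega) (by omega)
  rcases Nat.lt_or_ge a 37500 with h4 | h4
  · exact allB_range (f := frl_r45) (lo := 30000) (len := 7500) trc_r45_4 (by omega) (by omega)
  rcases Nat.lt_or_ge a 45000 with h5 | h5
  · exact allB_range (f := frl_r45) (lo := 37500) (len := 7500) trc_r45_5 (by omega) (by omega)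
  rcases Nat.lt_or_ge a 52500 with h6 | h6
  · exact allB_range (f := frl_r45) (lo := 45000) (len := 7500) trc_r45_6 (by omega) (by omega)
  rcases Nat.lt_or_ge a 60000 with h7 | h7
  · exact allB_range (f := frl_r45) (lo := 52500) (len := 7500) trc_r45_7 (by omega) (by omega)
  exact allB_range (f := frl_r45) (lo := 60000) (len := 1776) trc_r45_8 (by omega) (by omega)

theorem rel_r45 : relT tbF 0 (relWords.getD 45 []) = true := trf_r45

theorem trf_r46 : allB NB frl_r46 = true := by
  apply allB_iff.2
  intro a ha
  have ha' : a < 61776 := ha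
  rcases Nat.lt_or_ge a 7500 with h0 | h0
  · exact allB_range (f := frl_r46) (lo := 0) (len := 7500) trc_r46_0 (by omega) (by omega)
  rcases Nat.lt_or_ge a 15000 with h1 | h1
  · exact allB_range (f := frl_r46) (lo := 7500) (len := 7500) trc_r46_1 (by omega) (by omega)
  rcases Nat.lt_or_ge a 22500 with h2 | h2
  · exact allB_range (f := frl_r46) (lo := 15000) (len := 7500) trc_r46_2 (by omega) (by omega)
  rcases Nat.lt_or_ge a 30000 with h3 | h3
  · exact allB_range (f := frl_r46) (lo := 22500) (len := 7500) trc_r46_3 (by omega) (by omega)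
  rcases Nat.lt_or_ge a 37500 with h4 | h4
  · exact allB_range (f := frl_r46) (lo := 30000) (len := 7500) trc_r46_4 (by omega) (by omega)
  rcases Nat.lt_or_ge a 45000 with h5 | h5
  · exact allB_range (f := frl_r46) (lo := 37500) (len := 7500) trc_r46_5 (by omega) (by omega)
  rcases Nat.lt_or_ge a 52500 with h6 | h6
  · exact allB_range (f := frl_r46) (lo := 45000) (len := 7500) trc_r46_6 (by omega) (by omega)
  rcases Nat.lt_or_ge a 60000 with h7 | h7
  · exact allB_range (f := frl_r46) (lo := 52500) (len := 7500) trc_r46_7 (by omega) (by omega)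
  exact allB_range (f := frl_r46) (lo := 60000) (len := 1776) trc_r46_8 (by omega) (by omega)

theorem rel_r46 : relT tbF 0 (relWords.getD 46 []) = true := trf_r46

theorem trf_r47 : allB NB frl_r47 = true := by
  apply allB_iff.2
  intro a ha
  have ha' : a < 61776 := ha
  rcases Nat.lt_or_ge a 7500 with h0 | h0
  · exact allB_range (f := frl_r47) (lo := 0) (len := 7500) trc_r47_0 (by omega) (by omega)
  rcases Nat.lt_or_ge a 15000 with h1 | h1
  · exact allB_range (f := frl_r47) (lo := 7500) (len := 7500) trc_r47_1 (by omega) (by omega)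
  rcases Nat.lt_or_ge a 22500 with h2 | h2
  · exact allB_range (f := frl_r47) (lo := 15000) (len := 7500) trc_r47_2 (by omega) (by omega)
  rcases Nat.lt_or_ge a 30000 with h3 | h3
  · exact allB_range (f := frl_r47) (lo := 22500) (len := 7500) trc_r47_3 (by omega) (by omega)
  rcases Nat.lt_or_ge a 37500 with h4 | h4
  · exact allB_range (f := frl_r47) (lo := 30000) (len := 7500) trc_r47_4 (by omega) (by omega)
  rcases Nat.lt_or_ge a 45000 with h5 | h5
  · exact allB_range (f := frl_r47) (lo := 37500) (len := 7500) trc_r47_5 (by omega) (by omega)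
  rcases Nat.lt_or_ge a 52500 with h6 | h6
  · exact allB_range (f := frl_r47) (lo := 45000) (len := 7500) trc_r47_6 (by omega) (by omega)
  rcases Nat.lt_or_ge a 60000 with h7 | h7
  · exact allB_range (f := frl_r47) (lo := 52500) (len := 7500) trc_r47_7 (by omega) (by omega)
  exact allB_range (f := frl_r47) (lo := 60000) (len := 1776) trc_r47_8 (by omega) (by omega)

theorem rel_r47 : relT tbF 0 (relWords.getD 47 []) = true := trf_r47

theorem trf_r48 : allB NB frl_r48 = true := by
  apply allB_iff.2
  intro a ha
  have ha' : a < 61776 := ha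
  rcases Nat.lt_or_ge a 7500 with h0 | h0
  · exact allB_range (f := frl_r48) (lo := 0) (len := 7500) trc_r48_0 (by omega) (by omega)
  rcases Nat.lt_or_ge a 15000 with h1 | h1
  · exact allB_range (f := frl_r48) (lo := 7500) (len := 7500) trc_r48_1 (by omega) (by omega)
  rcases Nat.lt_or_ge a 22500 with h2 | h2
  · exact allB_range (f := frl_r48) (lo := 15000) (len := 7500) trc_r48_2 (by omega) (by omega)
  rcases Nat.lt_or_ge a 30000 with h3 | h3
  · exact allB_range (f := frl_r48) (lo := 22500) (len := 7500) trc_r48_3 (by omega) (by omega)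
  rcases Nat.lt_or_ge a 37500 with h4 | h4
  · exact allB_range (f := frl_r48) (lo := 30000) (len := 7500) trc_r48_4 (by omega) (by omega)
  rcases Nat.lt_or_ge a 45000 with h5 | h5
  · exact allB_range (f := frl_r48) (lo := 37500) (len := 7500) trc_r48_5 (by omega) (by omega)
  rcases Nat.lt_or_ge a 52500 with h6 | h6
  · exact allB_range (f := frl_r48) (lo := 45000) (len := 7500) trc_r48_6 (by omega) (by omega)
  rcases Nat.lt_or_ge a 60000 with h7 | h7
  · exact allB_range (f := frl_r48) (lo := 52500) (len := 7500) trc_r48_7 (by omega) (by omega)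
  exact allB_range (f := frl_r48) (lo := 60000) (len := 1776) trc_r48_8 (by omega) (by omega)

theorem rel_r48 : relT tbF 0 (relWords.getD 48 []) = true := trf_r48

theorem trf_r49 : allB NB frl_r49 = true := by
  apply allB_iff.2
  intro a ha
  have ha' : a < 61776 := ha
  rcases Nat.lt_or_ge a 5000 with h0 | h0
  · exact allB_range (f := frl_r49) (lo := 0) (len := 5000) trc_r49_0 (by omega) (by omega)
  rcases Nat.lt_or_ge a 10000 with h1 | h1
  · exact allB_range (f := frl_r49) (lo := 5000) (len := 5000) trc_r49_1 (by omega) (by omega)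
  rcases Nat.lt_or_ge a 15000 with h2 | h2
  · exact allB_range (f := frl_r49) (lo := 10000) (len := 5000) trc_r49_2 (by omega) (by omega)
  rcases Nat.lt_or_ge a 20000 with h3 | h3
  · exact allB_range (f := frl_r49) (lo := 15000) (len := 5000) trc_r49_3 (by omega) (by omega)
  rcases Nat.lt_or_ge a 25000 with h4 | h4
  · exact allB_range (f := frl_r49) (lo := 20000) (len := 5000) trc_r49_4 (by omega) (by omega)
  rcases Nat.lt_or_ge a 30000 with h5 | h5
  · exact allB_range (f := frl_r49) (lo := 25000) (len := 5000) trc_r49_5 (by omega) (by omega)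
  rcases Nat.lt_or_ge a 35000 with h6 | h6
  · exact allB_range (f := frl_r49) (lo := 30000) (len := 5000) trc_r49_6 (by omega) (by omega)
  rcases Nat.lt_or_ge a 40000 with h7 | h7
  · exact allB_range (f := frl_r49) (lo := 35000) (len := 5000) trc_r49_7 (by omega) (by omega)
  rcases Nat.lt_or_ge a 45000 with h8 | h8
  · exact allB_range (f := frl_r49) (lo := 40000) (len := 5000) trc_r49_8 (by omega) (by omega)
  rcases Nat.lt_or_ge a 50000 with h9 | h9
  · exact allB_range (f := frl_r49) (lo := 45000) (len := 5000) trc_r49_9 (by omega) (by omega)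
  rcases Nat.lt_or_ge a 55000 with h10 | h10
  · exact allB_range (f := frl_r49) (lo := 50000) (len := 5000) trc_r49_10 (by omega) (by omega)
  rcases Nat.lt_or_ge a 60000 with h11 | h11
  · exact allB_range (f := frl_r49) (lo := 55000) (len := 5000) trc_r49_11 (by omega) (by omega)
  exact allB_range (f := frl_r49) (lo := 60000) (len := 1776) trc_r49_12 (by omega) (by omega)

theorem rel_r49 : relT tbF 0 (relWords.getD 49 []) = true := trf_r49

theorem trf_r50 : allB NB frl_r50 = true := by
  apply allB_iff.2
  intro a ha
  have ha' : a < 61776 := ha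
  rcases Nat.lt_or_ge a 15000 with h0 | h0
  · exact allB_range (f := frl_r50) (lo := 0) (len := 15000) trc_r50_0 (by omega) (by omega)
  rcases Nat.lt_or_ge a 30000 with h1 | h1
  · exact allB_range (f := frl_r50) (lo := 15000) (len := 15000) trc_r50_1 (by omega) (by omega)
  rcases Nat.lt_or_ge a 45000 with h2 | h2
  · exact allB_range (f := frl_r50) (lo := 30000) (len := 15000) trc_r50_2 (by omega) (by omega)
  rcases Nat.lt_or_ge a 60000 with h3 | h3
  · exact allB_range (f := frl_r50) (lo := 45000) (len := 15000) trc_r50_3 (by omega) (by omega)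
  exact allB_range (f := frl_r50) (lo := 60000) (len := 1776) trc_r50_4 (by omega) (by omega)

theorem rel_r50 : relT tbF 0 (relWords.getD 50 []) = true := trf_r50

theorem trf_r51 : allB NB frl_r51 = true := by
  apply allB_iff.2
  intro a ha
  have ha' : a < 61776 := ha
  rcases Nat.lt_or_ge a 5000 with h0 | h0
  · exact allB_range (f := frl_r51) (lo := 0) (len := 5000) trc_r51_0 (by omega) (by omega)
  rcases Nat.lt_or_ge a 10000 with h1 | h1
  · exact allB_range (f := frl_r51) (lo := 5000) (len := 5000) trc_r51_1 (by omega) (by omega)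
  rcases Nat.lt_or_ge a 15000 with h2 | h2
  · exact allB_range (f := frl_r51) (lo := 10000) (len := 5000) trc_r51_2 (by omega) (by omega)
  rcases Nat.lt_or_ge a 20000 with h3 | h3
  · exact allB_range (f := frl_r51) (lo := 15000) (len := 5000) trc_r51_3 (by omega) (by omega)
  rcases Nat.lt_or_ge a 25000 with h4 | h4
  · exact allB_range (f := frl_r51) (lo := 20000) (len := 5000) trc_r51_4 (by omega) (by omega)
  rcases Nat.lt_or_ge a 30000 with h5 | h5
  · exact allB_range (f := frl_r51) (lo := 25000) (len := 5000) trc_r51_5 (by omega) (by omega)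
  rcases Nat.lt_or_ge a 35000 with h6 | h6
  · exact allB_range (f := frl_r51) (lo := 30000) (len := 5000) trc_r51_6 (by omega) (by omega)
  rcases Nat.lt_or_ge a 40000 with h7 | h7
  · exact allB_range (f := frl_r51) (lo := 35000) (len := 5000) trc_r51_7 (by omega) (by omega)
  rcases Nat.lt_or_ge a 45000 with h8 | h8
  · exact allB_range (f := frl_r51) (lo := 40000) (len := 5000) trc_r51_8 (by omega) (by omega)
  rcases Nat.lt_or_ge a 50000 with h9 | h9
  · exact allB_range (f := frl_r51) (lo := 45000) (len := 5000) trc_r51_9 (by omega) (by omega)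
  rcases Nat.lt_or_ge a 55000 with h10 | h10
  · exact allB_range (f := frl_r51) (lo := 50000) (len := 5000) trc_r51_10 (by omega) (by omega)
  rcases Nat.lt_or_ge a 60000 with h11 | h11
  · exact allB_range (f := frl_r51) (lo := 55000) (len := 5000) trc_r51_11 (by omega) (by omega)
  exact allB_range (f := frl_r51) (lo := 60000) (len := 1776) trc_r51_12 (by omega) (by omega)

theorem rel_r51 : relT tbF 0 (relWords.getD 51 []) = true := trf_r51

theorem trf_r52 : allB NB frl_r52 = true := by
  apply allB_iff.2
  intro a ha
  have ha' : a < 61776 := ha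
  rcases Nat.lt_or_ge a 7500 with h0 | h0
  · exact allB_range (f := frl_r52) (lo := 0) (len := 7500) trc_r52_0 (by omega) (by omega)
  rcases Nat.lt_or_ge a 15000 with h1 | h1
  · exact allB_range (f := frl_r52) (lo := 7500) (len := 7500) trc_r52_1 (by omega) (by omega)
  rcases Nat.lt_or_ge a 22500 with h2 | h2
  · exact allB_range (f := frl_r52) (lo := 15000) (len := 7500) trc_r52_2 (by omega) (by omega)
  rcases Nat.lt_or_ge a 30000 with h3 | h3
  · exact allB_range (f := frl_r52) (lo := 22500) (len := 7500) trc_r52_3 (by omega) (by omega)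
  rcases Nat.lt_or_ge a 37500 with h4 | h4
  · exact allB_range (f := frl_r52) (lo := 30000) (len := 7500) trc_r52_4 (by omega) (by omega)
  rcases Nat.lt_or_ge a 45000 with h5 | h5
  · exact allB_range (f := frl_r52) (lo := 37500) (len := 7500) trc_r52_5 (by omega) (by omega)
  rcases Nat.lt_or_ge a 52500 with h6 | h6
  · exact allB_range (f := frl_r52) (lo := 45000) (len := 7500) trc_r52_6 (by omega) (by omega)
  rcases Nat.lt_or_ge a 60000 with h7 | h7
  · exact allB_range (f := frl_r52) (lo := 52500) (len := 7500) trc_r52_7 (by omega) (by omega)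
  exact allB_range (f := frl_r52) (lo := 60000) (len := 1776) trc_r52_8 (by omega) (by omega)

theorem rel_r52 : relT tbF 0 (relWords.getD 52 []) = true := trf_r52

theorem trf_r53 : allB NB frl_r53 = true := by
  apply allB_iff.2
  intro a ha
  have ha' : a < 61776 := ha
  rcases Nat.lt_or_ge a 7500 with h0 | h0
  · exact allB_range (f := frl_r53) (lo := 0) (len := 7500) trc_r53_0 (by omega) (by omega)
  rcases Nat.lt_or_ge a 15000 with h1 | h1
  · exact allB_range (f := frl_r53) (lo := 7500) (len := 7500) trc_r53_1 (by omega) (by omega)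
  rcases Nat.lt_or_ge a 22500 with h2 | h2
  · exact allB_range (f := frl_r53) (lo := 15000) (len := 7500) trc_r53_2 (by omega) (by omega)
  rcases Nat.lt_or_ge a 30000 with h3 | h3
  · exact allB_range (f := frl_r53) (lo := 22500) (len := 7500) trc_r53_3 (by omega) (by omega)
  rcases Nat.lt_or_ge a 37500 with h4 | h4
  · exact allB_range (f := frl_r53) (lo := 30000) (len := 7500) trc_r53_4 (by omega) (by omega)
  rcases Nat.lt_or_ge a 45000 with h5 | h5
  · exact allB_range (f := frl_r53) (lo := 37500) (len := 7500) trc_r53_5 (by omega) (by omega)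
  rcases Nat.lt_or_ge a 52500 with h6 | h6
  · exact allB_range (f := frl_r53) (lo := 45000) (len := 7500) trc_r53_6 (by omega) (by omega)
  rcases Nat.lt_or_ge a 60000 with h7 | h7
  · exact allB_range (f := frl_r53) (lo := 52500) (len := 7500) trc_r53_7 (by omega) (by omega)
  exact allB_range (f := frl_r53) (lo := 60000) (len := 1776) trc_r53_8 (by omega) (by omega)

theorem rel_r53 : relT tbF 0 (relWords.getD 53 []) = true := trf_r53

theorem trf_r54 : allB NB frl_r54 = true := by
  apply allB_iff.2
  intro a ha
  have ha' : a < 61776 := ha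
  rcases Nat.lt_or_ge a 7500 with h0 | h0
  · exact allB_range (f := frl_r54) (lo := 0) (len := 7500) trc_r54_0 (by omega) (by omega)
  rcases Nat.lt_or_ge a 15000 with h1 | h1
  · exact allB_range (f := frl_r54) (lo := 7500) (len := 7500) trc_r54_1 (by omega) (by omega)
  rcases Nat.lt_or_ge a 22500 with h2 | h2
  · exact allB_range (f := frl_r54) (lo := 15000) (len := 7500) trc_r54_2 (by omega) (by omega)
  rcases Nat.lt_or_ge a 30000 with h3 | h3
  · exact allB_range (f := frl_r54) (lo := 22500) (len := 7500) trc_r54_3 (by omega) (by omega)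
  rcases Nat.lt_or_ge a 37500 with h4 | h4
  · exact allB_range (f := frl_r54) (lo := 30000) (len := 7500) trc_r54_4 (by omega) (by omega)
  rcases Nat.lt_or_ge a 45000 with h5 | h5
  · exact allB_range (f := frl_r54) (lo := 37500) (len := 7500) trc_r54_5 (by omega) (by omega)
  rcases Nat.lt_or_ge a 52500 with h6 | h6
  · exact allB_range (f := frl_r54) (lo := 45000) (len := 7500) trc_r54_6 (by omega) (by omega)
  rcases Nat.lt_or_ge a 60000 with h7 | h7
  · exact allB_range (f := frl_r54) (lo := 52500) (len := 7500) trc_r54_7 (by omega) (by omega)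
  exact allB_range (f := frl_r54) (lo := 60000) (len := 1776) trc_r54_8 (by omega) (by omega)

theorem rel_r54 : relT tbF 0 (relWords.getD 54 []) = true := trf_r54

theorem trf_r55 : allB NB frl_r55 = true := by
  apply allB_iff.2
  intro a ha
  have ha' : a < 61776 := ha
  rcases Nat.lt_or_ge a 7500 with h0 | h0
  · exact allB_range (f := frl_r55) (lo := 0) (len := 7500) trc_r55_0 (by omega) (by omega)
  rcases Nat.lt_or_ge a 15000 with h1 | h1
  · exact allB_range (f := frl_r55) (lo := 7500) (len := 7500) trc_r55_1 (by omega) (by omega)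
  rcases Nat.lt_or_ge a 22500 with h2 | h2
  · exact allB_range (f := frl_r55) (lo := 15000) (len := 7500) trc_r55_2 (by omega) (by omega)
  rcases Nat.lt_or_ge a 30000 with h3 | h3
  · exact allB_range (f := frl_r55) (lo := 22500) (len := 7500) trc_r55_3 (by omega) (by omega)
  rcases Nat.lt_or_ge a 37500 with h4 | h4
  · exact allB_range (f := frl_r55) (lo := 30000) (len := 7500) trc_r55_4 (by omega) (by omega)
  rcases Nat.lt_or_ge a 45000 with h5 | h5
  · exact allB_range (f := frl_r55) (lo := 37500) (len := 7500) trc_r55_5 (by omega) (by omega)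
  rcases Nat.lt_or_ge a 52500 with h6 | h6
  · exact allB_range (f := frl_r55) (lo := 45000) (len := 7500) trc_r55_6 (by omega) (by omega)
  rcases Nat.lt_or_ge a 60000 with h7 | h7
  · exact allB_range (f := frl_r55) (lo := 52500) (len := 7500) trc_r55_7 (by omega) (by omega)
  exact allB_range (f := frl_r55) (lo := 60000) (len := 1776) trc_r55_8 (by omega) (by omega)

theorem rel_r55 : relT tbF 0 (relWords.getD 55 []) = true := trf_r55

theorem trf_r56 : allB NB frl_r56 = true := by
  apply allB_iff.2
  intro a ha
  have ha' : a < 61776 := ha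
  rcases Nat.lt_or_ge a 7500 with h0 | h0
  · exact allB_range (f := frl_r56) (lo := 0) (len := 7500) trc_r56_0 (by omega) (by omega)
  rcases Nat.lt_or_ge a 15000 with h1 | h1
  · exact allB_range (f := frl_r56) (lo := 7500) (len := 7500) trc_r56_1 (by omega) (by omega)
  rcases Nat.lt_or_ge a 22500 with h2 | h2
  · exact allB_range (f := frl_r56) (lo := 15000) (len := 7500) trc_r56_2 (by omega) (by omega)
  rcases Nat.lt_or_ge a 30000 with h3 | h3
  · exact allB_range (f := frl_r56) (lo := 22500) (len := 7500) trc_r56_3 (by omega) (by omega)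
  rcases Nat.lt_or_ge a 37500 with h4 | h4
  · exact allB_range (f := frl_r56) (lo := 30000) (len := 7500) trc_r56_4 (by omega) (by omega)
  rcases Nat.lt_or_ge a 45000 with h5 | h5
  · exact allB_range (f := frl_r56) (lo := 37500) (len := 7500) trc_r56_5 (by omega) (by omega)
  rcases Nat.lt_or_ge a 52500 with h6 | h6
  · exact allB_range (f := frl_r56) (lo := 45000) (len := 7500) trc_r56_6 (by omega) (by omega)
  rcases Nat.lt_or_ge a 60000 with h7 | h7
  · exact allB_range (f := frl_r56) (lo := 52500) (len := 7500) trc_r56_7 (by omega) (by omega)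
  exact allB_range (f := frl_r56) (lo := 60000) (len := 1776) trc_r56_8 (by omega) (by omega)

theorem rel_r56 : relT tbF 0 (relWords.getD 56 []) = true := trf_r56

theorem trf_r57 : allB NB frl_r57 = true := by
  apply allB_iff.2
  intro a ha
  have ha' : a < 61776 := ha
  rcases Nat.lt_or_ge a 7500 with h0 | h0
  · exact allB_range (f := frl_r57) (lo := 0) (len := 7500) trc_r57_0 (by omega) (by omega)
  rcases Nat.lt_or_ge a 15000 with h1 | h1
  · exact allB_range (f := frl_r57) (lo := 7500) (len := 7500) trc_r57_1 (by omega) (by omega)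
  rcases Nat.lt_or_ge a 22500 with h2 | h2
  · exact allB_range (f := frl_r57) (lo := 15000) (len := 7500) trc_r57_2 (by omega) (by omega)
  rcases Nat.lt_or_ge a 30000 with h3 | h3
  · exact allB_range (f := frl_r57) (lo := 22500) (len := 7500) trc_r57_3 (by omega) (by omega)
  rcases Nat.lt_or_ge a 37500 with h4 | h4
  · exact allB_range (f := frl_r57) (lo := 30000) (len := 7500) trc_r57_4 (by omega) (by omega)
  rcases Nat.lt_or_ge a 45000 with h5 | h5
  · exact allB_range (f := frl_r57) (lo := 37500) (len := 7500) trc_r57_5 (by omega) (by omega)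
  rcases Nat.lt_or_ge a 52500 with h6 | h6
  · exact allB_range (f := frl_r57) (lo := 45000) (len := 7500) trc_r57_6 (by omega) (by omega)
  rcases Nat.lt_or_ge a 60000 with h7 | h7
  · exact allB_range (f := frl_r57) (lo := 52500) (len := 7500) trc_r57_7 (by omega) (by omega)
  exact allB_range (f := frl_r57) (lo := 60000) (len := 1776) trc_r57_8 (by omega) (by omega)

theorem rel_r57 : relT tbF 0 (relWords.getD 57 []) = true := trf_r57

theorem trf_r58 : allB NB frl_r58 = true := by
  apply allB_iff.2
  intro a ha
  have ha' : a < 61776 := ha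
  rcases Nat.lt_or_ge a 7500 with h0 | h0
  · exact allB_range (f := frl_r58) (lo := 0) (len := 7500) trc_r58_0 (by omega) (by omega)
  rcases Nat.lt_or_ge a 15000 with h1 | h1
  · exact allB_range (f := frl_r58) (lo := 7500) (len := 7500) trc_r58_1 (by omega) (by omega)
  rcases Nat.lt_or_ge a 22500 with h2 | h2
  · exact allB_range (f := frl_r58) (lo := 15000) (len := 7500) trc_r58_2 (by omega) (by omega)
  rcases Nat.lt_or_ge a 30000 with h3 | h3
  · exact allB_range (f := frl_r58) (lo := 22500) (len := 7500) trc_r58_3 (by omega) (by omega)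
  rcases Nat.lt_or_ge a 37500 with h4 | h4
  · exact allB_range (f := frl_r58) (lo := 30000) (len := 7500) trc_r58_4 (by omega) (by omega)
  rcases Nat.lt_or_ge a 45000 with h5 | h5
  · exact allB_range (f := frl_r58) (lo := 37500) (len := 7500) trc_r58_5 (by omega) (by omega)
  rcases Nat.lt_or_ge a 52500 with h6 | h6
  · exact allB_range (f := frl_r58) (lo := 45000) (len := 7500) trc_r58_6 (by omega) (by omega)
  rcases Nat.lt_or_ge a 60000 with h7 | h7
  · exact allB_range (f := frl_r58) (lo := 52500) (len := 7500) trc_r58_7 (by omega) (by omega)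
  exact allB_range (f := frl_r58) (lo := 60000) (len := 1776) trc_r58_8 (by omega) (by omega)

theorem rel_r58 : relT tbF 0 (relWords.getD 58 []) = true := trf_r58

theorem trf_r59 : allB NB frl_r59 = true := by
  apply allB_iff.2
  intro a ha
  have ha' : a < 61776 := ha
  rcases Nat.lt_or_ge a 5000 with h0 | h0
  · exact allB_range (f := frl_r59) (lo := 0) (len := 5000) trc_r59_0 (by omega) (by omega)
  rcases Nat.lt_or_ge a 10000 with h1 | h1
  · exact allB_range (f := frl_r59) (lo := 5000) (len := 5000) trc_r59_1 (by omega) (by omega)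
  rcases Nat.lt_or_ge a 15000 with h2 | h2
  · exact allB_range (f := frl_r59) (lo := 10000) (len := 5000) trc_r59_2 (by omega) (by omega)
  rcases Nat.lt_or_ge a 20000 with h3 | h3
  · exact allB_range (f := frl_r59) (lo := 15000) (len := 5000) trc_r59_3 (by omega) (by omega)
  rcases Nat.lt_or_ge a 25000 with h4 | h4
  · exact allB_range (f := frl_r59) (lo := 20000) (len := 5000) trc_r59_4 (by omega) (by omega)
  rcases Nat.lt_or_ge a 30000 with h5 | h5
  · exact allB_range (f := frl_r59) (lo := 25000) (len := 5000) trc_r59_5 (by omega) (by omega)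
  rcases Nat.lt_or_ge a 35000 with h6 | h6
  · exact allB_range (f := frl_r59) (lo := 30000) (len := 5000) trc_r59_6 (by omega) (by omega)
  rcases Nat.lt_or_ge a 40000 with h7 | h7
  · exact allB_range (f := frl_r59) (lo := 35000) (len := 5000) trc_r59_7 (by omega) (by omega)
  rcases Nat.lt_or_ge a 45000 with h8 | h8
  · exact allB_range (f := frl_r59) (lo := 40000) (len := 5000) trc_r59_8 (by omega) (by omega)
  rcases Nat.lt_or_ge a 50000 with h9 | h9
  · exact allB_range (f := frl_r59) (lo := 45000) (len := 5000) trc_r59_9 (by omega) (by omega)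
  rcases Nat.lt_or_ge a 55000 with h10 | h10
  · exact allB_range (f := frl_r59) (lo := 50000) (len := 5000) trc_r59_10 (by omega) (by omega)
  rcases Nat.lt_or_ge a 60000 with h11 | h11
  · exact allB_range (f := frl_r59) (lo := 55000) (len := 5000) trc_r59_11 (by omega) (by omega)
  exact allB_range (f := frl_r59) (lo := 60000) (len := 1776) trc_r59_12 (by omega) (by omega)

theorem rel_r59 : relT tbF 0 (relWords.getD 59 []) = true := trf_r59

theorem trf_r60 : allB NB frl_r60 = true := by
  apply allB_iff.2
  intro a ha
  have ha' : a < 61776 := ha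
  rcases Nat.lt_or_ge a 15000 with h0 | h0
  · exact allB_range (f := frl_r60) (lo := 0) (len := 15000) trc_r60_0 (by omega) (by omega)
  rcases Nat.lt_or_ge a 30000 with h1 | h1
  · exact allB_range (f := frl_r60) (lo := 15000) (len := 15000) trc_r60_1 (by omega) (by omega)
  rcases Nat.lt_or_ge a 45000 with h2 | h2
  · exact allB_range (f := frl_r60) (lo := 30000) (len := 15000) trc_r60_2 (by omega) (by omega)
  rcases Nat.lt_or_ge a 60000 with h3 | h3
  · exact allB_range (f := frl_r60) (lo := 45000) (len := 15000) trc_r60_3 (by omega) (by omega)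
  exact allB_range (f := frl_r60) (lo := 60000) (len := 1776) trc_r60_4 (by omega) (by omega)

theorem rel_r60 : relT tbF 0 (relWords.getD 60 []) = true := trf_r60

theorem trf_r61 : allB NB frl_r61 = true := by
  apply allB_iff.2
  intro a ha
  have ha' : a < 61776 := ha
  rcases Nat.lt_or_ge a 7500 with h0 | h0
  · exact allB_range (f := frl_r61) (lo := 0) (len := 7500) trc_r61_0 (by omega) (by omega)
  rcases Nat.lt_or_ge a 15000 with h1 | h1
  · exact allB_range (f := frl_r61) (lo := 7500) (len := 7500) trc_r61_1 (by omega) (by omega)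
  rcases Nat.lt_or_ge a 22500 with h2 | h2
  · exact allB_range (f := frl_r61) (lo := 15000) (len := 7500) trc_r61_2 (by omega) (by omega)
  rcases Nat.lt_or_ge a 30000 with h3 | h3
  · exact allB_range (f := frl_r61) (lo := 22500) (len := 7500) trc_r61_3 (by omega) (by omega)
  rcases Nat.lt_or_ge a 37500 with h4 | h4
  · exact allB_range (f := frl_r61) (lo := 30000) (len := 7500) trc_r61_4 (by omega) (by omega)
  rcases Nat.lt_or_ge a 45000 with h5 | h5
  · exact allB_range (f := frl_r61) (lo := 37500) (len := 7500) trc_r61_5 (by omega) (by omega)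
  rcases Nat.lt_or_ge a 52500 with h6 | h6
  · exact allB_range (f := frl_r61) (lo := 45000) (len := 7500) trc_r61_6 (by omega) (by omega)
  rcases Nat.lt_or_ge a 60000 with h7 | h7
  · exact allB_range (f := frl_r61) (lo := 52500) (len := 7500) trc_r61_7 (by omega) (by omega)
  exact allB_range (f := frl_r61) (lo := 60000) (len := 1776) trc_r61_8 (by omega) (by omega)

theorem rel_r61 : relT tbF 0 (relWords.getD 61 []) = true := trf_r61

theorem trf_r62 : allB NB frl_r62 = true := by
  apply allB_iff.2
  intro a ha
  have ha' : a < 61776 := ha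
  rcases Nat.lt_or_ge a 7500 with h0 | h0
  · exact allB_range (f := frl_r62) (lo := 0) (len := 7500) trc_r62_0 (by omega) (by omega)
  rcases Nat.lt_or_ge a 15000 with h1 | h1
  · exact allB_range (f := frl_r62) (lo := 7500) (len := 7500) trc_r62_1 (by omega) (by omega)
  rcases Nat.lt_or_ge a 22500 with h2 | h2
  · exact allB_range (f := frl_r62) (lo := 15000) (len := 7500) trc_r62_2 (by omega) (by omega)
  rcases Nat.lt_or_ge a 30000 with h3 | h3
  · exact allB_range (f := frl_r62) (lo := 22500) (len := 7500) trc_r62_3 (by omega) (by omega)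
  rcases Nat.lt_or_ge a 37500 with h4 | h4
  · exact allB_range (f := frl_r62) (lo := 30000) (len := 7500) trc_r62_4 (by omega) (by omega)
  rcases Nat.lt_or_ge a 45000 with h5 | h5
  · exact allB_range (f := frl_r62) (lo := 37500) (len := 7500) trc_r62_5 (by omega) (by omega)
  rcases Nat.lt_or_ge a 52500 with h6 | h6
  · exact allB_range (f := frl_r62) (lo := 45000) (len := 7500) trc_r62_6 (by omega) (by omega)
  rcases Nat.lt_or_ge a 60000 with h7 | h7
  · exact allB_range (f := frl_r62) (lo := 52500) (len := 7500) trc_r62_7 (by omega) (by omega)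
  exact allB_range (f := frl_r62) (lo := 60000) (len := 1776) trc_r62_8 (by omega) (by omega)

theorem rel_r62 : relT tbF 0 (relWords.getD 62 []) = true := trf_r62

theorem trf_r63 : allB NB frl_r63 = true := by
  apply allB_iff.2
  intro a ha
  have ha' : a < 61776 := ha
  rcases Nat.lt_or_ge a 7500 with h0 | h0
  · exact allB_range (f := frl_r63) (lo := 0) (len := 7500) trc_r63_0 (by omega) (by omega)
  rcases Nat.lt_or_ge a 15000 with h1 | h1
  · exact allB_range (f := frl_r63) (lo := 7500) (len := 7500) trc_r63_1 (by omega) (by omega)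
  rcases Nat.lt_or_ge a 22500 with h2 | h2
  · exact allB_range (f := frl_r63) (lo := 15000) (len := 7500) trc_r63_2 (by omega) (by omega)
  rcases Nat.lt_or_ge a 30000 with h3 | h3
  · exact allB_range (f := frl_r63) (lo := 22500) (len := 7500) trc_r63_3 (by omega) (by omega)
  rcases Nat.lt_or_ge a 37500 with h4 | h4
  · exact allB_range (f := frl_r63) (lo := 30000) (len := 7500) trc_r63_4 (by omega) (by omega)
  rcases Nat.lt_or_ge a 45000 with h5 | h5
  · exact allB_range (f := frl_r63) (lo := 37500) (len := 7500) trc_r63_5 (by omega) (by omega)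
  rcases Nat.lt_or_ge a 52500 with h6 | h6
  · exact allB_range (f := frl_r63) (lo := 45000) (len := 7500) trc_r63_6 (by omega) (by omega)
  rcases Nat.lt_or_ge a 60000 with h7 | h7
  · exact allB_range (f := frl_r63) (lo := 52500) (len := 7500) trc_r63_7 (by omega) (by omega)
  exact allB_range (f := frl_r63) (lo := 60000) (len := 1776) trc_r63_8 (by omega) (by omega)

theorem rel_r63 : relT tbF 0 (relWords.getD 63 []) = true := trf_r63

theorem trf_r64 : allB NB frl_r64 = true := by
  apply allB_iff.2
  intro a ha
  have ha' : a < 61776 := ha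
  rcases Nat.lt_or_ge a 7500 with h0 | h0
  · exact allB_range (f := frl_r64) (lo := 0) (len := 7500) trc_r64_0 (by omega) (by omega)
  rcases Nat.lt_or_ge a 15000 with h1 | h1
  · exact allB_range (f := frl_r64) (lo := 7500) (len := 7500) trc_r64_1 (by omega) (by omega)
  rcases Nat.lt_or_ge a 22500 with h2 | h2
  · exact allB_range (f := frl_r64) (lo := 15000) (len := 7500) trc_r64_2 (by omega) (by omega)
  rcases Nat.lt_or_ge a 30000 with h3 | h3
  · exact allB_range (f := frl_r64) (lo := 22500) (len := 7500) trc_r64_3 (by omega) (by omega)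
  rcases Nat.lt_or_ge a 37500 with h4 | h4
  · exact allB_range (f := frl_r64) (lo := 30000) (len := 7500) trc_r64_4 (by omega) (by omega)
  rcases Nat.lt_or_ge a 45000 with h5 | h5
  · exact allB_range (f := frl_r64) (lo := 37500) (len := 7500) trc_r64_5 (by omega) (by omega)
  rcases Nat.lt_or_ge a 52500 with h6 | h6
  · exact allB_range (f := frl_r64) (lo := 45000) (len := 7500) trc_r64_6 (by omega) (by omega)
  rcases Nat.lt_or_ge a 60000 with h7 | h7
  · exact allB_range (f := frl_r64) (lo := 52500) (len := 7500) trc_r64_7 (by omega) (by omega)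
  exact allB_range (f := frl_r64) (lo := 60000) (len := 1776) trc_r64_8 (by omega) (by omega)

theorem rel_r64 : relT tbF 0 (relWords.getD 64 []) = true := trf_r64

theorem trf_r65 : allB NB frl_r65 = true := by
  apply allB_iff.2
  intro a ha
  have ha' : a < 61776 := ha
  rcases Nat.lt_or_ge a 7500 with h0 | h0
  · exact allB_range (f := frl_r65) (lo := 0) (len := 7500) trc_r65_0 (by omega) (by omega)
  rcases Nat.lt_or_ge a 15000 with h1 | h1
  · exact allB_range (f := frl_r65) (lo := 7500) (len := 7500) trc_r65_1 (by omega) (by omega)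
  rcases Nat.lt_or_ge a 22500 with h2 | h2
  · exact allB_range (f := frl_r65) (lo := 15000) (len := 7500) trc_r65_2 (by omega) (by omega)
  rcases Nat.lt_or_ge a 30000 with h3 | h3
  · exact allB_range (f := frl_r65) (lo := 22500) (len := 7500) trc_r65_3 (by omega) (by omega)
  rcases Nat.lt_or_ge a 37500 with h4 | h4
  · exact allB_range (f := frl_r65) (lo := 30000) (len := 7500) trc_r65_4 (by omega) (by omega)
  rcases Nat.lt_or_ge a 45000 with h5 | h5
  · exact allB_range (f := frl_r65) (lo := 37500) (len := 7500) trc_r65_5 (by omega) (by omega)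
  rcases Nat.lt_or_ge a 52500 with h6 | h6
  · exact allB_range (f := frl_r65) (lo := 45000) (len := 7500) trc_r65_6 (by omega) (by omega)
  rcases Nat.lt_or_ge a 60000 with h7 | h7
  · exact allB_range (f := frl_r65) (lo := 52500) (len := 7500) trc_r65_7 (by omega) (by omega)
  exact allB_range (f := frl_r65) (lo := 60000) (len := 1776) trc_r65_8 (by omega) (by omega)

theorem rel_r65 : relT tbF 0 (relWords.getD 65 []) = true := trf_r65

theorem trf_r66 : allB NB frl_r66 = true := by
  apply allB_iff.2
  intro a ha
  have ha' : a < 61776 := ha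
  rcases Nat.lt_or_ge a 5000 with h0 | h0
  · exact allB_range (f := frl_r66) (lo := 0) (len := 5000) trc_r66_0 (by omega) (by omega)
  rcases Nat.lt_or_ge a 10000 with h1 | h1
  · exact allB_range (f := frl_r66) (lo := 5000) (len := 5000) trc_r66_1 (by omega) (by omega)
  rcases Nat.lt_or_ge a 15000 with h2 | h2
  · exact allB_range (f := frl_r66) (lo := 10000) (len := 5000) trc_r66_2 (by omega) (by omega)
  rcases Nat.lt_or_ge a 20000 with h3 | h3
  · exact allB_range (f := frl_r66) (lo := 15000) (len := 5000) trc_r66_3 (by omega) (by omega)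
  rcases Nat.lt_or_ge a 25000 with h4 | h4
  · exact allB_range (f := frl_r66) (lo := 20000) (len := 5000) trc_r66_4 (by omega) (by omega)
  rcases Nat.lt_or_ge a 30000 with h5 | h5
  · exact allB_range (f := frl_r66) (lo := 25000) (len := 5000) trc_r66_5 (by omega) (by omega)
  rcases Nat.lt_or_ge a 35000 with h6 | h6
  · exact allB_range (f := frl_r66) (lo := 30000) (len := 5000) trc_r66_6 (by omega) (by omega)
  rcases Nat.lt_or_ge a 40000 with h7 | h7
  · exact allB_range (f := frl_r66) (lo := 35000) (len := 5000) trc_r66_7 (by omega) (by omega)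
  rcases Nat.lt_or_ge a 45000 with h8 | h8
  · exact allB_range (f := frl_r66) (lo := 40000) (len := 5000) trc_r66_8 (by omega) (by omega)
  rcases Nat.lt_or_ge a 50000 with h9 | h9
  · exact allB_range (f := frl_r66) (lo := 45000) (len := 5000) trc_r66_9 (by omega) (by omega)
  rcases Nat.lt_or_ge a 55000 with h10 | h10
  · exact allB_range (f := frl_r66) (lo := 50000) (len := 5000) trc_r66_10 (by omega) (by omega)
  rcases Nat.lt_or_ge a 60000 with h11 | h11
  · exact allB_range (f := frl_r66) (lo := 55000) (len := 5000) trc_r66_11 (by omega) (by omega)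
  exact allB_range (f := frl_r66) (lo := 60000) (len := 1776) trc_r66_12 (by omega) (by omega)

theorem rel_r66 : relT tbF 0 (relWords.getD 66 []) = true := trf_r66

theorem trf_r67 : allB NB frl_r67 = true := by
  apply allB_iff.2
  intro a ha
  have ha' : a < 61776 := ha
  rcases Nat.lt_or_ge a 7500 with h0 | h0
  · exact allB_range (f := frl_r67) (lo := 0) (len := 7500) trc_r67_0 (by omega) (by omega)
  rcases Nat.lt_or_ge a 15000 with h1 | h1
  · exact allB_range (f := frl_r67) (lo := 7500) (len := 7500) trc_r67_1 (by omega) (by omega)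
  rcases Nat.lt_or_ge a 22500 with h2 | h2
  · exact allB_range (f := frl_r67) (lo := 15000) (len := 7500) trc_r67_2 (by omega) (by omega)
  rcases Nat.lt_or_ge a 30000 with h3 | h3
  · exact allB_range (f := frl_r67) (lo := 22500) (len := 7500) trc_r67_3 (by omega) (by omega)
  rcases Nat.lt_or_ge a 37500 with h4 | h4
  · exact allB_range (f := frl_r67) (lo := 30000) (len := 7500) trc_r67_4 (by omega) (by omega)
  rcases Nat.lt_or_ge a 45000 with h5 | h5
  · exact allB_range (f := frl_r67) (lo := 37500) (len := 7500) trc_r67_5 (by omega) (by omega)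
  rcases Nat.lt_or_ge a 52500 with h6 | h6
  · exact allB_range (f := frl_r67) (lo := 45000) (len := 7500) trc_r67_6 (by omega) (by omega)
  rcases Nat.lt_or_ge a 60000 with h7 | h7
  · exact allB_range (f := frl_r67) (lo := 52500) (len := 7500) trc_r67_7 (by omega) (by omega)
  exact allB_range (f := frl_r67) (lo := 60000) (len := 1776) trc_r67_8 (by omega) (by omega)

theorem rel_r67 : relT tbF 0 (relWords.getD 67 []) = true := trf_r67

theorem trf_r68 : allB NB frl_r68 = true := by
  apply allB_iff.2
  intro a ha
  have ha' : a < 61776 := ha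
  rcases Nat.lt_or_ge a 7500 with h0 | h0
  · exact allB_range (f := frl_r68) (lo := 0) (len := 7500) trc_r68_0 (by omega) (by omega)
  rcases Nat.lt_or_ge a 15000 with h1 | h1
  · exact allB_range (f := frl_r68) (lo := 7500) (len := 7500) trc_r68_1 (by omega) (by omega)
  rcases Nat.lt_or_ge a 22500 with h2 | h2
  · exact allB_range (f := frl_r68) (lo := 15000) (len := 7500) trc_r68_2 (by omega) (by omega)
  rcases Nat.lt_or_ge a 30000 with h3 | h3
  · exact allB_range (f := frl_r68) (lo := 22500) (len := 7500) trc_r68_3 (by omega) (by omega)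
  rcases Nat.lt_or_ge a 37500 with h4 | h4
  · exact allB_range (f := frl_r68) (lo := 30000) (len := 7500) trc_r68_4 (by omega) (by omega)
  rcases Nat.lt_or_ge a 45000 with h5 | h5
  · exact allB_range (f := frl_r68) (lo := 37500) (len := 7500) trc_r68_5 (by omega) (by omega)
  rcases Nat.lt_or_ge a 52500 with h6 | h6
  · exact allB_range (f := frl_r68) (lo := 45000) (len := 7500) trc_r68_6 (by omega) (by omega)
  rcases Nat.lt_or_ge a 60000 with h7 | h7
  · exact allB_range (f := frl_r68) (lo := 52500) (len := 7500) trc_r68_7 (by omega) (by omega)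
  exact allB_range (f := frl_r68) (lo := 60000) (len := 1776) trc_r68_8 (by omega) (by omega)

theorem rel_r68 : relT tbF 0 (relWords.getD 68 []) = true := trf_r68

theorem trf_r69 : allB NB frl_r69 = true := by
  apply allB_iff.2
  intro a ha
  have ha' : a < 61776 := ha
  rcases Nat.lt_or_ge a 7500 with h0 | h0
  · exact allB_range (f := frl_r69) (lo := 0) (len := 7500) trc_r69_0 (by omega) (by omega)
  rcases Nat.lt_or_ge a 15000 with h1 | h1
  · exact allB_range (f := frl_r69) (lo := 7500) (len := 7500) trc_r69_1 (by omega) (by omega)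
  rcases Nat.lt_or_ge a 22500 with h2 | h2
  · exact allB_range (f := frl_r69) (lo := 15000) (len := 7500) trc_r69_2 (by omega) (by omega)
  rcases Nat.lt_or_ge a 30000 with h3 | h3
  · exact allB_range (f := frl_r69) (lo := 22500) (len := 7500) trc_r69_3 (by omega) (by omega)
  rcases Nat.lt_or_ge a 37500 with h4 | h4
  · exact allB_range (f := frl_r69) (lo := 30000) (len := 7500) trc_r69_4 (by omega) (by omega)
  rcases Nat.lt_or_ge a 45000 with h5 | h5
  · exact allB_range (f := frl_r69) (lo := 37500) (len := 7500) trc_r69_5 (by omega) (by omega)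
  rcases Nat.lt_or_ge a 52500 with h6 | h6
  · exact allB_range (f := frl_r69) (lo := 45000) (len := 7500) trc_r69_6 (by omega) (by omega)
  rcases Nat.lt_or_ge a 60000 with h7 | h7
  · exact allB_range (f := frl_r69) (lo := 52500) (len := 7500) trc_r69_7 (by omega) (by omega)
  exact allB_range (f := frl_r69) (lo := 60000) (len := 1776) trc_r69_8 (by omega) (by omega)

theorem rel_r69 : relT tbF 0 (relWords.getD 69 []) = true := trf_r69

theorem trf_r70 : allB NB frl_r70 = true := by
  apply allB_iff.2
  intro a ha
  have ha' : a < 61776 := ha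
  rcases Nat.lt_or_ge a 15000 with h0 | h0
  · exact allB_range (f := frl_r70) (lo := 0) (len := 15000) trc_r70_0 (by omega) (by omega)
  rcases Nat.lt_or_ge a 30000 with h1 | h1
  · exact allB_range (f := frl_r70) (lo := 15000) (len := 15000) trc_r70_1 (by omega) (by omega)
  rcases Nat.lt_or_ge a 45000 with h2 | h2
  · exact allB_range (f := frl_r70) (lo := 30000) (len := 15000) trc_r70_2 (by omega) (by omega)
  rcases Nat.lt_or_ge a 60000 with h3 | h3
  · exact allB_range (f := frl_r70) (lo := 45000) (len := 15000) trc_r70_3 (by omega) (by omega)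
  exact allB_range (f := frl_r70) (lo := 60000) (len := 1776) trc_r70_4 (by omega) (by omega)

theorem rel_r70 : relT tbF 0 (relWords.getD 70 []) = true := trf_r70

theorem trf_r71 : allB NB frl_r71 = true := by
  apply allB_iff.2
  intro a ha
  have ha' : a < 61776 := ha
  rcases Nat.lt_or_ge a 5000 with h0 | h0
  · exact allB_range (f := frl_r71) (lo := 0) (len := 5000) trc_r71_0 (by omega) (by omega)
  rcases Nat.lt_or_ge a 10000 with h1 | h1
  · exact allB_range (f := frl_r71) (lo := 5000) (len := 5000) trc_r71_1 (by omega) (by omega)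
  rcases Nat.lt_or_ge a 15000 with h2 | h2
  · exact allB_range (f := frl_r71) (lo := 10000) (len := 5000) trc_r71_2 (by omega) (by omega)
  rcases Nat.lt_or_ge a 20000 with h3 | h3
  · exact allB_range (f := frl_r71) (lo := 15000) (len := 5000) trc_r71_3 (by omega) (by omega)
  rcases Nat.lt_or_ge a 25000 with h4 | h4
  · exact allB_range (f := frl_r71) (lo := 20000) (len := 5000) trc_r71_4 (by omega) (by omega)
  rcases Nat.lt_or_ge a 30000 with h5 | h5
  · exact allB_range (f := frl_r71) (lo := 25000) (len := 5000) trc_r71_5 (by omega) (by omega)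
  rcases Nat.lt_or_ge a 35000 with h6 | h6
  · exact allB_range (f := frl_r71) (lo := 30000) (len := 5000) trc_r71_6 (by omega) (by omega)
  rcases Nat.lt_or_ge a 40000 with h7 | h7
  · exact allB_range (f := frl_r71) (lo := 35000) (len := 5000) trc_r71_7 (by omega) (by omega)
  rcases Nat.lt_or_ge a 45000 with h8 | h8
  · exact allB_range (f := frl_r71) (lo := 40000) (len := 5000) trc_r71_8 (by omega) (by omega)
  rcases Nat.lt_or_ge a 50000 with h9 | h9
  · exact allB_range (f := frl_r71) (lo := 45000) (len := 5000) trc_r71_9 (by omega) (by omega)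
  rcases Nat.lt_or_ge a 55000 with h10 | h10
  · exact allB_range (f := frl_r71) (lo := 50000) (len := 5000) trc_r71_10 (by omega) (by omega)
  rcases Nat.lt_or_ge a 60000 with h11 | h11
  · exact allB_range (f := frl_r71) (lo := 55000) (len := 5000) trc_r71_11 (by omega) (by omega)
  exact allB_range (f := frl_r71) (lo := 60000) (len := 1776) trc_r71_12 (by omega) (by omega)

theorem rel_r71 : relT tbF 0 (relWords.getD 71 []) = true := trf_r71

theorem trf_r72 : allB NB frl_r72 = true := by
  apply allB_iff.2
  intro a ha
  have ha' : a < 61776 := ha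
  rcases Nat.lt_or_ge a 7500 with h0 | h0
  · exact allB_range (f := frl_r72) (lo := 0) (len := 7500) trc_r72_0 (by omega) (by omega)
  rcases Nat.lt_or_ge a 15000 with h1 | h1
  · exact allB_range (f := frl_r72) (lo := 7500) (len := 7500) trc_r72_1 (by omega) (by omega)
  rcases Nat.lt_or_ge a 22500 with h2 | h2
  · exact allB_range (f := frl_r72) (lo := 15000) (len := 7500) trc_r72_2 (by omega) (by omega)
  rcases Nat.lt_or_ge a 30000 with h3 | h3
  · exact allB_range (f := frl_r72) (lo := 22500) (len := 7500) trc_r72_3 (by omega) (by omega)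
  rcases Nat.lt_or_ge a 37500 with h4 | h4
  · exact allB_range (f := frl_r72) (lo := 30000) (len := 7500) trc_r72_4 (by omega) (by omega)
  rcases Nat.lt_or_ge a 45000 with h5 | h5
  · exact allB_range (f := frl_r72) (lo := 37500) (len := 7500) trc_r72_5 (by omega) (by omega)
  rcases Nat.lt_or_ge a 52500 with h6 | h6
  · exact allB_range (f := frl_r72) (lo := 45000) (len := 7500) trc_r72_6 (by omega) (by omega)
  rcases Nat.lt_or_ge a 60000 with h7 | h7
  · exact allB_range (f := frl_r72) (lo := 52500) (len := 7500) trc_r72_7 (by omega) (by omega)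
  exact allB_range (f := frl_r72) (lo := 60000) (len := 1776) trc_r72_8 (by omega) (by omega)

theorem rel_r72 : relT tbF 0 (relWords.getD 72 []) = true := trf_r72

theorem trf_r73 : allB NB frl_r73 = true := by
  apply allB_iff.2
  intro a ha
  have ha' : a < 61776 := ha
  rcases Nat.lt_or_ge a 7500 with h0 | h0
  · exact allB_range (f := frl_r73) (lo := 0) (len := 7500) trc_r73_0 (by omega) (by omega)
  rcases Nat.lt_or_ge a 15000 with h1 | h1
  · exact allB_range (f := frl_r73) (lo := 7500) (len := 7500) trc_r73_1 (by omega) (by omega)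
  rcases Nat.lt_or_ge a 22500 with h2 | h2
  · exact allB_range (f := frl_r73) (lo := 15000) (len := 7500) trc_r73_2 (by omega) (by omega)
  rcases Nat.lt_or_ge a 30000 with h3 | h3
  · exact allB_range (f := frl_r73) (lo := 22500) (len := 7500) trc_r73_3 (by omega) (by omega)
  rcases Nat.lt_or_ge a 37500 with h4 | h4
  · exact allB_range (f := frl_r73) (lo := 30000) (len := 7500) trc_r73_4 (by omega) (by omega)
  rcases Nat.lt_or_ge a 45000 with h5 | h5
  · exact allB_range (f := frl_r73) (lo := 37500) (len := 7500) trc_r73_5 (by omega) (by omega)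
  rcases Nat.lt_or_ge a 52500 with h6 | h6
  · exact allB_range (f := frl_r73) (lo := 45000) (len := 7500) trc_r73_6 (by omega) (by omega)
  rcases Nat.lt_or_ge a 60000 with h7 | h7
  · exact allB_range (f := frl_r73) (lo := 52500) (len := 7500) trc_r73_7 (by omega) (by omega)
  exact allB_range (f := frl_r73) (lo := 60000) (len := 1776) trc_r73_8 (by omega) (by omega)

theorem rel_r73 : relT tbF 0 (relWords.getD 73 []) = true := trf_r73

theorem trf_r74 : allB NB frl_r74 = true := by
  apply allB_iff.2
  intro a ha
  have ha' : a < 61776 := ha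
  rcases Nat.lt_or_ge a 7500 with h0 | h0
  · exact allB_range (f := frl_r74) (lo := 0) (len := 7500) trc_r74_0 (by omega) (by omega)
  rcases Nat.lt_or_ge a 15000 with h1 | h1
  · exact allB_range (f := frl_r74) (lo := 7500) (len := 7500) trc_r74_1 (by omega) (by omega)
  rcases Nat.lt_or_ge a 22500 with h2 | h2
  · exact allB_range (f := frl_r74) (lo := 15000) (len := 7500) trc_r74_2 (by omega) (by omega)
  rcases Nat.lt_or_ge a 30000 with h3 | h3
  · exact allB_range (f := frl_r74) (lo := 22500) (len := 7500) trc_r74_3 (by omega) (by omega)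
  rcases Nat.lt_or_ge a 37500 with h4 | h4
  · exact allB_range (f := frl_r74) (lo := 30000) (len := 7500) trc_r74_4 (by omega) (by omega)
  rcases Nat.lt_or_ge a 45000 with h5 | h5
  · exact allB_range (f := frl_r74) (lo := 37500) (len := 7500) trc_r74_5 (by omega) (by omega)
  rcases Nat.lt_or_ge a 52500 with h6 | h6
  · exact allB_range (f := frl_r74) (lo := 45000) (len := 7500) trc_r74_6 (by omega) (by omega)
  rcases Nat.lt_or_ge a 60000 with h7 | h7
  · exact allB_range (f := frl_r74) (lo := 52500) (len := 7500) trc_r74_7 (by omega) (by omega)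
  exact allB_range (f := frl_r74) (lo := 60000) (len := 1776) trc_r74_8 (by omega) (by omega)

theorem rel_r74 : relT tbF 0 (relWords.getD 74 []) = true := trf_r74

theorem trf_r75 : allB NB frl_r75 = true := by
  apply allB_iff.2
  intro a ha
  have ha' : a < 61776 := ha
  rcases Nat.lt_or_ge a 7500 with h0 | h0
  · exact allB_range (f := frl_r75) (lo := 0) (len := 7500) trc_r75_0 (by omega) (by omega)
  rcases Nat.lt_or_ge a 15000 with h1 | h1
  · exact allB_range (f := frl_r75) (lo := 7500) (len := 7500) trc_r75_1 (by omega) (by omega)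
  rcases Nat.lt_or_ge a 22500 with h2 | h2
  · exact allB_range (f := frl_r75) (lo := 15000) (len := 7500) trc_r75_2 (by omega) (by omega)
  rcases Nat.lt_or_ge a 30000 with h3 | h3
  · exact allB_range (f := frl_r75) (lo := 22500) (len := 7500) trc_r75_3 (by omega) (by omega)
  rcases Nat.lt_or_ge a 37500 with h4 | h4
  · exact allB_range (f := frl_r75) (lo := 30000) (len := 7500) trc_r75_4 (by omega) (by omega)
  rcases Nat.lt_or_ge a 45000 with h5 | h5
  · exact allB_range (f := frl_r75) (lo := 37500) (len := 7500) trc_r75_5 (by omega) (by omega)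
  rcases Nat.lt_or_ge a 52500 with h6 | h6
  · exact allB_range (f := frl_r75) (lo := 45000) (len := 7500) trc_r75_6 (by omega) (by omega)
  rcases Nat.lt_or_ge a 60000 with h7 | h7
  · exact allB_range (f := frl_r75) (lo := 52500) (len := 7500) trc_r75_7 (by omega) (by omega)
  exact allB_range (f := frl_r75) (lo := 60000) (len := 1776) trc_r75_8 (by omega) (by omega)

theorem rel_r75 : relT tbF 0 (relWords.getD 75 []) = true := trf_r75

theorem trf_r76 : allB NB frl_r76 = true := by
  apply allB_iff.2
  intro a ha
  have ha' : a < 61776 := ha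
  rcases Nat.lt_or_ge a 7500 with h0 | h0
  · exact allB_range (f := frl_r76) (lo := 0) (len := 7500) trc_r76_0 (by omega) (by omega)
  rcases Nat.lt_or_ge a 15000 with h1 | h1
  · exact allB_range (f := frl_r76) (lo := 7500) (len := 7500) trc_r76_1 (by omega) (by omega)
  rcases Nat.lt_or_ge a 22500 with h2 | h2
  · exact allB_range (f := frl_r76) (lo := 15000) (len := 7500) trc_r76_2 (by omega) (by omega)
  rcases Nat.lt_or_ge a 30000 with h3 | h3
  · exact allB_range (f := frl_r76) (lo := 22500) (len := 7500) trc_r76_3 (by omega) (by omega)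
  rcases Nat.lt_or_ge a 37500 with h4 | h4
  · exact allB_range (f := frl_r76) (lo := 30000) (len := 7500) trc_r76_4 (by omega) (by omega)
  rcases Nat.lt_or_ge a 45000 with h5 | h5
  · exact allB_range (f := frl_r76) (lo := 37500) (len := 7500) trc_r76_5 (by omega) (by omega)
  rcases Nat.lt_or_ge a 52500 with h6 | h6
  · exact allB_range (f := frl_r76) (lo := 45000) (len := 7500) trc_r76_6 (by omega) (by omega)
  rcases Nat.lt_or_ge a 60000 with h7 | h7
  · exact allB_range (f := frl_r76) (lo := 52500) (len := 7500) trc_r76_7 (by omega) (by omega)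
  exact allB_range (f := frl_r76) (lo := 60000) (len := 1776) trc_r76_8 (by omega) (by omega)

theorem rel_r76 : relT tbF 0 (relWords.getD 76 []) = true := trf_r76

theorem trf_r77 : allB NB frl_r77 = true := by
  apply allB_iff.2
  intro a ha
  have ha' : a < 61776 := ha
  rcases Nat.lt_or_ge a 7500 with h0 | h0
  · exact allB_range (f := frl_r77) (lo := 0) (len := 7500) trc_r77_0 (by omega) (by omega)
  rcases Nat.lt_or_ge a 15000 with h1 | h1
  · exact allB_range (f := frl_r77) (lo := 7500) (len := 7500) trc_r77_1 (by omega) (by omega)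
  rcases Nat.lt_or_ge a 22500 with h2 | h2
  · exact allB_range (f := frl_r77) (lo := 15000) (len := 7500) trc_r77_2 (by omega) (by omega)
  rcases Nat.lt_or_ge a 30000 with h3 | h3
  · exact allB_range (f := frl_r77) (lo := 22500) (len := 7500) trc_r77_3 (by omega) (by omega)
  rcases Nat.lt_or_ge a 37500 with h4 | h4
  · exact allB_range (f := frl_r77) (lo := 30000) (len := 7500) trc_r77_4 (by omega) (by omega)
  rcases Nat.lt_or_ge a 45000 with h5 | h5
  · exact allB_range (f := frl_r77) (lo := 37500) (len := 7500) trc_r77_5 (by omega) (by omega)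
  rcases Nat.lt_or_ge a 52500 with h6 | h6
  · exact allB_range (f := frl_r77) (lo := 45000) (len := 7500) trc_r77_6 (by omega) (by omega)
  rcases Nat.lt_or_ge a 60000 with h7 | h7
  · exact allB_range (f := frl_r77) (lo := 52500) (len := 7500) trc_r77_7 (by omega) (by omega)
  exact allB_range (f := frl_r77) (lo := 60000) (len := 1776) trc_r77_8 (by omega) (by omega)

theorem rel_r77 : relT tbF 0 (relWords.getD 77 []) = true := trf_r77

theorem trf_r78 : allB NB frl_r78 = true := by
  apply allB_iff.2
  intro a ha
  have ha' : a < 61776 := ha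
  rcases Nat.lt_or_ge a 7500 with h0 | h0
  · exact allB_range (f := frl_r78) (lo := 0) (len := 7500) trc_r78_0 (by omega) (by omega)
  rcases Nat.lt_or_ge a 15000 with h1 | h1
  · exact allB_range (f := frl_r78) (lo := 7500) (len := 7500) trc_r78_1 (by omega) (by omega)
  rcases Nat.lt_or_ge a 22500 with h2 | h2
  · exact allB_range (f := frl_r78) (lo := 15000) (len := 7500) trc_r78_2 (by omega) (by omega)
  rcases Nat.lt_or_ge a 30000 with h3 | h3
  · exact allB_range (f := frl_r78) (lo := 22500) (len := 7500) trc_r78_3 (by omega) (by omega)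
  rcases Nat.lt_or_ge a 37500 with h4 | h4
  · exact allB_range (f := frl_r78) (lo := 30000) (len := 7500) trc_r78_4 (by omega) (by omega)
  rcases Nat.lt_or_ge a 45000 with h5 | h5
  · exact allB_range (f := frl_r78) (lo := 37500) (len := 7500) trc_r78_5 (by omega) (by omega)
  rcases Nat.lt_or_ge a 52500 with h6 | h6
  · exact allB_range (f := frl_r78) (lo := 45000) (len := 7500) trc_r78_6 (by omega) (by omega)
  rcases Nat.lt_or_ge a 60000 with h7 | h7
  · exact allB_range (f := frl_r78) (lo := 52500) (len := 7500) trc_r78_7 (by omega) (by omega)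
  exact allB_range (f := frl_r78) (lo := 60000) (len := 1776) trc_r78_8 (by omega) (by omega)

theorem rel_r78 : relT tbF 0 (relWords.getD 78 []) = true := trf_r78

theorem trf_r79 : allB NB frl_r79 = true := by
  apply allB_iff.2
  intro a ha
  have ha' : a < 61776 := ha
  rcases Nat.lt_or_ge a 5000 with h0 | h0
  · exact allB_range (f := frl_r79) (lo := 0) (len := 5000) trc_r79_0 (by omega) (by omega)
  rcases Nat.lt_or_ge a 10000 with h1 | h1
  · exact allB_range (f := frl_r79) (lo := 5000) (len := 5000) trc_r79_1 (by omega) (by omega)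
  rcases Nat.lt_or_ge a 15000 with h2 | h2
  · exact allB_range (f := frl_r79) (lo := 10000) (len := 5000) trc_r79_2 (by omega) (by omega)
  rcases Nat.lt_or_ge a 20000 with h3 | h3
  · exact allB_range (f := frl_r79) (lo := 15000) (len := 5000) trc_r79_3 (by omega) (by omega)
  rcases Nat.lt_or_ge a 25000 with h4 | h4
  · exact allB_range (f := frl_r79) (lo := 20000) (len := 5000) trc_r79_4 (by omega) (by omega)
  rcases Nat.lt_or_ge a 30000 with h5 | h5
  · exact allB_range (f := frl_r79) (lo := 25000) (len := 5000) trc_r79_5 (by omega) (by omega)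
  rcases Nat.lt_or_ge a 35000 with h6 | h6
  · exact allB_range (f := frl_r79) (lo := 30000) (len := 5000) trc_r79_6 (by omega) (by omega)
  rcases Nat.lt_or_ge a 40000 with h7 | h7
  · exact allB_range (f := frl_r79) (lo := 35000) (len := 5000) trc_r79_7 (by omega) (by omega)
  rcases Nat.lt_or_ge a 45000 with h8 | h8
  · exact allB_range (f := frl_r79) (lo := 40000) (len := 5000) trc_r79_8 (by omega) (by omega)
  rcases Nat.lt_or_ge a 50000 with h9 | h9
  · exact allB_range (f := frl_r79) (lo := 45000) (len := 5000) trc_r79_9 (by omega) (by omega)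
  rcases Nat.lt_or_ge a 55000 with h10 | h10
  · exact allB_range (f := frl_r79) (lo := 50000) (len := 5000) trc_r79_10 (by omega) (by omega)
  rcases Nat.lt_or_ge a 60000 with h11 | h11
  · exact allB_range (f := frl_r79) (lo := 55000) (len := 5000) trc_r79_11 (by omega) (by omega)
  exact allB_range (f := frl_r79) (lo := 60000) (len := 1776) trc_r79_12 (by omega) (by omega)

theorem rel_r79 : relT tbF 0 (relWords.getD 79 []) = true := trf_r79

theorem trf_r80 : allB NB frl_r80 = true := by
  apply allB_iff.2
  intro a ha
  have ha' : a < 61776 := ha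
  rcases Nat.lt_or_ge a 15000 with h0 | h0
  · exact allB_range (f := frl_r80) (lo := 0) (len := 15000) trc_r80_0 (by omega) (by omega)
  rcases Nat.lt_or_ge a 30000 with h1 | h1
  · exact allB_range (f := frl_r80) (lo := 15000) (len := 15000) trc_r80_1 (by omega) (by omega)
  rcases Nat.lt_or_ge a 45000 with h2 | h2
  · exact allB_range (f := frl_r80) (lo := 30000) (len := 15000) trc_r80_2 (by omega) (by omega)
  rcases Nat.lt_or_ge a 60000 with h3 | h3
  · exact allB_range (f := frl_r80) (lo := 45000) (len := 15000) trc_r80_3 (by omega) (by omega)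
  exact allB_range (f := frl_r80) (lo := 60000) (len := 1776) trc_r80_4 (by omega) (by omega)

theorem rel_r80 : relT tbF 0 (relWords.getD 80 []) = true := trf_r80

theorem trf_r81 : allB NB frl_r81 = true := by
  apply allB_iff.2
  intro a ha
  have ha' : a < 61776 := ha
  rcases Nat.lt_or_ge a 333 with h0 | h0
  · exact allB_range (f := frl_r81) (lo := 0) (len := 333) trc_r81_0 (by omega) (by omega)
  rcases Nat.lt_or_ge a 666 with h1 | h1
  · exact allB_range (f := frl_r81) (lo := 333) (len := 333) trc_r81_1 (by omega) (by omega)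
  rcases Nat.lt_or_ge a 999 with h2 | h2
  · exact allB_range (f := frl_r81) (lo := 666) (len := 333) trc_r81_2 (by omega) (by omega)
  rcases Nat.lt_or_ge a 1332 with h3 | h3
  · exact allB_range (f := frl_r81) (lo := 999) (len := 333) trc_r81_3 (by omega) (by omega)
  rcases Nat.lt_or_ge a 1665 with h4 | h4
  · exact allB_range (f := frl_r81) (lo := 1332) (len := 333) trc_r81_4 (by omega) (by omega)
  rcases Nat.lt_or_ge a 1998 with h5 | h5
  · exact allB_range (f := frl_r81) (lo := 1665) (len := 333) trc_r81_5 (by omega) (by omega)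
  rcases Nat.lt_or_ge a 2331 with h6 | h6
  · exact allB_range (f := frl_r81) (lo := 1998) (len := 333) trc_r81_6 (by omega) (by omega)
  rcases Nat.lt_or_ge a 2664 with h7 | h7
  · exact allB_range (f := frl_r81) (lo := 2331) (len := 333) trc_r81_7 (by omega) (by omega)
  rcases Nat.lt_or_ge a 2997 with h8 | h8
  · exact allB_range (f := frl_r81) (lo := 2664) (len := 333) trc_r81_8 (by omega) (by omega)
  rcases Nat.lt_or_ge a 3330 with h9 | h9
  · exact allB_range (f := frl_r81) (lo := 2997) (len := 333) trc_r81_9 (by omega) (by omega)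
  rcases Nat.lt_or_ge a 3663 with h10 | h10
  · exact allB_range (f := frl_r81) (lo := 3330) (len := 333) trc_r81_10 (by omega) (by omega)
  rcases Nat.lt_or_ge a 3996 with h11 | h11
  · exact allB_range (f := frl_r81) (lo := 3663) (len := 333) trc_r81_11 (by omega) (by omega)
  rcases Nat.lt_or_ge a 4329 with h12 | h12
  · exact allB_range (f := frl_r81) (lo := 3996) (len := 333) trc_r81_12 (by omega) (by omega)
  rcases Nat.lt_or_ge a 4662 with h13 | h13
  · exact allB_range (f := frl_r81) (lo := 4329) (len := 333) trc_r81_13 (by omega) (by omega)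
  rcases Nat.lt_or_ge a 4995 with h14 | h14
  · exact allB_range (f := frl_r81) (lo := 4662) (len := 333) trc_r81_14 (by omega) (by omega)
  rcases Nat.lt_or_ge a 5328 with h15 | h15
  · exact allB_range (f := frl_r81) (lo := 4995) (len := 333) trc_r81_15 (by omega) (by omega)
  rcases Nat.lt_or_ge a 5661 with h16 | h16
  · exact allB_range (f := frl_r81) (lo := 5328) (len := 333) trc_r81_16 (by omega) (by omega)
  rcases Nat.lt_or_ge a 5994 with h17 | h17
  · exact allB_range (f := frl_r81) (lo := 5661) (len := 333) trc_r81_17 (by omega) (by omega)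
  rcases Nat.lt_or_ge a 6327 with h18 | h18
  · exact allB_range (f := frl_r81) (lo := 5994) (len := 333) trc_r81_18 (by omega) (by omega)
  rcases Nat.lt_or_ge a 6660 with h19 | h19
  · exact allB_range (f := frl_r81) (lo := 6327) (len := 333) trc_r81_19 (by omega) (by omega)
  rcases Nat.lt_or_ge a 6993 with h20 | h20
  · exact allB_range (f := frl_r81) (lo := 6660) (len := 333) trc_r81_20 (by omega) (by omega)
  rcases Nat.lt_or_ge a 7326 with h21 | h21
  · exact allB_range (f := frl_r81) (lo := 6993) (len := 333) trc_r81_21 (by omega) (by omega)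
  rcases Nat.lt_or_ge a 7659 with h22 | h22
  · exact allB_range (f := frl_r81) (lo := 7326) (len := 333) trc_r81_22 (by omega) (by omega)
  rcases Nat.lt_or_ge a 7992 with h23 | h23
  · exact allB_range (f := frl_r81) (lo := 7659) (len := 333) trc_r81_23 (by omega) (by omega)
  rcases Nat.lt_or_ge a 8325 with h24 | h24
  · exact allB_range (f := frl_r81) (lo := 7992) (len := 333) trc_r81_24 (by omega) (by omega)
  rcases Nat.lt_or_ge a 8658 with h25 | h25
  · exact allB_range (f := frl_r81) (lo := 8325) (len := 333) trc_r81_25 (by omega) (by omega)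
  rcases Nat.lt_or_ge a 8991 with h26 | h26
  · exact allB_range (f := frl_r81) (lo := 8658) (len := 333) trc_r81_26 (by omega) (by omega)
  rcases Nat.lt_or_ge a 9324 with h27 | h27
  · exact allB_range (f := frl_r81) (lo := 8991) (len := 333) trc_r81_27 (by omega) (by omega)
  rcases Nat.lt_or_ge a 9657 with h28 | h28
  · exact allB_range (f := frl_r81) (lo := 9324) (len := 333) trc_r81_28 (by omega) (by omega)
  rcases Nat.lt_or_ge a 9990 with h29 | h29
  · exact allB_range (f := frl_r81) (lo := 9657) (len := 333) trc_r81_29 (by omega) (by omega)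
  rcases Nat.lt_or_ge a 10323 with h30 | h30
  · exact allB_range (f := frl_r81) (lo := 9990) (len := 333) trc_r81_30 (by omega) (by omega)
  rcases Nat.lt_or_ge a 10656 with h31 | h31
  · exact allB_range (f := frl_r81) (lo := 10323) (len := 333) trc_r81_31 (by omega) (by omega)
  rcases Nat.lt_or_ge a 10989 with h32 | h32
  · exact allB_range (f := frl_r81) (lo := 10656) (len := 333) trc_r81_32 (by omega) (by omega)
  rcases Nat.lt_or_ge a 11322 with h33 | h33
  · exact allB_range (f := frl_r81) (lo := 10989) (len := 333) trc_r81_33 (by omega) (by omega)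
  rcases Nat.lt_or_ge a 11655 with h34 | h34
  · exact allB_range (f := frl_r81) (lo := 11322) (len := 333) trc_r81_34 (by omega) (by omega)
  rcases Nat.lt_or_ge a 11988 with h35 | h35
  · exact allB_range (f := frl_r81) (lo := 11655) (len := 333) trc_r81_35 (by omega) (by omega)
  rcases Nat.lt_or_ge a 12321 with h36 | h36
  · exact allB_range (f := frl_r81) (lo := 11988) (len := 333) trc_r81_36 (by omega) (by omega)
  rcases Nat.lt_or_ge a 12654 with h37 | h37
  · exact allB_range (f := frl_r81) (lo := 12321) (len := 333) trc_r81_37 (by omega) (by omega)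
  rcases Nat.lt_or_ge a 12987 with h38 | h38
  · exact allB_range (f := frl_r81) (lo := 12654) (len := 333) trc_r81_38 (by omega) (by omega)
  rcases Nat.lt_or_ge a 13320 with h39 | h39
  · exact allB_range (f := frl_r81) (lo := 12987) (len := 333) trc_r81_39 (by omega) (by omega)
  rcases Nat.lt_or_ge a 13653 with h40 | h40
  · exact allB_range (f := frl_r81) (lo := 13320) (len := 333) trc_r81_40 (by omega) (by omega)
  rcases Nat.lt_or_ge a 13986 with h41 | h41
  · exact allB_range (f := frl_r81) (lo := 13653) (len := 333) trc_r81_41 (by omega) (by omega)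
  rcases Nat.lt_or_ge a 14319 with h42 | h42
  · exact allB_range (f := frl_r81) (lo := 13986) (len := 333) trc_r81_42 (by omega) (by omega)
  rcases Nat.lt_or_ge a 14652 with h43 | h43
  · exact allB_range (f := frl_r81) (lo := 14319) (len := 333) trc_r81_43 (by omega) (by omega)
  rcases Nat.lt_or_ge a 14985 with h44 | h44
  · exact allB_range (f := frl_r81) (lo := 14652) (len := 333) trc_r81_44 (by omega) (by omega)
  rcases Nat.lt_or_ge a 15318 with h45 | h45
  · exact allB_range (f := frl_r81) (lo := 14985) (len := 333) trc_r81_45 (by omega) (by omega)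
  rcases Nat.lt_or_ge a 15651 with h46 | h46
  · exact allB_range (f := frl_r81) (lo := 15318) (len := 333) trc_r81_46 (by omega) (by omega)
  rcases Nat.lt_or_ge a 15984 with h47 | h47
  · exact allB_range (f := frl_r81) (lo := 15651) (len := 333) trc_r81_47 (by omega) (by omega)
  rcases Nat.lt_or_ge a 16317 with h48 | h48
  · exact allB_range (f := frl_r81) (lo := 15984) (len := 333) trc_r81_48 (by omega) (by omega)
  rcases Nat.lt_or_ge a 16650 with h49 | h49
  · exact allB_range (f := frl_r81) (lo := 16317) (len := 333) trc_r81_49 (by omega) (by omega)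
  rcases Nat.lt_or_ge a 16983 with h50 | h50
  · exact allB_range (f := frl_r81) (lo := 16650) (len := 333) trc_r81_50 (by omega) (by omega)
  rcases Nat.lt_or_ge a 17316 with h51 | h51
  · exact allB_range (f := frl_r81) (lo := 16983) (len := 333) trc_r81_51 (by omega) (by omega)
  rcases Nat.lt_or_ge a 17649 with h52 | h52
  · exact allB_range (f := frl_r81) (lo := 17316) (len := 333) trc_r81_52 (by omega) (by omega)
  rcases Nat.lt_or_ge a 17982 with h53 | h53
  · exact allB_range (f := frl_r81) (lo := 17649) (len := 333) trc_r81_53 (by omega) (by omega)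
  rcases Nat.lt_or_ge a 18315 with h54 | h54
  · exact allB_range (f := frl_r81) (lo := 17982) (len := 333) trc_r81_54 (by omega) (by omega)
  rcases Nat.lt_or_ge a 18648 with h55 | h55
  · exact allB_range (f := frl_r81) (lo := 18315) (len := 333) trc_r81_55 (by omega) (by omega)
  rcases Nat.lt_or_ge a 18981 with h56 | h56
  · exact allB_range (f := frl_r81) (lo := 18648) (len := 333) trc_r81_56 (by omega) (by omega)
  rcases Nat.lt_or_ge a 19314 with h57 | h57
  · exact allB_range (f := frl_r81) (lo := 18981) (len := 333) trc_r81_57 (by omega) (by omega)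
  rcases Nat.lt_or_ge a 19647 with h58 | h58
  · exact allB_range (f := frl_r81) (lo := 19314) (len := 333) trc_r81_58 (by omega) (by omega)
  rcases Nat.lt_or_ge a 19980 with h59 | h59
  · exact allB_range (f := frl_r81) (lo := 19647) (len := 333) trc_r81_59 (by omega) (by omega)
  rcases Nat.lt_or_ge a 20313 with h60 | h60
  · exact allB_range (f := frl_r81) (lo := 19980) (len := 333) trc_r81_60 (by omega) (by omega)
  rcases Nat.lt_or_ge a 20646 with h61 | h61
  · exact allB_range (f := frl_r81) (lo := 20313) (len := 333) trc_r81_61 (by omega) (by omega)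
  rcases Nat.lt_or_ge a 20979 with h62 | h62
  · exact allB_range (f := frl_r81) (lo := 20646) (len := 333) trc_r81_62 (by omega) (by omega)
  rcases Nat.lt_or_ge a 21312 with h63 | h63
  · exact allB_range (f := frl_r81) (lo := 20979) (len := 333) trc_r81_63 (by omega) (by omega)
  rcases Nat.lt_or_ge a 21645 with h64 | h64
  · exact allB_range (f := frl_r81) (lo := 21312) (len := 333) trc_r81_64 (by omega) (by omega)
  rcases Nat.lt_or_ge a 21978 with h65 | h65
  · exact allB_range (f := frl_r81) (lo := 21645) (len := 333) trc_r81_65 (by omega) (by omega)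
  rcases Nat.lt_or_ge a 22311 with h66 | h66
  · exact allB_range (f := frl_r81) (lo := 21978) (len := 333) trc_r81_66 (by omega) (by omega)
  rcases Nat.lt_or_ge a 22644 with h67 | h67
  · exact allB_range (f := frl_r81) (lo := 22311) (len := 333) trc_r81_67 (by omega) (by omega)
  rcases Nat.lt_or_ge a 22977 with h68 | h68
  · exact allB_range (f := frl_r81) (lo := 22644) (len := 333) trc_r81_68 (by omega) (by omega)
  rcases Nat.lt_or_ge a 23310 with h69 | h69
  · exact allB_range (f := frl_r81) (lo := 22977) (len := 333) trc_r81_69 (by omega) (by omega)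
  rcases Nat.lt_or_ge a 23643 with h70 | h70
  · exact allB_range (f := frl_r81) (lo := 23310) (len := 333) trc_r81_70 (by omega) (by omega)
  rcases Nat.lt_or_ge a 23976 with h71 | h71
  · exact allB_range (f := frl_r81) (lo := 23643) (len := 333) trc_r81_71 (by omega) (by omega)
  rcases Nat.lt_or_ge a 24309 with h72 | h72
  · exact allB_range (f := frl_r81) (lo := 23976) (len := 333) trc_r81_72 (by omega) (by omega)
  rcases Nat.lt_or_ge a 24642 with h73 | h73
  · exact allB_range (f := frl_r81) (lo := 24309) (len := 333) trc_r81_73 (by omega) (by omega)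
  rcases Nat.lt_or_ge a 24975 with h74 | h74
  · exact allB_range (f := frl_r81) (lo := 24642) (len := 333) trc_r81_74 (by omega) (by omega)
  rcases Nat.lt_or_ge a 25308 with h75 | h75
  · exact allB_range (f := frl_r81) (lo := 24975) (len := 333) trc_r81_75 (by omega) (by omega)
  rcases Nat.lt_or_ge a 25641 with h76 | h76
  · exact allB_range (f := frl_r81) (lo := 25308) (len := 333) trc_r81_76 (by omega) (by omega)
  rcases Nat.lt_or_ge a 25974 with h77 | h77
  · exact allB_range (f := frl_r81) (lo := 25641) (len := 333) trc_r81_77 (by omega) (by omega)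
  rcases Nat.lt_or_ge a 26307 with h78 | h78
  · exact allB_range (f := frl_r81) (lo := 25974) (len := 333) trc_r81_78 (by omega) (by omega)
  rcases Nat.lt_or_ge a 26640 with h79 | h79
  · exact allB_range (f := frl_r81) (lo := 26307) (len := 333) trc_r81_79 (by omega) (by omega)
  rcases Nat.lt_or_ge a 26973 with h80 | h80
  · exact allB_range (f := frl_r81) (lo := 26640) (len := 333) trc_r81_80 (by omega) (by omega)
  rcases Nat.lt_or_ge a 27306 with h81 | h81
  · exact allB_range (f := frl_r81) (lo := 26973) (len := 333) trc_r81_81 (by omega) (by omega)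
  rcases Nat.lt_or_ge a 27639 with h82 | h82
  · exact allB_range (f := frl_r81) (lo := 27306) (len := 333) trc_r81_82 (by omega) (by omega)
  rcases Nat.lt_or_ge a 27972 with h83 | h83
  · exact allB_range (f := frl_r81) (lo := 27639) (len := 333) trc_r81_83 (by omega) (by omega)
  rcases Nat.lt_or_ge a 28305 with h84 | h84
  · exact allB_range (f := frl_r81) (lo := 27972) (len := 333) trc_r81_84 (by omega) (by omega)
  rcases Nat.lt_or_ge a 28638 with h85 | h85
  · exact allB_range (f := frl_r81) (lo := 28305) (len := 333) trc_r81_85 (by omega) (by omega)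
  rcases Nat.lt_or_ge a 28971 with h86 | h86
  · exact allB_range (f := frl_r81) (lo := 28638) (len := 333) trc_r81_86 (by omega) (by omega)
  rcases Nat.lt_or_ge a 29304 with h87 | h87
  · exact allB_range (f := frl_r81) (lo := 28971) (len := 333) trc_r81_87 (by omega) (by omega)
  rcases Nat.lt_or_ge a 29637 with h88 | h88
  · exact allB_range (f := frl_r81) (lo := 29304) (len := 333) trc_r81_88 (by omega) (by omega)
  rcases Nat.lt_or_ge a 29970 with h89 | h89
  · exact allB_range (f := frl_r81) (lo := 29637) (len := 333) trc_r81_89 (by omega) (by omega)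
  rcases Nat.lt_or_ge a 30303 with h90 | h90
  · exact allB_range (f := frl_r81) (lo := 29970) (len := 333) trc_r81_90 (by omega) (by omega)
  rcases Nat.lt_or_ge a 30636 with h91 | h91
  · exact allB_range (f := frl_r81) (lo := 30303) (len := 333) trc_r81_91 (by omega) (by omega)
  rcases Nat.lt_or_ge a 30969 with h92 | h92
  · exact allB_range (f := frl_r81) (lo := 30636) (len := 333) trc_r81_92 (by omega) (by omega)
  rcases Nat.lt_or_ge a 31302 with h93 | h93
  · exact allB_range (f := frl_r81) (lo := 30969) (len := 333) trc_r81_93 (by omega) (by omega)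
  rcases Nat.lt_or_ge a 31635 with h94 | h94
  · exact allB_range (f := frl_r81) (lo := 31302) (len := 333) trc_r81_94 (by omega) (by omega)
  rcases Nat.lt_or_ge a 31968 with h95 | h95
  · exact allB_range (f := frl_r81) (lo := 31635) (len := 333) trc_r81_95 (by omega) (by omega)
  rcases Nat.lt_or_ge a 32301 with h96 | h96
  · exact allB_range (f := frl_r81) (lo := 31968) (len := 333) trc_r81_96 (by omega) (by omega)
  rcases Nat.lt_or_ge a 32634 with h97 | h97
  · exact allB_range (f := frl_r81) (lo := 32301) (len := 333) trc_r81_97 (by omega) (by omega)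
  rcases Nat.lt_or_ge a 32967 with h98 | h98
  · exact allB_range (f := frl_r81) (lo := 32634) (len := 333) trc_r81_98 (by omega) (by omega)
  rcases Nat.lt_or_ge a 33300 with h99 | h99
  · exact allB_range (f := frl_r81) (lo := 32967) (len := 333) trc_r81_99 (by omega) (by omega)
  rcases Nat.lt_or_ge a 33633 with h100 | h100
  · exact allB_range (f := frl_r81) (lo := 33300) (len := 333) trc_r81_100 (by omega) (by omega)
  rcases Nat.lt_or_ge a 33966 with h101 | h101
  · exact allB_range (f := frl_r81) (lo := 33633) (len := 333) trc_r81_101 (by omega) (by omega)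
  rcases Nat.lt_or_ge a 34299 with h102 | h102
  · exact allB_range (f := frl_r81) (lo := 33966) (len := 333) trc_r81_102 (by omega) (by omega)
  rcases Nat.lt_or_ge a 34632 with h103 | h103
  · exact allB_range (f := frl_r81) (lo := 34299) (len := 333) trc_r81_103 (by omega) (by omega)
  rcases Nat.lt_or_ge a 34965 with h104 | h104
  · exact allB_range (f := frl_r81) (lo := 34632) (len := 333) trc_r81_104 (by omega) (by omega)
  rcases Nat.lt_or_ge a 35298 with h105 | h105
  · exact allB_range (f := frl_r81) (lo := 34965) (len := 333) trc_r81_105 (by omega) (by omega)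
  rcases Nat.lt_or_ge a 35631 with h106 | h106
  · exact allB_range (f := frl_r81) (lo := 35298) (len := 333) trc_r81_106 (by omega) (by omega)
  rcases Nat.lt_or_ge a 35964 with h107 | h107
  · exact allB_range (f := frl_r81) (lo := 35631) (len := 333) trc_r81_107 (by omega) (by omega)
  rcases Nat.lt_or_ge a 36297 with h108 | h108
  · exact allB_range (f := frl_r81) (lo := 35964) (len := 333) trc_r81_108 (by omega) (by omega)
  rcases Nat.lt_or_ge a 36630 with h109 | h109
  · exact allB_range (f := frl_r81) (lo := 36297) (len := 333) trc_r81_109 (by omega) (by omega)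
  rcases Nat.lt_or_ge a 36963 with h110 | h110
  · exact allB_range (f := frl_r81) (lo := 36630) (len := 333) trc_r81_110 (by omega) (by omega)
  rcases Nat.lt_or_ge a 37296 with h111 | h111
  · exact allB_range (f := frl_r81) (lo := 36963) (len := 333) trc_r81_111 (by omega) (by omega)
  rcases Nat.lt_or_ge a 37629 with h112 | h112
  · exact allB_range (f := frl_r81) (lo := 37296) (len := 333) trc_r81_112 (by omega) (by omega)
  rcases Nat.lt_or_ge a 37962 with h113 | h113
  · exact allB_range (f := frl_r81) (lo := 37629) (len := 333) trc_r81_113 (by omega) (by omega)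
  rcases Nat.lt_or_ge a 38295 with h114 | h114
  · exact allB_range (f := frl_r81) (lo := 37962) (len := 333) trc_r81_114 (by omega) (by omega)
  rcases Nat.lt_or_ge a 38628 with h115 | h115
  · exact allB_range (f := frl_r81) (lo := 38295) (len := 333) trc_r81_115 (by omega) (by omega)
  rcases Nat.lt_or_ge a 38961 with h116 | h116
  · exact allB_range (f := frl_r81) (lo := 38628) (len := 333) trc_r81_116 (by omega) (by omega)
  rcases Nat.lt_or_ge a 39294 with h117 | h117
  · exact allB_range (f := frl_r81) (lo := 38961) (len := 333) trc_r81_117 (by omega) (by omega)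
  rcases Nat.lt_or_ge a 39627 with h118 | h118
  · exact allB_range (f := frl_r81) (lo := 39294) (len := 333) trc_r81_118 (by omega) (by omega)
  rcases Nat.lt_or_ge a 39960 with h119 | h119
  · exact allB_range (f := frl_r81) (lo := 39627) (len := 333) trc_r81_119 (by omega) (by omega)
  rcases Nat.lt_or_ge a 40293 with h120 | h120
  · exact allB_range (f := frl_r81) (lo := 39960) (len := 333) trc_r81_120 (by omega) (by omega)
  rcases Nat.lt_or_ge a 40626 with h121 | h121
  · exact allB_range (f := frl_r81) (lo := 40293) (len := 333) trc_r81_121 (by omega) (by omega)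
  rcases Nat.lt_or_ge a 40959 with h122 | h122
  · exact allB_range (f := frl_r81) (lo := 40626) (len := 333) trc_r81_122 (by omega) (by omega)
  rcases Nat.lt_or_ge a 41292 with h123 | h123
  · exact allB_range (f := frl_r81) (lo := 40959) (len := 333) trc_r81_123 (by omega) (by omega)
  rcases Nat.lt_or_ge a 41625 with h124 | h124
  · exact allB_range (f := frl_r81) (lo := 41292) (len := 333) trc_r81_124 (by omega) (by omega)
  rcases Nat.lt_or_ge a 41958 with h125 | h125
  · exact allB_range (f := frl_r81) (lo := 41625) (len := 333) trc_r81_125 (by omega) (by omega)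
  rcases Nat.lt_or_ge a 42291 with h126 | h126
  · exact allB_range (f := frl_r81) (lo := 41958) (len := 333) trc_r81_126 (by omega) (by omega)
  rcases Nat.lt_or_ge a 42624 with h127 | h127
  · exact allB_range (f := frl_r81) (lo := 42291) (len := 333) trc_r81_127 (by omega) (by omega)
  rcases Nat.lt_or_ge a 42957 with h128 | h128
  · exact allB_range (f := frl_r81) (lo := 42624) (len := 333) trc_r81_128 (by omega) (by omega)
  rcases Nat.lt_or_ge a 43290 with h129 | h129
  · exact allB_range (f := frl_r81) (lo := 42957) (len := 333) trc_r81_129 (by omega) (by omega)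
  rcases Nat.lt_or_ge a 43623 with h130 | h130
  · exact allB_range (f := frl_r81) (lo := 43290) (len := 333) trc_r81_130 (by omega) (by omega)
  rcases Nat.lt_or_ge a 43956 with h131 | h131
  · exact allB_range (f := frl_r81) (lo := 43623) (len := 333) trc_r81_131 (by omega) (by omega)
  rcases Nat.lt_or_ge a 44289 with h132 | h132
  · exact allB_range (f := frl_r81) (lo := 43956) (len := 333) trc_r81_132 (by omega) (by omega)
  rcases Nat.lt_or_ge a 44622 with h133 | h133
  · exact allB_range (f := frl_r81) (lo := 44289) (len := 333) trc_r81_133 (by omega) (by omega)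
  rcases Nat.lt_or_ge a 44955 with h134 | h134
  · exact allB_range (f := frl_r81) (lo := 44622) (len := 333) trc_r81_134 (by omega) (by omega)
  rcases Nat.lt_or_ge a 45288 with h135 | h135
  · exact allB_range (f := frl_r81) (lo := 44955) (len := 333) trc_r81_135 (by omega) (by omega)
  rcases Nat.lt_or_ge a 45621 with h136 | h136
  · exact allB_range (f := frl_r81) (lo := 45288) (len := 333) trc_r81_136 (by omega) (by omega)
  rcases Nat.lt_or_ge a 45954 with h137 | h137
  · exact allB_range (f := frl_r81) (lo := 45621) (len := 333) trc_r81_137 (by omega) (by omega)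
  rcases Nat.lt_or_ge a 46287 with h138 | h138
  · exact allB_range (f := frl_r81) (lo := 45954) (len := 333) trc_r81_138 (by omega) (by omega)
  rcases Nat.lt_or_ge a 46620 with h139 | h139
  · exact allB_range (f := frl_r81) (lo := 46287) (len := 333) trc_r81_139 (by omega) (by omega)
  rcases Nat.lt_or_ge a 46953 with h140 | h140
  · exact allB_range (f := frl_r81) (lo := 46620) (len := 333) trc_r81_140 (by omega) (by omega)
  rcases Nat.lt_or_ge a 47286 with h141 | h141
  · exact allB_range (f := frl_r81) (lo := 46953) (len := 333) trc_r81_141 (by omega) (by omega)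
  rcases Nat.lt_or_ge a 47619 with h142 | h142
  · exact allB_range (f := frl_r81) (lo := 47286) (len := 333) trc_r81_142 (by omega) (by omega)
  rcases Nat.lt_or_ge a 47952 with h143 | h143
  · exact allB_range (f := frl_r81) (lo := 47619) (len := 333) trc_r81_143 (by omega) (by omega)
  rcases Nat.lt_or_ge a 48285 with h144 | h144
  · exact allB_range (f := frl_r81) (lo := 47952) (len := 333) trc_r81_144 (by omega) (by omega)
  rcases Nat.lt_or_ge a 48618 with h145 | h145
  · exact allB_range (f := frl_r81) (lo := 48285) (len := 333) trc_r81_145 (by omega) (by omega)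
  rcases Nat.lt_or_ge a 48951 with h146 | h146
  · exact allB_range (f := frl_r81) (lo := 48618) (len := 333) trc_r81_146 (by omega) (by omega)
  rcases Nat.lt_or_ge a 49284 with h147 | h147
  · exact allB_range (f := frl_r81) (lo := 48951) (len := 333) trc_r81_147 (by omega) (by omega)
  rcases Nat.lt_or_ge a 49617 with h148 | h148
  · exact allB_range (f := frl_r81) (lo := 49284) (len := 333) trc_r81_148 (by omega) (by omega)
  rcases Nat.lt_or_ge a 49950 with h149 | h149
  · exact allB_range (f := frl_r81) (lo := 49617) (len := 333) trc_r81_149 (by omega) (by omega)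
  rcases Nat.lt_or_ge a 50283 with h150 | h150
  · exact allB_range (f := frl_r81) (lo := 49950) (len := 333) trc_r81_150 (by omega) (by omega)
  rcases Nat.lt_or_ge a 50616 with h151 | h151
  · exact allB_range (f := frl_r81) (lo := 50283) (len := 333) trc_r81_151 (by omega) (by omega)
  rcases Nat.lt_or_ge a 50949 with h152 | h152
  · exact allB_range (f := frl_r81) (lo := 50616) (len := 333) trc_r81_152 (by omega) (by omega)
  rcases Nat.lt_or_ge a 51282 with h153 | h153
  · exact allB_range (f := frl_r81) (lo := 50949) (len := 333) trc_r81_153 (by omega) (by omega)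
  rcases Nat.lt_or_ge a 51615 with h154 | h154
  · exact allB_range (f := frl_r81) (lo := 51282) (len := 333) trc_r81_154 (by omega) (by omega)
  rcases Nat.lt_or_ge a 51948 with h155 | h155
  · exact allB_range (f := frl_r81) (lo := 51615) (len := 333) trc_r81_155 (by omega) (by omega)
  rcases Nat.lt_or_ge a 52281 with h156 | h156
  · exact allB_range (f := frl_r81) (lo := 51948) (len := 333) trc_r81_156 (by omega) (by omega)
  rcases Nat.lt_or_ge a 52614 with h157 | h157
  · exact allB_range (f := frl_r81) (lo := 52281) (len := 333) trc_r81_157 (by omega) (by omega)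
  rcases Nat.lt_or_ge a 52947 with h158 | h158
  · exact allB_range (f := frl_r81) (lo := 52614) (len := 333) trc_r81_158 (by omega) (by omega)
  rcases Nat.lt_or_ge a 53280 with h159 | h159
  · exact allB_range (f := frl_r81) (lo := 52947) (len := 333) trc_r81_159 (by omega) (by omega)
  rcases Nat.lt_or_ge a 53613 with h160 | h160
  · exact allB_range (f := frl_r81) (lo := 53280) (len := 333) trc_r81_160 (by omega) (by omega)
  rcases Nat.lt_or_ge a 53946 with h161 | h161
  · exact allB_range (f := frl_r81) (lo := 53613) (len := 333) trc_r81_161 (by omega) (by omega)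
  rcases Nat.lt_or_ge a 54279 with h162 | h162
  · exact allB_range (f := frl_r81) (lo := 53946) (len := 333) trc_r81_162 (by omega) (by omega)
  rcases Nat.lt_or_ge a 54612 with h163 | h163
  · exact allB_range (f := frl_r81) (lo := 54279) (len := 333) trc_r81_163 (by omega) (by omega)
  rcases Nat.lt_or_ge a 54945 with h164 | h164
  · exact allB_range (f := frl_r81) (lo := 54612) (len := 333) trc_r81_164 (by omega) (by omega)
  rcases Nat.lt_or_ge a 55278 with h165 | h165
  · exact allB_range (f := frl_r81) (lo := 54945) (len := 333) trc_r81_165 (by omega) (by omega)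
  rcases Nat.lt_or_ge a 55611 with h166 | h166
  · exact allB_range (f := frl_r81) (lo := 55278) (len := 333) trc_r81_166 (by omega) (by omega)
  rcases Nat.lt_or_ge a 55944 with h167 | h167
  · exact allB_range (f := frl_r81) (lo := 55611) (len := 333) trc_r81_167 (by omega) (by omega)
  rcases Nat.lt_or_ge a 56277 with h168 | h168
  · exact allB_range (f := frl_r81) (lo := 55944) (len := 333) trc_r81_168 (by omega) (by omega)
  rcases Nat.lt_or_ge a 56610 with h169 | h169
  · exact allB_range (f := frl_r81) (lo := 56277) (len := 333) trc_r81_169 (by omega) (by omega)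
  rcases Nat.lt_or_ge a 56943 with h170 | h170
  · exact allB_range (f := frl_r81) (lo := 56610) (len := 333) trc_r81_170 (by omega) (by omega)
  rcases Nat.lt_or_ge a 57276 with h171 | h171
  · exact allB_range (f := frl_r81) (lo := 56943) (len := 333) trc_r81_171 (by omega) (by omega)
  rcases Nat.lt_or_ge a 57609 with h172 | h172
  · exact allB_range (f := frl_r81) (lo := 57276) (len := 333) trc_r81_172 (by omega) (by omega)
  rcases Nat.lt_or_ge a 57942 with h173 | h173
  · exact allB_range (f := frl_r81) (lo := 57609) (len := 333) trc_r81_173 (by omega) (by omega)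
  rcases Nat.lt_or_ge a 58275 with h174 | h174
  · exact allB_range (f := frl_r81) (lo := 57942) (len := 333) trc_r81_174 (by omega) (by omega)
  rcases Nat.lt_or_ge a 58608 with h175 | h175
  · exact allB_range (f := frl_r81) (lo := 58275) (len := 333) trc_r81_175 (by omega) (by omega)
  rcases Nat.lt_or_ge a 58941 with h176 | h176
  · exact allB_range (f := frl_r81) (lo := 58608) (len := 333) trc_r81_176 (by omega) (by omega)
  rcases Nat.lt_or_ge a 59274 with h177 | h177
  · exact allB_range (f := frl_r81) (lo := 58941) (len := 333) trc_r81_177 (by omega) (by omega)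
  rcases Nat.lt_or_ge a 59607 with h178 | h178
  · exact allB_range (f := frl_r81) (lo := 59274) (len := 333) trc_r81_178 (by omega) (by omega)
  rcases Nat.lt_or_ge a 59940 with h179 | h179
  · exact allB_range (f := frl_r81) (lo := 59607) (len := 333) trc_r81_179 (by omega) (by omega)
  rcases Nat.lt_or_ge a 60273 with h180 | h180
  · exact allB_range (f := frl_r81) (lo := 59940) (len := 333) trc_r81_180 (by omega) (by omega)
  rcases Nat.lt_or_ge a 60606 with h181 | h181
  · exact allB_range (f := frl_r81) (lo := 60273) (len := 333) trc_r81_181 (by omega) (by omega)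
  rcases Nat.lt_or_ge a 60939 with h182 | h182
  · exact allB_range (f := frl_r81) (lo := 60606) (len := 333) trc_r81_182 (by omega) (by omega)
  rcases Nat.lt_or_ge a 61272 with h183 | h183
  · exact allB_range (f := frl_r81) (lo := 60939) (len := 333) trc_r81_183 (by omega) (by omega)
  rcases Nat.lt_or_ge a 61605 with h184 | h184
  · exact allB_range (f := frl_r81) (lo := 61272) (len := 333) trc_r81_184 (by omega) (by omega)
  exact allB_range (f := frl_r81) (lo := 61605) (len := 171) trc_r81_185 (by omega) (by omega)

theorem rel_r81 : relT tbF 4 (relWords.getD 81 []) = true := trf_r81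

theorem trf_r82 : allB NB frl_r82 = true := by
  apply allB_iff.2
  intro a ha
  have ha' : a < 61776 := ha
  rcases Nat.lt_or_ge a 476 with h0 | h0
  · exact allB_range (f := frl_r82) (lo := 0) (len := 476) trc_r82_0 (by omega) (by omega)
  rcases Nat.lt_or_ge a 952 with h1 | h1
  · exact allB_range (f := frl_r82) (lo := 476) (len := 476) trc_r82_1 (by omega) (by omega)
  rcases Nat.lt_or_ge a 1428 with h2 | h2
  · exact allB_range (f := frl_r82) (lo := 952) (len := 476) trc_r82_2 (by omega) (by omega)
  rcases Nat.lt_or_ge a 1904 with h3 | h3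
  · exact allB_range (f := frl_r82) (lo := 1428) (len := 476) trc_r82_3 (by omega) (by omega)
  rcases Nat.lt_or_ge a 2380 with h4 | h4
  · exact allB_range (f := frl_r82) (lo := 1904) (len := 476) trc_r82_4 (by omega) (by omega)
  rcases Nat.lt_or_ge a 2856 with h5 | h5
  · exact allB_range (f := frl_r82) (lo := 2380) (len := 476) trc_r82_5 (by omega) (by omega)
  rcases Nat.lt_or_ge a 3332 with h6 | h6
  · exact allB_range (f := frl_r82) (lo := 2856) (len := 476) trc_r82_6 (by omega) (by omega)
  rcases Nat.lt_or_ge a 3808 with h7 | h7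
  · exact allB_range (f := frl_r82) (lo := 3332) (len := 476) trc_r82_7 (by omega) (by omega)
  rcases Nat.lt_or_ge a 4284 with h8 | h8
  · exact allB_range (f := frl_r82) (lo := 3808) (len := 476) trc_r82_8 (by omega) (by omega)
  rcases Nat.lt_or_ge a 4760 with h9 | h9
  · exact allB_range (f := frl_r82) (lo := 4284) (len := 476) trc_r82_9 (by omega) (by omega)
  rcases Nat.lt_or_ge a 5236 with h10 | h10
  · exact allB_range (f := frl_r82) (lo := 4760) (len := 476) trc_r82_10 (by omega) (by omega)
  rcases Nat.lt_or_ge a 5712 with h11 | h11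
  · exact allB_range (f := frl_r82) (lo := 5236) (len := 476) trc_r82_11 (by omega) (by omega)
  rcases Nat.lt_or_ge a 6188 with h12 | h12
  · exact allB_range (f := frl_r82) (lo := 5712) (len := 476) trc_r82_12 (by omega) (by omega)
  rcases Nat.lt_or_ge a 6664 with h13 | h13
  · exact allB_range (f := frl_r82) (lo := 6188) (len := 476) trc_r82_13 (by omega) (by omega)
  rcases Nat.lt_or_ge a 7140 with h14 | h14
  · exact allB_range (f := frl_r82) (lo := 6664) (len := 476) trc_r82_14 (by omega) (by omega)
  rcases Nat.lt_or_ge a 7616 with h15 | h15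
  · exact allB_range (f := frl_r82) (lo := 7140) (len := 476) trc_r82_15 (by omega) (by omega)
  rcases Nat.lt_or_ge a 8092 with h16 | h16
  · exact allB_range (f := frl_r82) (lo := 7616) (len := 476) trc_r82_16 (by omega) (by omega)
  rcases Nat.lt_or_ge a 8568 with h17 | h17
  · exact allB_range (f := frl_r82) (lo := 8092) (len := 476) trc_r82_17 (by omega) (by omega)
  rcases Nat.lt_or_ge a 9044 with h18 | h18
  · exact allB_range (f := frl_r82) (lo := 8568) (len := 476) trc_r82_18 (by omega) (by omega)
  rcases Nat.lt_or_ge a 9520 with h19 | h19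
  · exact allB_range (f := frl_r82) (lo := 9044) (len := 476) trc_r82_19 (by omega) (by omega)
  rcases Nat.lt_or_ge a 9996 with h20 | h20
  · exact allB_range (f := frl_r82) (lo := 9520) (len := 476) trc_r82_20 (by omega) (by omega)
  rcases Nat.lt_or_ge a 10472 with h21 | h21
  · exact allB_range (f := frl_r82) (lo := 9996) (len := 476) trc_r82_21 (by omega) (by omega)
  rcases Nat.lt_or_ge a 10948 with h22 | h22
  · exact allB_range (f := frl_r82) (lo := 10472) (len := 476) trc_r82_22 (by omega) (by omega)
  rcases Nat.lt_or_ge a 11424 with h23 | h23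
  · exact allB_range (f := frl_r82) (lo := 10948) (len := 476) trc_r82_23 (by omega) (by omega)
  rcases Nat.lt_or_ge a 11900 with h24 | h24
  · exact allB_range (f := frl_r82) (lo := 11424) (len := 476) trc_r82_24 (by omega) (by omega)
  rcases Nat.lt_or_ge a 12376 with h25 | h25
  · exact allB_range (f := frl_r82) (lo := 11900) (len := 476) trc_r82_25 (by omega) (by omega)
  rcases Nat.lt_or_ge a 12852 with h26 | h26
  · exact allB_range (f := frl_r82) (lo := 12376) (len := 476) trc_r82_26 (by omega) (by omega)
  rcases Nat.lt_or_ge a 13328 with h27 | h27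
  · exact allB_range (f := frl_r82) (lo := 12852) (len := 476) trc_r82_27 (by omega) (by omega)
  rcases Nat.lt_or_ge a 13804 with h28 | h28
  · exact allB_range (f := frl_r82) (lo := 13328) (len := 476) trc_r82_28 (by omega) (by omega)
  rcases Nat.lt_or_ge a 14280 with h29 | h29
  · exact allB_range (f := frl_r82) (lo := 13804) (len := 476) trc_r82_29 (by omega) (by omega)
  rcases Nat.lt_or_ge a 14756 with h30 | h30
  · exact allB_range (f := frl_r82) (lo := 14280) (len := 476) trc_r82_30 (by omega) (by omega)
  rcases Nat.lt_or_ge a 15232 with h31 | h31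
  · exact allB_range (f := frl_r82) (lo := 14756) (len := 476) trc_r82_31 (by omega) (by omega)
  rcases Nat.lt_or_ge a 15708 with h32 | h32
  · exact allB_range (f := frl_r82) (lo := 15232) (len := 476) trc_r82_32 (by omega) (by omega)
  rcases Nat.lt_or_ge a 16184 with h33 | h33
  · exact allB_range (f := frl_r82) (lo := 15708) (len := 476) trc_r82_33 (by omega) (by omega)
  rcases Nat.lt_or_ge a 16660 with h34 | h34
  · exact allB_range (f := frl_r82) (lo := 16184) (len := 476) trc_r82_34 (by omega) (by omega)
  rcases Nat.lt_or_ge a 17136 with h35 | h35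
  · exact allB_range (f := frl_r82) (lo := 16660) (len := 476) trc_r82_35 (by omega) (by omega)
  rcases Nat.lt_or_ge a 17612 with h36 | h36
  · exact allB_range (f := frl_r82) (lo := 17136) (len := 476) trc_r82_36 (by omega) (by omega)
  rcases Nat.lt_or_ge a 18088 with h37 | h37
  · exact allB_range (f := frl_r82) (lo := 17612) (len := 476) trc_r82_37 (by omega) (by omega)
  rcases Nat.lt_or_ge a 18564 with h38 | h38
  · exact allB_range (f := frl_r82) (lo := 18088) (len := 476) trc_r82_38 (by omega) (by omega)
  rcases Nat.lt_or_ge a 19040 with h39 | h39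
  · exact allB_range (f := frl_r82) (lo := 18564) (len := 476) trc_r82_39 (by omega) (by omega)
  rcases Nat.lt_or_ge a 19516 with h40 | h40
  · exact allB_range (f := frl_r82) (lo := 19040) (len := 476) trc_r82_40 (by omega) (by omega)
  rcases Nat.lt_or_ge a 19992 with h41 | h41
  · exact allB_range (f := frl_r82) (lo := 19516) (len := 476) trc_r82_41 (by omega) (by omega)
  rcases Nat.lt_or_ge a 20468 with h42 | h42
  · exact allB_range (f := frl_r82) (lo := 19992) (len := 476) trc_r82_42 (by omega) (by omega)
  rcases Nat.lt_or_ge a 20944 with h43 | h43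
  · exact allB_range (f := frl_r82) (lo := 20468) (len := 476) trc_r82_43 (by omega) (by omega)
  rcases Nat.lt_or_ge a 21420 with h44 | h44
  · exact allB_range (f := frl_r82) (lo := 20944) (len := 476) trc_r82_44 (by omega) (by omega)
  rcases Nat.lt_or_ge a 21896 with h45 | h45
  · exact allB_range (f := frl_r82) (lo := 21420) (len := 476) trc_r82_45 (by omega) (by omega)
  rcases Nat.lt_or_ge a 22372 with h46 | h46
  · exact allB_range (f := frl_r82) (lo := 21896) (len := 476) trc_r82_46 (by omega) (by omega)
  rcases Nat.lt_or_ge a 22848 with h47 | h47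
  · exact allB_range (f := frl_r82) (lo := 22372) (len := 476) trc_r82_47 (by omega) (by omega)
  rcases Nat.lt_or_ge a 23324 with h48 | h48
  · exact allB_range (f := frl_r82) (lo := 22848) (len := 476) trc_r82_48 (by omega) (by omega)
  rcases Nat.lt_or_ge a 23800 with h49 | h49
  · exact allB_range (f := frl_r82) (lo := 23324) (len := 476) trc_r82_49 (by omega) (by omega)
  rcases Nat.lt_or_ge a 24276 with h50 | h50
  · exact allB_range (f := frl_r82) (lo := 23800) (len := 476) trc_r82_50 (by omega) (by omega)
  rcases Nat.lt_or_ge a 24752 with h51 | h51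
  · exact allB_range (f := frl_r82) (lo := 24276) (len := 476) trc_r82_51 (by omega) (by omega)
  rcases Nat.lt_or_ge a 25228 with h52 | h52
  · exact allB_range (f := frl_r82) (lo := 24752) (len := 476) trc_r82_52 (by omega) (by omega)
  rcases Nat.lt_or_ge a 25704 with h53 | h53
  · exact allB_range (f := frl_r82) (lo := 25228) (len := 476) trc_r82_53 (by omega) (by omega)
  rcases Nat.lt_or_ge a 26180 with h54 | h54
  · exact allB_range (f := frl_r82) (lo := 25704) (len := 476) trc_r82_54 (by omega) (by omega)
  rcases Nat.lt_or_ge a 26656 with h55 | h55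
  · exact allB_range (f := frl_r82) (lo := 26180) (len := 476) trc_r82_55 (by omega) (by omega)
  rcases Nat.lt_or_ge a 27132 with h56 | h56
  · exact allB_range (f := frl_r82) (lo := 26656) (len := 476) trc_r82_56 (by omega) (by omega)
  rcases Nat.lt_or_ge a 27608 with h57 | h57
  · exact allB_range (f := frl_r82) (lo := 27132) (len := 476) trc_r82_57 (by omega) (by omega)
  rcases Nat.lt_or_ge a 28084 with h58 | h58
  · exact allB_range (f := frl_r82) (lo := 27608) (len := 476) trc_r82_58 (by omega) (by omega)
  rcases Nat.lt_or_ge a 28560 with h59 | h59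
  · exact allB_range (f := frl_r82) (lo := 28084) (len := 476) trc_r82_59 (by omega) (by omega)
  rcases Nat.lt_or_ge a 29036 with h60 | h60
  · exact allB_range (f := frl_r82) (lo := 28560) (len := 476) trc_r82_60 (by omega) (by omega)
  rcases Nat.lt_or_ge a 29512 with h61 | h61
  · exact allB_range (f := frl_r82) (lo := 29036) (len := 476) trc_r82_61 (by omega) (by omega)
  rcases Nat.lt_or_ge a 29988 with h62 | h62
  · exact allB_range (f := frl_r82) (lo := 29512) (len := 476) trc_r82_62 (by omega) (by omega)
  rcases Nat.lt_or_ge a 30464 with h63 | h63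
  · exact allB_range (f := frl_r82) (lo := 29988) (len := 476) trc_r82_63 (by omega) (by omega)
  rcases Nat.lt_or_ge a 30940 with h64 | h64
  · exact allB_range (f := frl_r82) (lo := 30464) (len := 476) trc_r82_64 (by omega) (by omega)
  rcases Nat.lt_or_ge a 31416 with h65 | h65
  · exact allB_range (f := frl_r82) (lo := 30940) (len := 476) trc_r82_65 (by omega) (by omega)
  rcases Nat.lt_or_ge a 31892 with h66 | h66
  · exact allB_range (f := frl_r82) (lo := 31416) (len := 476) trc_r82_66 (by omega) (by omega)
  rcases Nat.lt_or_ge a 32368 with h67 | h67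
  · exact allB_range (f := frl_r82) (lo := 31892) (len := 476) trc_r82_67 (by omega) (by omega)
  rcases Nat.lt_or_ge a 32844 with h68 | h68
  · exact allB_range (f := frl_r82) (lo := 32368) (len := 476) trc_r82_68 (by omega) (by omega)
  rcases Nat.lt_or_ge a 33320 with h69 | h69
  · exact allB_range (f := frl_r82) (lo := 32844) (len := 476) trc_r82_69 (by omega) (by omega)
  rcases Nat.lt_or_ge a 33796 with h70 | h70
  · exact allB_range (f := frl_r82) (lo := 33320) (len := 476) trc_r82_70 (by omega) (by omega)
  rcases Nat.lt_or_ge a 34272 with h71 | h71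
  · exact allB_range (f := frl_r82) (lo := 33796) (len := 476) trc_r82_71 (by omega) (by omega)
  rcases Nat.lt_or_ge a 34748 with h72 | h72
  · exact allB_range (f := frl_r82) (lo := 34272) (len := 476) trc_r82_72 (by omega) (by omega)
  rcases Nat.lt_or_ge a 35224 with h73 | h73
  · exact allB_range (f := frl_r82) (lo := 34748) (len := 476) trc_r82_73 (by omega) (by omega)
  rcases Nat.lt_or_ge a 35700 with h74 | h74
  · exact allB_range (f := frl_r82) (lo := 35224) (len := 476) trc_r82_74 (by omega) (by omega)
  rcases Nat.lt_or_ge a 36176 with h75 | h75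
  · exact allB_range (f := frl_r82) (lo := 35700) (len := 476) trc_r82_75 (by omega) (by omega)
  rcases Nat.lt_or_ge a 36652 with h76 | h76
  · exact allB_range (f := frl_r82) (lo := 36176) (len := 476) trc_r82_76 (by omega) (by omega)
  rcases Nat.lt_or_ge a 37128 with h77 | h77
  · exact allB_range (f := frl_r82) (lo := 36652) (len := 476) trc_r82_77 (by omega) (by omega)
  rcases Nat.lt_or_ge a 37604 with h78 | h78
  · exact allB_range (f := frl_r82) (lo := 37128) (len := 476) trc_r82_78 (by omega) (by omega)
  rcases Nat.lt_or_ge a 38080 with h79 | h79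
  · exact allB_range (f := frl_r82) (lo := 37604) (len := 476) trc_r82_79 (by omega) (by omega)
  rcases Nat.lt_or_ge a 38556 with h80 | h80
  · exact allB_range (f := frl_r82) (lo := 38080) (len := 476) trc_r82_80 (by omega) (by omega)
  rcases Nat.lt_or_ge a 39032 with h81 | h81
  · exact allB_range (f := frl_r82) (lo := 38556) (len := 476) trc_r82_81 (by omega) (by omega)
  rcases Nat.lt_or_ge a 39508 with h82 | h82
  · exact allB_range (f := frl_r82) (lo := 39032) (len := 476) trc_r82_82 (by omega) (by omega)
  rcases Nat.lt_or_ge a 39984 with h83 | h83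
  · exact allB_range (f := frl_r82) (lo := 39508) (len := 476) trc_r82_83 (by omega) (by omega)
  rcases Nat.lt_or_ge a 40460 with h84 | h84
  · exact allB_range (f := frl_r82) (lo := 39984) (len := 476) trc_r82_84 (by omega) (by omega)
  rcases Nat.lt_or_ge a 40936 with h85 | h85
  · exact allB_range (f := frl_r82) (lo := 40460) (len := 476) trc_r82_85 (by omega) (by omega)
  rcases Nat.lt_or_ge a 41412 with h86 | h86
  · exact allB_range (f := frl_r82) (lo := 40936) (len := 476) trc_r82_86 (by omega) (by omega)
  rcases Nat.lt_or_ge a 41888 with h87 | h87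
  · exact allB_range (f := frl_r82) (lo := 41412) (len := 476) trc_r82_87 (by omega) (by omega)
  rcases Nat.lt_or_ge a 42364 with h88 | h88
  · exact allB_range (f := frl_r82) (lo := 41888) (len := 476) trc_r82_88 (by omega) (by omega)
  rcases Nat.lt_or_ge a 42840 with h89 | h89
  · exact allB_range (f := frl_r82) (lo := 42364) (len := 476) trc_r82_89 (by omega) (by omega)
  rcases Nat.lt_or_ge a 43316 with h90 | h90
  · exact allB_range (f := frl_r82) (lo := 42840) (len := 476) trc_r82_90 (by omega) (by omega)
  rcases Nat.lt_or_ge a 43792 with h91 | h91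
  · exact allB_range (f := frl_r82) (lo := 43316) (len := 476) trc_r82_91 (by omega) (by omega)
  rcases Nat.lt_or_ge a 44268 with h92 | h92
  · exact allB_range (f := frl_r82) (lo := 43792) (len := 476) trc_r82_92 (by omega) (by omega)
  rcases Nat.lt_or_ge a 44744 with h93 | h93
  · exact allB_range (f := frl_r82) (lo := 44268) (len := 476) trc_r82_93 (by omega) (by omega)
  rcases Nat.lt_or_ge a 45220 with h94 | h94
  · exact allB_range (f := frl_r82) (lo := 44744) (len := 476) trc_r82_94 (by omega) (by omega)
  rcases Nat.lt_or_ge a 45696 with h95 | h95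
  · exact allB_range (f := frl_r82) (lo := 45220) (len := 476) trc_r82_95 (by omega) (by omega)
  rcases Nat.lt_or_ge a 46172 with h96 | h96
  · exact allB_range (f := frl_r82) (lo := 45696) (len := 476) trc_r82_96 (by omega) (by omega)
  rcases Nat.lt_or_ge a 46648 with h97 | h97
  · exact allB_range (f := frl_r82) (lo := 46172) (len := 476) trc_r82_97 (by omega) (by omega)
  rcases Nat.lt_or_ge a 47124 with h98 | h98
  · exact allB_range (f := frl_r82) (lo := 46648) (len := 476) trc_r82_98 (by omega) (by omega)
  rcases Nat.lt_or_ge a 47600 with h99 | h99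
  · exact allB_range (f := frl_r82) (lo := 47124) (len := 476) trc_r82_99 (by omega) (by omega)
  rcases Nat.lt_or_ge a 48076 with h100 | h100
  · exact allB_range (f := frl_r82) (lo := 47600) (len := 476) trc_r82_100 (by omega) (by omega)
  rcases Nat.lt_or_ge a 48552 with h101 | h101
  · exact allB_range (f := frl_r82) (lo := 48076) (len := 476) trc_r82_101 (by omega) (by omega)
  rcases Nat.lt_or_ge a 49028 with h102 | h102
  · exact allB_range (f := frl_r82) (lo := 48552) (len := 476) trc_r82_102 (by omega) (by omega)
  rcases Nat.lt_or_ge a 49504 with h103 | h103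
  · exact allB_range (f := frl_r82) (lo := 49028) (len := 476) trc_r82_103 (by omega) (by omega)
  rcases Nat.lt_or_ge a 49980 with h104 | h104
  · exact allB_range (f := frl_r82) (lo := 49504) (len := 476) trc_r82_104 (by omega) (by omega)
  rcases Nat.lt_or_ge a 50456 with h105 | h105
  · exact allB_range (f := frl_r82) (lo := 49980) (len := 476) trc_r82_105 (by omega) (by omega)
  rcases Nat.lt_or_ge a 50932 with h106 | h106
  · exact allB_range (f := frl_r82) (lo := 50456) (len := 476) trc_r82_106 (by omega) (by omega)
  rcases Nat.lt_or_ge a 51408 with h107 | h107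
  · exact allB_range (f := frl_r82) (lo := 50932) (len := 476) trc_r82_107 (by omega) (by omega)
  rcases Nat.lt_or_ge a 51884 with h108 | h108
  · exact allB_range (f := frl_r82) (lo := 51408) (len := 476) trc_r82_108 (by omega) (by omega)
  rcases Nat.lt_or_ge a 52360 with h109 | h109
  · exact allB_range (f := frl_r82) (lo := 51884) (len := 476) trc_r82_109 (by omega) (by omega)
  rcases Nat.lt_or_ge a 52836 with h110 | h110
  · exact allB_range (f := frl_r82) (lo := 52360) (len := 476) trc_r82_110 (by omega) (by omega)
  rcases Nat.lt_or_ge a 53312 with h111 | h111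
  · exact allB_range (f := frl_r82) (lo := 52836) (len := 476) trc_r82_111 (by omega) (by omega)
  rcases Nat.lt_or_ge a 53788 with h112 | h112
  · exact allB_range (f := frl_r82) (lo := 53312) (len := 476) trc_r82_112 (by omega) (by omega)
  rcases Nat.lt_or_ge a 54264 with h113 | h113
  · exact allB_range (f := frl_r82) (lo := 53788) (len := 476) trc_r82_113 (by omega) (by omega)
  rcases Nat.lt_or_ge a 54740 with h114 | h114
  · exact allB_range (f := frl_r82) (lo := 54264) (len := 476) trc_r82_114 (by omega) (by omega)
  rcases Nat.lt_or_ge a 55216 with h115 | h115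
  · exact allB_range (f := frl_r82) (lo := 54740) (len := 476) trc_r82_115 (by omega) (by omega)
  rcases Nat.lt_or_ge a 55692 with h116 | h116
  · exact allB_range (f := frl_r82) (lo := 55216) (len := 476) trc_r82_116 (by omega) (by omega)
  rcases Nat.lt_or_ge a 56168 with h117 | h117
  · exact allB_range (f := frl_r82) (lo := 55692) (len := 476) trc_r82_117 (by omega) (by omega)
  rcases Nat.lt_or_ge a 56644 with h118 | h118
  · exact allB_range (f := frl_r82) (lo := 56168) (len := 476) trc_r82_118 (by omega) (by omega)
  rcases Nat.lt_or_ge a 57120 with h119 | h119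
  · exact allB_range (f := frl_r82) (lo := 56644) (len := 476) trc_r82_119 (by omega) (by omega)
  rcases Nat.lt_or_ge a 57596 with h120 | h120
  · exact allB_range (f := frl_r82) (lo := 57120) (len := 476) trc_r82_120 (by omega) (by omega)
  rcases Nat.lt_or_ge a 58072 with h121 | h121
  · exact allB_range (f := frl_r82) (lo := 57596) (len := 476) trc_r82_121 (by omega) (by omega)
  rcases Nat.lt_or_ge a 58548 with h122 | h122
  · exact allB_range (f := frl_r82) (lo := 58072) (len := 476) trc_r82_122 (by omega) (by omega)
  rcases Nat.lt_or_ge a 59024 with h123 | h123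
  · exact allB_range (f := frl_r82) (lo := 58548) (len := 476) trc_r82_123 (by omega) (by omega)
  rcases Nat.lt_or_ge a 59500 with h124 | h124
  · exact allB_range (f := frl_r82) (lo := 59024) (len := 476) trc_r82_124 (by omega) (by omega)
  rcases Nat.lt_or_ge a 59976 with h125 | h125
  · exact allB_range (f := frl_r82) (lo := 59500) (len := 476) trc_r82_125 (by omega) (by omega)
  rcases Nat.lt_or_ge a 60452 with h126 | h126
  · exact allB_range (f := frl_r82) (lo := 59976) (len := 476) trc_r82_126 (by omega) (by omega)
  rcases Nat.lt_or_ge a 60928 with h127 | h127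
  · exact allB_range (f := frl_r82) (lo := 60452) (len := 476) trc_r82_127 (by omega) (by omega)
  rcases Nat.lt_or_ge a 61404 with h128 | h128
  · exact allB_range (f := frl_r82) (lo := 60928) (len := 476) trc_r82_128 (by omega) (by omega)
  exact allB_range (f := frl_r82) (lo := 61404) (len := 372) trc_r82_129 (by omega) (by omega)

theorem rel_r82 : relT tbF 0 (relWords.getD 82 []) = true := trf_r82

theorem trf_r83 : allB NB frl_r83 = true := by
  apply allB_iff.2
  intro a ha
  have ha' : a < 61776 := ha
  rcases Nat.lt_or_ge a 476 with h0 | h0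
  · exact allB_range (f := frl_r83) (lo := 0) (len := 476) trc_r83_0 (by omega) (by omega)
  rcases Nat.lt_or_ge a 952 with h1 | h1
  · exact allB_range (f := frl_r83) (lo := 476) (len := 476) trc_r83_1 (by omega) (by omega)
  rcases Nat.lt_or_ge a 1428 with h2 | h2
  · exact allB_range (f := frl_r83) (lo := 952) (len := 476) trc_r83_2 (by omega) (by omega)
  rcases Nat.lt_or_ge a 1904 with h3 | h3
  · exact allB_range (f := frl_r83) (lo := 1428) (len := 476) trc_r83_3 (by omega) (by omega)
  rcases Nat.lt_or_ge a 2380 with h4 | h4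
  · exact allB_range (f := frl_r83) (lo := 1904) (len := 476) trc_r83_4 (by omega) (by omega)
  rcases Nat.lt_or_ge a 2856 with h5 | h5
  · exact allB_range (f := frl_r83) (lo := 2380) (len := 476) trc_r83_5 (by omega) (by omega)
  rcases Nat.lt_or_ge a 3332 with h6 | h6
  · exact allB_range (f := frl_r83) (lo := 2856) (len := 476) trc_r83_6 (by omega) (by omega)
  rcases Nat.lt_or_ge a 3808 with h7 | h7
  · exact allB_range (f := frl_r83) (lo := 3332) (len := 476) trc_r83_7 (by omega) (by omega)
  rcases Nat.lt_or_ge a 4284 with h8 | h8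
  · exact allB_range (f := frl_r83) (lo := 3808) (len := 476) trc_r83_8 (by omega) (by omega)
  rcases Nat.lt_or_ge a 4760 with h9 | h9
  · exact allB_range (f := frl_r83) (lo := 4284) (len := 476) trc_r83_9 (by omega) (by omega)
  rcases Nat.lt_or_ge a 5236 with h10 | h10
  · exact allB_range (f := frl_r83) (lo := 4760) (len := 476) trc_r83_10 (by omega) (by omega)
  rcases Nat.lt_or_ge a 5712 with h11 | h11
  · exact allB_range (f := frl_r83) (lo := 5236) (len := 476) trc_r83_11 (by omega) (by omega)
  rcases Nat.lt_or_ge a 6188 with h12 | h12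
  · exact allB_range (f := frl_r83) (lo := 5712) (len := 476) trc_r83_12 (by omega) (by omega)
  rcases Nat.lt_or_ge a 6664 with h13 | h13
  · exact allB_range (f := frl_r83) (lo := 6188) (len := 476) trc_r83_13 (by omega) (by omega)
  rcases Nat.lt_or_ge a 7140 with h14 | h14
  · exact allB_range (f := frl_r83) (lo := 6664) (len := 476) trc_r83_14 (by omega) (by omega)
  rcases Nat.lt_or_ge a 7616 with h15 | h15
  · exact allB_range (f := frl_r83) (lo := 7140) (len := 476) trc_r83_15 (by omega) (by omega)
  rcases Nat.lt_or_ge a 8092 with h16 | h16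
  · exact allB_range (f := frl_r83) (lo := 7616) (len := 476) trc_r83_16 (by omega) (by omega)
  rcases Nat.lt_or_ge a 8568 with h17 | h17
  · exact allB_range (f := frl_r83) (lo := 8092) (len := 476) trc_r83_17 (by omega) (by omega)
  rcases Nat.lt_or_ge a 9044 with h18 | h18
  · exact allB_range (f := frl_r83) (lo := 8568) (len := 476) trc_r83_18 (by omega) (by omega)
  rcases Nat.lt_or_ge a 9520 with h19 | h19
  · exact allB_range (f := frl_r83) (lo := 9044) (len := 476) trc_r83_19 (by omega) (by omega)
  rcases Nat.lt_or_ge a 9996 with h20 | h20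
  · exact allB_range (f := frl_r83) (lo := 9520) (len := 476) trc_r83_20 (by omega) (by omega)
  rcases Nat.lt_or_ge a 10472 with h21 | h21
  · exact allB_range (f := frl_r83) (lo := 9996) (len := 476) trc_r83_21 (by omega) (by omega)
  rcases Nat.lt_or_ge a 10948 with h22 | h22
  · exact allB_range (f := frl_r83) (lo := 10472) (len := 476) trc_r83_22 (by omega) (by omega)
  rcases Nat.lt_or_ge a 11424 with h23 | h23
  · exact allB_range (f := frl_r83) (lo := 10948) (len := 476) trc_r83_23 (by omega) (by omega)
  rcases Nat.lt_or_ge a 11900 with h24 | h24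
  · exact allB_range (f := frl_r83) (lo := 11424) (len := 476) trc_r83_24 (by omega) (by omega)
  rcases Nat.lt_or_ge a 12376 with h25 | h25
  · exact allB_range (f := frl_r83) (lo := 11900) (len := 476) trc_r83_25 (by omega) (by omega)
  rcases Nat.lt_or_ge a 12852 with h26 | h26
  · exact allB_range (f := frl_r83) (lo := 12376) (len := 476) trc_r83_26 (by omega) (by omega)
  rcases Nat.lt_or_ge a 13328 with h27 | h27
  · exact allB_range (f := frl_r83) (lo := 12852) (len := 476) trc_r83_27 (by omega) (by omega)
  rcases Nat.lt_or_ge a 13804 with h28 | h28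
  · exact allB_range (f := frl_r83) (lo := 13328) (len := 476) trc_r83_28 (by omega) (by omega)
  rcases Nat.lt_or_ge a 14280 with h29 | h29
  · exact allB_range (f := frl_r83) (lo := 13804) (len := 476) trc_r83_29 (by omega) (by omega)
  rcases Nat.lt_or_ge a 14756 with h30 | h30
  · exact allB_range (f := frl_r83) (lo := 14280) (len := 476) trc_r83_30 (by omega) (by omega)
  rcases Nat.lt_or_ge a 15232 with h31 | h31
  · exact allB_range (f := frl_r83) (lo := 14756) (len := 476) trc_r83_31 (by omega) (by omega)
  rcases Nat.lt_or_ge a 15708 with h32 | h32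
  · exact allB_range (f := frl_r83) (lo := 15232) (len := 476) trc_r83_32 (by omega) (by omega)
  rcases Nat.lt_or_ge a 16184 with h33 | h33
  · exact allB_range (f := frl_r83) (lo := 15708) (len := 476) trc_r83_33 (by omega) (by omega)
  rcases Nat.lt_or_ge a 16660 with h34 | h34
  · exact allB_range (f := frl_r83) (lo := 16184) (len := 476) trc_r83_34 (by omega) (by omega)
  rcases Nat.lt_or_ge a 17136 with h35 | h35
  · exact allB_range (f := frl_r83) (lo := 16660) (len := 476) trc_r83_35 (by omega) (by omega)
  rcases Nat.lt_or_ge a 17612 with h36 | h36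
  · exact allB_range (f := frl_r83) (lo := 17136) (len := 476) trc_r83_36 (by omega) (by omega)
  rcases Nat.lt_or_ge a 18088 with h37 | h37
  · exact allB_range (f := frl_r83) (lo := 17612) (len := 476) trc_r83_37 (by omega) (by omega)
  rcases Nat.lt_or_ge a 18564 with h38 | h38
  · exact allB_range (f := frl_r83) (lo := 18088) (len := 476) trc_r83_38 (by omega) (by omega)
  rcases Nat.lt_or_ge a 19040 with h39 | h39
  · exact allB_range (f := frl_r83) (lo := 18564) (len := 476) trc_r83_39 (by omega) (by omega)
  rcases Nat.lt_or_ge a 19516 with h40 | h40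
  · exact allB_range (f := frl_r83) (lo := 19040) (len := 476) trc_r83_40 (by omega) (by omega)
  rcases Nat.lt_or_ge a 19992 with h41 | h41
  · exact allB_range (f := frl_r83) (lo := 19516) (len := 476) trc_r83_41 (by omega) (by omega)
  rcases Nat.lt_or_ge a 20468 with h42 | h42
  · exact allB_range (f := frl_r83) (lo := 19992) (len := 476) trc_r83_42 (by omega) (by omega)
  rcases Nat.lt_or_ge a 20944 with h43 | h43
  · exact allB_range (f := frl_r83) (lo := 20468) (len := 476) trc_r83_43 (by omega) (by omega)
  rcases Nat.lt_or_ge a 21420 with h44 | h44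
  · exact allB_range (f := frl_r83) (lo := 20944) (len := 476) trc_r83_44 (by omega) (by omega)
  rcases Nat.lt_or_ge a 21896 with h45 | h45
  · exact allB_range (f := frl_r83) (lo := 21420) (len := 476) trc_r83_45 (by omega) (by omega)
  rcases Nat.lt_or_ge a 22372 with h46 | h46
  · exact allB_range (f := frl_r83) (lo := 21896) (len := 476) trc_r83_46 (by omega) (by omega)
  rcases Nat.lt_or_ge a 22848 with h47 | h47
  · exact allB_range (f := frl_r83) (lo := 22372) (len := 476) trc_r83_47 (by omega) (by omega)
  rcases Nat.lt_or_ge a 23324 with h48 | h48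
  · exact allB_range (f := frl_r83) (lo := 22848) (len := 476) trc_r83_48 (by omega) (by omega)
  rcases Nat.lt_or_ge a 23800 with h49 | h49
  · exact allB_range (f := frl_r83) (lo := 23324) (len := 476) trc_r83_49 (by omega) (by omega)
  rcases Nat.lt_or_ge a 24276 with h50 | h50
  · exact allB_range (f := frl_r83) (lo := 23800) (len := 476) trc_r83_50 (by omega) (by omega)
  rcases Nat.lt_or_ge a 24752 with h51 | h51
  · exact allB_range (f := frl_r83) (lo := 24276) (len := 476) trc_r83_51 (by omega) (by omega)
  rcases Nat.lt_or_ge a 25228 with h52 | h52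
  · exact allB_range (f := frl_r83) (lo := 24752) (len := 476) trc_r83_52 (by omega) (by omega)
  rcases Nat.lt_or_ge a 25704 with h53 | h53
  · exact allB_range (f := frl_r83) (lo := 25228) (len := 476) trc_r83_53 (by omega) (by omega)
  rcases Nat.lt_or_ge a 26180 with h54 | h54
  · exact allB_range (f := frl_r83) (lo := 25704) (len := 476) trc_r83_54 (by omega) (by omega)
  rcases Nat.lt_or_ge a 26656 with h55 | h55
  · exact allB_range (f := frl_r83) (lo := 26180) (len := 476) trc_r83_55 (by omega) (by omega)
  rcases Nat.lt_or_ge a 27132 with h56 | h56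
  · exact allB_range (f := frl_r83) (lo := 26656) (len := 476) trc_r83_56 (by omega) (by omega)
  rcases Nat.lt_or_ge a 27608 with h57 | h57
  · exact allB_range (f := frl_r83) (lo := 27132) (len := 476) trc_r83_57 (by omega) (by omega)
  rcases Nat.lt_or_ge a 28084 with h58 | h58
  · exact allB_range (f := frl_r83) (lo := 27608) (len := 476) trc_r83_58 (by omega) (by omega)
  rcases Nat.lt_or_ge a 28560 with h59 | h59
  · exact allB_range (f := frl_r83) (lo := 28084) (len := 476) trc_r83_59 (by omega) (by omega)
  rcases Nat.lt_or_ge a 29036 with h60 | h60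
  · exact allB_range (f := frl_r83) (lo := 28560) (len := 476) trc_r83_60 (by omega) (by omega)
  rcases Nat.lt_or_ge a 29512 with h61 | h61
  · exact allB_range (f := frl_r83) (lo := 29036) (len := 476) trc_r83_61 (by omega) (by omega)
  rcases Nat.lt_or_ge a 29988 with h62 | h62
  · exact allB_range (f := frl_r83) (lo := 29512) (len := 476) trc_r83_62 (by omega) (by omega)
  rcases Nat.lt_or_ge a 30464 with h63 | h63
  · exact allB_range (f := frl_r83) (lo := 29988) (len := 476) trc_r83_63 (by omega) (by omega)
  rcases Nat.lt_or_ge a 30940 with h64 | h64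
  · exact allB_range (f := frl_r83) (lo := 30464) (len := 476) trc_r83_64 (by omega) (by omega)
  rcases Nat.lt_or_ge a 31416 with h65 | h65
  · exact allB_range (f := frl_r83) (lo := 30940) (len := 476) trc_r83_65 (by omega) (by omega)
  rcases Nat.lt_or_ge a 31892 with h66 | h66
  · exact allB_range (f := frl_r83) (lo := 31416) (len := 476) trc_r83_66 (by omega) (by omega)
  rcases Nat.lt_or_ge a 32368 with h67 | h67
  · exact allB_range (f := frl_r83) (lo := 31892) (len := 476) trc_r83_67 (by omega) (by omega)
  rcases Nat.lt_or_ge a 32844 with h68 | h68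
  · exact allB_range (f := frl_r83) (lo := 32368) (len := 476) trc_r83_68 (by omega) (by omega)
  rcases Nat.lt_or_ge a 33320 with h69 | h69
  · exact allB_range (f := frl_r83) (lo := 32844) (len := 476) trc_r83_69 (by omega) (by omega)
  rcases Nat.lt_or_ge a 33796 with h70 | h70
  · exact allB_range (f := frl_r83) (lo := 33320) (len := 476) trc_r83_70 (by omega) (by omega)
  rcases Nat.lt_or_ge a 34272 with h71 | h71
  · exact allB_range (f := frl_r83) (lo := 33796) (len := 476) trc_r83_71 (by omega) (by omega)
  rcases Nat.lt_or_ge a 34748 with h72 | h72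
  · exact allB_range (f := frl_r83) (lo := 34272) (len := 476) trc_r83_72 (by omega) (by omega)
  rcases Nat.lt_or_ge a 35224 with h73 | h73
  · exact allB_range (f := frl_r83) (lo := 34748) (len := 476) trc_r83_73 (by omega) (by omega)
  rcases Nat.lt_or_ge a 35700 with h74 | h74
  · exact allB_range (f := frl_r83) (lo := 35224) (len := 476) trc_r83_74 (by omega) (by omega)
  rcases Nat.lt_or_ge a 36176 with h75 | h75
  · exact allB_range (f := frl_r83) (lo := 35700) (len := 476) trc_r83_75 (by omega) (by omega)
  rcases Nat.lt_or_ge a 36652 with h76 | h76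
  · exact allB_range (f := frl_r83) (lo := 36176) (len := 476) trc_r83_76 (by omega) (by omega)
  rcases Nat.lt_or_ge a 37128 with h77 | h77
  · exact allB_range (f := frl_r83) (lo := 36652) (len := 476) trc_r83_77 (by omega) (by omega)
  rcases Nat.lt_or_ge a 37604 with h78 | h78
  · exact allB_range (f := frl_r83) (lo := 37128) (len := 476) trc_r83_78 (by omega) (by omega)
  rcases Nat.lt_or_ge a 38080 with h79 | h79
  · exact allB_range (f := frl_r83) (lo := 37604) (len := 476) trc_r83_79 (by omega) (by omega)
  rcases Nat.lt_or_ge a 38556 with h80 | h80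
  · exact allB_range (f := frl_r83) (lo := 38080) (len := 476) trc_r83_80 (by omega) (by omega)
  rcases Nat.lt_or_ge a 39032 with h81 | h81
  · exact allB_range (f := frl_r83) (lo := 38556) (len := 476) trc_r83_81 (by omega) (by omega)
  rcases Nat.lt_or_ge a 39508 with h82 | h82
  · exact allB_range (f := frl_r83) (lo := 39032) (len := 476) trc_r83_82 (by omega) (by omega)
  rcases Nat.lt_or_ge a 39984 with h83 | h83
  · exact allB_range (f := frl_r83) (lo := 39508) (len := 476) trc_r83_83 (by omega) (by omega)
  rcases Nat.lt_or_ge a 40460 with h84 | h84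
  · exact allB_range (f := frl_r83) (lo := 39984) (len := 476) trc_r83_84 (by omega) (by omega)
  rcases Nat.lt_or_ge a 40936 with h85 | h85
  · exact allB_range (f := frl_r83) (lo := 40460) (len := 476) trc_r83_85 (by omega) (by omega)
  rcases Nat.lt_or_ge a 41412 with h86 | h86
  · exact allB_range (f := frl_r83) (lo := 40936) (len := 476) trc_r83_86 (by omega) (by omega)
  rcases Nat.lt_or_ge a 41888 with h87 | h87
  · exact allB_range (f := frl_r83) (lo := 41412) (len := 476) trc_r83_87 (by omega) (by omega)
  rcases Nat.lt_or_ge a 42364 with h88 | h88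
  · exact allB_range (f := frl_r83) (lo := 41888) (len := 476) trc_r83_88 (by omega) (by omega)
  rcases Nat.lt_or_ge a 42840 with h89 | h89
  · exact allB_range (f := frl_r83) (lo := 42364) (len := 476) trc_r83_89 (by omega) (by omega)
  rcases Nat.lt_or_ge a 43316 with h90 | h90
  · exact allB_range (f := frl_r83) (lo := 42840) (len := 476) trc_r83_90 (by omega) (by omega)
  rcases Nat.lt_or_ge a 43792 with h91 | h91
  · exact allB_range (f := frl_r83) (lo := 43316) (len := 476) trc_r83_91 (by omega) (by omega)
  rcases Nat.lt_or_ge a 44268 with h92 | h92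
  · exact allB_range (f := frl_r83) (lo := 43792) (len := 476) trc_r83_92 (by omega) (by omega)
  rcases Nat.lt_or_ge a 44744 with h93 | h93
  · exact allB_range (f := frl_r83) (lo := 44268) (len := 476) trc_r83_93 (by omega) (by omega)
  rcases Nat.lt_or_ge a 45220 with h94 | h94
  · exact allB_range (f := frl_r83) (lo := 44744) (len := 476) trc_r83_94 (by omega) (by omega)
  rcases Nat.lt_or_ge a 45696 with h95 | h95
  · exact allB_range (f := frl_r83) (lo := 45220) (len := 476) trc_r83_95 (by omega) (by omega)
  rcases Nat.lt_or_ge a 46172 with h96 | h96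
  · exact allB_range (f := frl_r83) (lo := 45696) (len := 476) trc_r83_96 (by omega) (by omega)
  rcases Nat.lt_or_ge a 46648 with h97 | h97
  · exact allB_range (f := frl_r83) (lo := 46172) (len := 476) trc_r83_97 (by omega) (by omega)
  rcases Nat.lt_or_ge a 47124 with h98 | h98
  · exact allB_range (f := frl_r83) (lo := 46648) (len := 476) trc_r83_98 (by omega) (by omega)
  rcases Nat.lt_or_ge a 47600 with h99 | h99
  · exact allB_range (f := frl_r83) (lo := 47124) (len := 476) trc_r83_99 (by omega) (by omega)
  rcases Nat.lt_or_ge a 48076 with h100 | h100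
  · exact allB_range (f := frl_r83) (lo := 47600) (len := 476) trc_r83_100 (by omega) (by omega)
  rcases Nat.lt_or_ge a 48552 with h101 | h101
  · exact allB_range (f := frl_r83) (lo := 48076) (len := 476) trc_r83_101 (by omega) (by omega)
  rcases Nat.lt_or_ge a 49028 with h102 | h102
  · exact allB_range (f := frl_r83) (lo := 48552) (len := 476) trc_r83_102 (by omega) (by omega)
  rcases Nat.lt_or_ge a 49504 with h103 | h103
  · exact allB_range (f := frl_r83) (lo := 49028) (len := 476) trc_r83_103 (by omega) (by omega)
  rcases Nat.lt_or_ge a 49980 with h104 | h104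
  · exact allB_range (f := frl_r83) (lo := 49504) (len := 476) trc_r83_104 (by omega) (by omega)
  rcases Nat.lt_or_ge a 50456 with h105 | h105
  · exact allB_range (f := frl_r83) (lo := 49980) (len := 476) trc_r83_105 (by omega) (by omega)
  rcases Nat.lt_or_ge a 50932 with h106 | h106
  · exact allB_range (f := frl_r83) (lo := 50456) (len := 476) trc_r83_106 (by omega) (by omega)
  rcases Nat.lt_or_ge a 51408 with h107 | h107
  · exact allB_range (f := frl_r83) (lo := 50932) (len := 476) trc_r83_107 (by omega) (by omega)
  rcases Nat.lt_or_ge a 51884 with h108 | h108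
  · exact allB_range (f := frl_r83) (lo := 51408) (len := 476) trc_r83_108 (by omega) (by omega)
  rcases Nat.lt_or_ge a 52360 with h109 | h109
  · exact allB_range (f := frl_r83) (lo := 51884) (len := 476) trc_r83_109 (by omega) (by omega)
  rcases Nat.lt_or_ge a 52836 with h110 | h110
  · exact allB_range (f := frl_r83) (lo := 52360) (len := 476) trc_r83_110 (by omega) (by omega)
  rcases Nat.lt_or_ge a 53312 with h111 | h111
  · exact allB_range (f := frl_r83) (lo := 52836) (len := 476) trc_r83_111 (by omega) (by omega)
  rcases Nat.lt_or_ge a 53788 with h112 | h112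
  · exact allB_range (f := frl_r83) (lo := 53312) (len := 476) trc_r83_112 (by omega) (by omega)
  rcases Nat.lt_or_ge a 54264 with h113 | h113
  · exact allB_range (f := frl_r83) (lo := 53788) (len := 476) trc_r83_113 (by omega) (by omega)
  rcases Nat.lt_or_ge a 54740 with h114 | h114
  · exact allB_range (f := frl_r83) (lo := 54264) (len := 476) trc_r83_114 (by omega) (by omega)
  rcases Nat.lt_or_ge a 55216 with h115 | h115
  · exact allB_range (f := frl_r83) (lo := 54740) (len := 476) trc_r83_115 (by omega) (by omega)
  rcases Nat.lt_or_ge a 55692 with h116 | h116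
  · exact allB_range (f := frl_r83) (lo := 55216) (len := 476) trc_r83_116 (by omega) (by omega)
  rcases Nat.lt_or_ge a 56168 with h117 | h117
  · exact allB_range (f := frl_r83) (lo := 55692) (len := 476) trc_r83_117 (by omega) (by omega)
  rcases Nat.lt_or_ge a 56644 with h118 | h118
  · exact allB_range (f := frl_r83) (lo := 56168) (len := 476) trc_r83_118 (by omega) (by omega)
  rcases Nat.lt_or_ge a 57120 with h119 | h119
  · exact allB_range (f := frl_r83) (lo := 56644) (len := 476) trc_r83_119 (by omega) (by omega)
  rcases Nat.lt_or_ge a 57596 with h120 | h120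
  · exact allB_range (f := frl_r83) (lo := 57120) (len := 476) trc_r83_120 (by omega) (by omega)
  rcases Nat.lt_or_ge a 58072 with h121 | h121
  · exact allB_range (f := frl_r83) (lo := 57596) (len := 476) trc_r83_121 (by omega) (by omega)
  rcases Nat.lt_or_ge a 58548 with h122 | h122
  · exact allB_range (f := frl_r83) (lo := 58072) (len := 476) trc_r83_122 (by omega) (by omega)
  rcases Nat.lt_or_ge a 59024 with h123 | h123
  · exact allB_range (f := frl_r83) (lo := 58548) (len := 476) trc_r83_123 (by omega) (by omega)
  rcases Nat.lt_or_ge a 59500 with h124 | h124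
  · exact allB_range (f := frl_r83) (lo := 59024) (len := 476) trc_r83_124 (by omega) (by omega)
  rcases Nat.lt_or_ge a 59976 with h125 | h125
  · exact allB_range (f := frl_r83) (lo := 59500) (len := 476) trc_r83_125 (by omega) (by omega)
  rcases Nat.lt_or_ge a 60452 with h126 | h126
  · exact allB_range (f := frl_r83) (lo := 59976) (len := 476) trc_r83_126 (by omega) (by omega)
  rcases Nat.lt_or_ge a 60928 with h127 | h127
  · exact allB_range (f := frl_r83) (lo := 60452) (len := 476) trc_r83_127 (by omega) (by omega)
  rcases Nat.lt_or_ge a 61404 with h128 | h128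
  · exact allB_range (f := frl_r83) (lo := 60928) (len := 476) trc_r83_128 (by omega) (by omega)
  exact allB_range (f := frl_r83) (lo := 61404) (len := 372) trc_r83_129 (by omega) (by omega)

theorem rel_r83 : relT tbF 3 (relWords.getD 83 []) = true := trf_r83


end Cfsg.Agent.Lib.Helper5.Fi22Cov
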